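import Cfsg.Prelude.Def_LocalStructure
import Cfsg.Agent.H74.CharP
import Cfsg.Agent.H19.Cores
import Cfsg.Agent.H22.PResidual

/-!
`p`-closed groups and basic facts on `p`-irreducible groups.
-/

set_option autoImplicit false

namespace Cfsg.Agent.H73

open Subgroup

variable {H : Type*} [Group H] {p : ℕ}

/-- A group is `p`-closed iff some Sylow subgroup equals the `p`-core. -/
theorem pClosed_iff_sylow [Finite H] [Fact p.Prime] (P : Sylow p H) :
    IsPClosed p H ↔ (P : Subgroup H) = pCore p H := by
  constructor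
  · intro h
    exact le_antisymm (H19.le_pCore (h P) P.2) (H19.pCore_le_sylow P)
  · intro h Q
    obtain ⟨g, rfl⟩ := MulAction.exists_smul_eq H P Q
    have hn : (P : Subgroup H).Normal := h ▸ H19.pCore_normal p H
    have : g • P = P := Sylow.smul_eq_of_normal
    rw [this]; exact hn

/-- A group is `p`-closed iff all its `p`-subgroups lie in the `p`-core. -/
theorem pClosed_iff_forall [Finite H] [Fact p.Prime] :
    IsPClosed p H ↔ ∀ Q : Subgroup H, IsPGroup p Q → Q ≤ pCore p H := by
  constructor
  · intro h Q hQ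
    obtain ⟨P, hP⟩ := hQ.exists_le_sylow
    exact hP.trans ((pClosed_iff_sylow P).1 h).le
  · intro h
    obtain ⟨P⟩ := (inferInstance : Nonempty (Sylow p H))
    exact (pClosed_iff_sylow P).2 (le_antisymm (h P P.2) (H19.pCore_le_sylow P))

/-- A subgroup is `p`-closed iff all its `p`-subgroups lie in its `p`-core (computed in the group). -/
theorem pClosed_subgroup_iff [Finite H] [Fact p.Prime] (N : Subgroup H) :
    IsPClosed p ↥N ↔ ∀ Q : Subgroup H, Q ≤ N → IsPGroup p Q → Q ≤ pCoreOf p N := by
  rw [pClosed_iff_forall]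
  constructor
  · intro h Q hQN hQ
    rw [← map_subgroupOf_eq_of_le hQN]
    exact map_mono (h _ (hQ.comap_of_injective _ N.subtype_injective))
  · intro h Q hQ x hx
    obtain ⟨y, hy, hyx⟩ := h (Q.map N.subtype) (map_subtype_le _) (hQ.map _) ⟨x, hx, rfl⟩
    rwa [← Subtype.ext hyx]

/-- A `p`-closed subgroup of a subgroup inherits `p`-closedness. -/
theorem pClosed_mono [Finite H] [Fact p.Prime] {K L : Subgroup H} (hKL : K ≤ L)
    (hL : IsPClosed p ↥L) : IsPClosed p ↥K := by
  rw [pClosed_subgroup_iff] at hL ⊢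
  intro Q hQ hQp
  refine le_trans (le_inf hQ (hL Q (hQ.trans hKL) hQp)) ?_
  refine H74.le_pCoreOf inf_le_left ?_ ((H74.pCoreOf_isPGroup L).to_le inf_le_right)
  exact le_trans (le_inf le_normalizer (hKL.trans (H74.le_normalizer_pCoreOf L))) inf_normalizer_le_normalizer_inf

/-- The `p`-core of a normal subgroup is its intersection with the `p`-core. -/
theorem pCoreOf_normal [Finite H] [Fact p.Prime] (N : Subgroup H) [N.Normal] :
    pCoreOf p N = N ⊓ pCore p H := by
  refine le_antisymm (le_inf (map_subtype_le _) (H19.map_pCore_le N)) ?_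
  have := H19.pCore_normal p H
  exact H74.le_pCoreOf inf_le_left Subgroup.le_normalizer_of_normal
    ((H19.pCore_isPGroup p).to_le inf_le_right)

/-- A normal subgroup is `p`-closed iff its intersection with a Sylow subgroup lies in `O_p`. -/
theorem pClosed_normal_iff [Finite H] [Fact p.Prime] (N : Subgroup H) [N.Normal] (T : Sylow p H) :
    IsPClosed p ↥N ↔ (T : Subgroup H) ⊓ N ≤ pCore p H := by
  rw [pClosed_subgroup_iff, pCoreOf_normal]
  constructor
  · exact fun h => (h _ inf_le_right (T.2.to_le inf_le_left)).trans inf_le_right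
  · intro h Q hQN hQ
    refine le_inf hQN fun x hx => ?_
    obtain ⟨P, hP⟩ := hQ.exists_le_sylow
    obtain ⟨g, hg⟩ := MulAction.exists_smul_eq H P T
    have hgx : g * x * g⁻¹ ∈ (T : Subgroup H) := by rw [← hg]; exact ⟨x, hP hx, rfl⟩
    have h1 := h ⟨hgx, Subgroup.Normal.conj_mem inferInstance x (hQN hx) g⟩
    have := (H19.pCore_normal p H).conj_mem _ h1 g⁻¹
    simpa [mul_assoc] using this

/-- `p`-subgroups of a `p`-closed normal subgroup lie in `O_p`. -/
theorem le_pCore_of_pClosed_normal [Finite H] [Fact p.Prime] {N : Subgroup H} [N.Normal]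
    (hN : IsPClosed p ↥N) {Q : Subgroup H} (hQN : Q ≤ N) (hQ : IsPGroup p Q) : Q ≤ pCore p H :=
  ((pClosed_subgroup_iff N).1 hN Q hQN hQ).trans
    ((pCoreOf_normal (p := p) N).le.trans inf_le_right)

/-- `O^p(H)` lies in a normal subgroup that generates `H` together with a `p`-subgroup. -/
theorem pResidual_le_of_sup_pgroup [Fact p.Prime] {N Q : Subgroup H} [N.Normal]
    (hQ : IsPGroup p Q) (h : N ⊔ Q = ⊤) : pResidual p H ≤ N := by
  refine H22.pResidual_le_of_isPGroup_quotient N ?_
  have : (⊤ : Subgroup H).map (QuotientGroup.mk' N) = Q.map (QuotientGroup.mk' N) := by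
    rw [← h, Subgroup.map_sup, QuotientGroup.map_mk'_self, bot_sup_eq]
  rw [Subgroup.map_top_of_surjective _ (QuotientGroup.mk'_surjective N)] at this
  exact ((hQ.map (QuotientGroup.mk' N)).of_equiv (MulEquiv.subgroupCongr this.symm)).of_equiv
    Subgroup.topEquiv

/-- A normal subgroup containing `O^p(H)` and a Sylow subgroup is everything. -/
theorem eq_top_of_pResidual_sylow [Finite H] [Fact p.Prime] {N : Subgroup H} (T : Sylow p H)
    (h1 : pResidual p H ≤ N) (h2 : (T : Subgroup H) ≤ N) : N = ⊤ :=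
  top_le_iff.1 ((H22.pResidual_sup_sylow T).ge.trans (sup_le h1 h2))

/-- In a `p`-irreducible group the conjugates of a Sylow subgroup generate. -/
theorem normalClosure_sylow_eq_top [Finite H] [Fact p.Prime] (hH : IsPIrreducible p H) (T : Sylow p H) :
    normalClosure ((T : Subgroup H) : Set H) = ⊤ := by
  refine eq_top_of_pResidual_sylow T (hH.2 _ inferInstance fun hcl => hH.1 ?_) le_normalClosure
  exact (pClosed_iff_sylow T).2 (le_antisymm
    (le_pCore_of_pClosed_normal hcl le_normalClosure T.2) (H19.pCore_le_sylow T))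

/-- `p`-closedness passes through a normal `p`-subgroup. -/
theorem pClosed_map_iff [Finite H] [Fact p.Prime] {K : Type*} [Group K] (f : H →* K)
    (hf : Function.Surjective f) (hker : IsPGroup p f.ker) (N : Subgroup H) [N.Normal] :
    IsPClosed p ↥(N.map f) ↔ IsPClosed p ↥N := by
  have : Finite K := Finite.of_surjective f hf
  have : (N.map f).Normal := Subgroup.Normal.map inferInstance f hf
  obtain ⟨T⟩ := (inferInstance : Nonempty (Sylow p H))
  have hkerT : f.ker ≤ (T : Subgroup H) := hker.le_sylow_of_normal T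
  have hkerO : f.ker ≤ pCore p H := H19.le_pCore inferInstance hker
  have hcore : (pCore p H).map f = pCore p K := by
    refine le_antisymm (H19.le_pCore ((H19.pCore_normal p H).map f hf) ((H19.pCore_isPGroup p).map f)) ?_
    rw [← Subgroup.map_comap_eq_self_of_surjective hf (pCore p K)]
    exact map_mono (H19.le_pCore ((H19.pCore_normal p K).comap f)
      ((H19.pCore_isPGroup p).comap_of_ker_isPGroup f hker))
  rw [pClosed_normal_iff N T, pClosed_normal_iff (N.map f) (T.mapSurjective hf), Sylow.coe_mapSurjective]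
  constructor
  · intro h x hx
    have : f x ∈ (pCore p H).map f := hcore ▸ h ⟨⟨x, hx.1, rfl⟩, ⟨x, hx.2, rfl⟩⟩
    obtain ⟨y, hy, hyx⟩ := this
    have := (pCore p H).mul_mem hy (hkerO (show y⁻¹ * x ∈ f.ker by
      rw [MonoidHom.mem_ker, map_mul, map_inv, hyx, inv_mul_cancel]))
    simpa using this
  · rintro h _ ⟨⟨t, ht, rfl⟩, n, hn, hnt⟩
    rw [← hcore]
    refine ⟨n, h (Subgroup.mem_inf.2 ⟨?_, hn⟩), hnt⟩
    have := (T : Subgroup H).mul_mem ht (hkerT (show t⁻¹ * n ∈ f.ker by
      rw [MonoidHom.mem_ker, map_mul, map_inv, hnt, inv_mul_cancel]))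
    simpa using this

/-- The image of `O_p` under a surjection with `p`-group kernel. -/
theorem map_pCore_of_ker [Finite H] [Fact p.Prime] {K : Type*} [Group K] (f : H →* K)
    (hf : Function.Surjective f) (hker : IsPGroup p f.ker) :
    (pCore p H).map f = pCore p K ∧ (pCore p K).comap f = pCore p H := by
  have : Finite K := Finite.of_surjective f hf
  have h1 : (pCore p K).comap f ≤ pCore p H := H19.le_pCore ((H19.pCore_normal p K).comap f)
    ((H19.pCore_isPGroup p).comap_of_ker_isPGroup f hker)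
  have h2 : (pCore p H).map f ≤ pCore p K :=
    H19.le_pCore ((H19.pCore_normal p H).map f hf) ((H19.pCore_isPGroup p).map f)
  refine ⟨le_antisymm h2 ?_, le_antisymm h1 (map_le_iff_le_comap.1 h2)⟩
  rw [← Subgroup.map_comap_eq_self_of_surjective hf (pCore p K)]
  exact map_mono h1

/-- A group `p`-closed as a group and as its top subgroup. -/
theorem pClosed_top_iff [Finite H] [Fact p.Prime] : IsPClosed p ↥(⊤ : Subgroup H) ↔ IsPClosed p H := by
  rw [pClosed_subgroup_iff, pClosed_iff_forall, pCoreOf_normal, top_inf_eq]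
  exact ⟨fun h Q hQ => h Q le_top hQ, fun h Q _ hQ => h Q hQ⟩

/-- `p`-irreducibility is invariant under quotients by `p`-subgroups. -/
theorem pIrreducible_iff_of_ker [Finite H] [Fact p.Prime] {K : Type*} [Group K] (f : H →* K)
    (hf : Function.Surjective f) (hker : IsPGroup p f.ker) :
    (IsPIrreducible p H ↔ IsPIrreducible p K) ∧
      (IsStronglyPIrreducible p H ↔ IsStronglyPIrreducible p K) := by
  have : Finite K := Finite.of_surjective f hf
  have hres := H22.map_pResidual_of_surjective (p := p) f hf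
  obtain ⟨hmap, hcomap⟩ := map_pCore_of_ker f hf hker
  have htop : IsPClosed p H ↔ IsPClosed p K := by
    rw [← pClosed_top_iff, ← pClosed_top_iff (H := K), ← pClosed_map_iff f hf hker ⊤,
      Subgroup.map_top_of_surjective f hf]
  have hle : ∀ N : Subgroup H, N.Normal → (pResidual p K ≤ N.map f ↔ pResidual p H ≤ N) := by
    intro N hN
    constructor
    · intro h
      obtain ⟨T⟩ := (inferInstance : Nonempty (Sylow p H))
      refine pResidual_le_of_sup_pgroup T.2 ?_
      have h1 : pResidual p H ≤ N ⊔ f.ker := by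
        rw [← Subgroup.comap_map_eq, ← map_le_iff_le_comap, hres]; exact h
      refine eq_top_of_pResidual_sylow T (h1.trans ?_) le_sup_right
      exact sup_le_sup_left (hker.le_sylow_of_normal T) N
    · intro h; rw [← hres]; exact map_mono h
  have hcomm : ∀ N : Subgroup H, (⁅N.map f, (⊤ : Subgroup K)⁆ ≤ pCore p K ↔
      ⁅N, (⊤ : Subgroup H)⁆ ≤ pCore p H) := by
    intro N
    rw [← Subgroup.map_top_of_surjective f hf, ← Subgroup.map_commutator, map_le_iff_le_comap, hcomap]
  refine ⟨?_, ?_⟩
  · constructor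
    · rintro ⟨h1, h2⟩
      refine ⟨fun h => h1 (htop.2 h), fun N hN hc => ?_⟩
      have := hN.comap f
      rw [← Subgroup.map_comap_eq_self_of_surjective hf N] at hc ⊢
      rw [pClosed_map_iff f hf hker] at hc
      exact (hle _ this).2 (h2 _ this hc)
    · rintro ⟨h1, h2⟩
      refine ⟨fun h => h1 (htop.1 h), fun N hN hc => ?_⟩
      exact (hle N hN).1 (h2 _ (hN.map f hf) (by rwa [pClosed_map_iff f hf hker]))
  · constructor
    · rintro ⟨h1, h2⟩
      refine ⟨fun h => h1 (htop.2 h), fun N hN hc => ?_⟩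
      have := hN.comap f
      rw [← Subgroup.map_comap_eq_self_of_surjective hf N] at hc ⊢
      rw [hcomm] at hc
      exact (hle _ this).2 (h2 _ this hc)
    · rintro ⟨h1, h2⟩
      refine ⟨fun h => h1 (htop.1 h), fun N hN hc => ?_⟩
      exact (hle N hN).1 (h2 _ (hN.map f hf) (by rwa [hcomm]))

/-- Strongly `p`-irreducible groups are `p`-irreducible. -/
theorem pIrreducible_of_strongly [Finite H] [Fact p.Prime] (hH : IsStronglyPIrreducible p H) :
    IsPIrreducible p H := by
  refine ⟨hH.1, fun N hN hc => hH.2 N hN fun hle => hc ?_⟩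
  obtain ⟨T⟩ := (inferInstance : Nonempty (Sylow p H))
  rw [pClosed_normal_iff N T]
  have := H19.pCore_normal p H
  set O := pCore p H
  have hn : ((T : Subgroup H) ⊓ N ⊔ O).Normal := by
    refine ⟨fun x hx g => ?_⟩
    obtain ⟨a, ha, b, hb, rfl⟩ := Subgroup.mem_sup_of_normal_right.1 hx
    have h1 : g * a * g⁻¹ * a⁻¹ ∈ O := by
      have h2 : a * g * a⁻¹ * g⁻¹ ∈ O := hle (commutator_mem_commutator ha.2 (mem_top g))
      have := inv_mem h2
      simpa [mul_assoc] using this
    have h3 : g * (a * b) * g⁻¹ = (g * a * g⁻¹ * a⁻¹) * (a * (g⁻¹⁻¹ * b * g⁻¹)) := by group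
    rw [h3]
    refine mul_mem (mem_sup_right h1) (mul_mem (mem_sup_left ha) (mem_sup_right ?_))
    rw [inv_inv]
    exact Subgroup.Normal.conj_mem inferInstance b hb g
  exact le_sup_left.trans (H19.le_pCore hn
    ((T.2.to_le inf_le_left).to_sup_of_normal_right (H19.pCore_isPGroup p)))

/-- Groups minimal over a Sylow `p`-subgroup are `p`-irreducible. -/
theorem pIrreducible_of_isMinimalOver [Finite H] [Fact p.Prime] {T : Sylow p H}
    (hmin : IsMinimalOver (T : Subgroup H)) : IsPIrreducible p H := by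
  obtain ⟨hgen, M, ⟨hM, hTM⟩, huniq⟩ := hmin
  have hT : ¬ (T : Subgroup H).Normal := fun h => by
    rw [Subgroup.normalClosure_eq_self] at hgen
    exact hM.1 (top_le_iff.1 (hgen ▸ hTM))
  refine ⟨fun h => hT (h T), fun N hN hc => ?_⟩
  refine pResidual_le_of_sup_pgroup T.2 ?_
  by_contra hne
  obtain ⟨M', hM', hle⟩ := (eq_top_or_exists_le_coatom (N ⊔ (T : Subgroup H))).resolve_left hne
  obtain rfl := huniq M' ⟨hM', le_sup_right.trans hle⟩
  have hne' : Subgroup.normalizer (((T : Subgroup H) ⊓ N : Subgroup H) : Set H) ≠ ⊤ := fun h => hc (by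
    rw [pClosed_normal_iff N T]
    exact H19.le_pCore (normalizer_eq_top_iff.1 h) (T.2.to_le inf_le_left))
  obtain ⟨M'', hM'', hle'⟩ := (eq_top_or_exists_le_coatom
    (Subgroup.normalizer (((T : Subgroup H) ⊓ N : Subgroup H) : Set H))).resolve_left hne'
  have hTn : (T : Subgroup H) ≤ Subgroup.normalizer (((T : Subgroup H) ⊓ N : Subgroup H) : Set H) :=
    le_trans (le_inf le_normalizer le_normalizer_of_normal) inf_normalizer_le_normalizer_inf
  obtain rfl := huniq M'' ⟨hM'', hTn.trans hle'⟩
  have hP : IsPGroup p (((T : Subgroup H) ⊓ N).subgroupOf N) :=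
    (T.2.to_le inf_le_left).comap_of_injective _ N.subtype_injective
  have hidx : ¬ p ∣ (((T : Subgroup H) ⊓ N).subgroupOf N).index := by
    rw [← relIndex, inf_relIndex_right]
    exact H22.sylow_not_dvd_relIndex_normal T N
  have hfr := Sylow.normalizer_sup_eq_top (hP.toSylow hidx)
  have e : ((hP.toSylow hidx : Sylow p N) : Subgroup N).map N.subtype = (T : Subgroup H) ⊓ N :=
    map_subgroupOf_eq_of_le inf_le_right
  rw [e] at hfr
  exact hM''.1 (top_le_iff.1 (hfr ▸ sup_le hle' (le_sup_left.trans hle)))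

end Cfsg.Agent.H73
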