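import Cfsg.Agent.H73.FrakH
import Cfsg.Agent.H21.Wielandt

/-!
The asymmetric L-lemma.
-/

set_option autoImplicit false

namespace Cfsg.Agent.H73

open Subgroup
open scoped commutatorElement Pointwise

variable {G : Type*} [Group G]

/-- `O_p` of a conjugate. -/
theorem map_conj_pCoreOf_le {p : ℕ} (X : Subgroup G) (g : G) :
    (pCoreOf p X).map (MulAut.conj g).toMonoidHom ≤
      pCoreOf p (X.map (MulAut.conj g).toMonoidHom) :=
  H74.le_pCoreOf (Subgroup.map_mono (H74.pCoreOf_le X))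
    ((Subgroup.map_mono (H74.le_normalizer_pCoreOf X)).trans (le_normalizer_map _))
    ((H74.pCoreOf_isPGroup X).map _)

/-- A join of conjugates is normalized by elements permuting them. -/
theorem le_normalizer_iSup_conj [Finite G] (Y A : Subgroup G) :
    A ≤ normalizer ((⨆ a : ↥A, Y.map (MulAut.conj (a : G)).toMonoidHom : Subgroup G) : Set G) := by
  intro z hz
  refine H50.map_conj_eq_iff.1 (eq_of_le_of_card_ge ?_
    (Subgroup.card_map_of_injective (MulAut.conj z).injective).ge)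
  rw [Subgroup.map_iSup]
  refine iSup_le fun x => ?_
  rw [H50.map_conj_map]
  exact le_iSup (fun x : ↥A => Y.map (MulAut.conj (x : G)).toMonoidHom) (⟨z, hz⟩ * x)

/-- In a nilpotent subgroup `V ≤ [V, P] W` forces `V ≤ W`. -/
theorem le_of_le_commutator_sup {V P W K : Subgroup G} (hK : Group.IsNilpotent K) (hV : V ≤ K)
    (hP : P ≤ K) (hW : W ≤ K) (hKW : K ≤ normalizer (W : Set G))
    (h : V ≤ ⁅V, P⁆ ⊔ W) : V ≤ W := by
  obtain ⟨n, hn⟩ := (isNilpotent_iff_lowerCentralSeries K).mp hK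
  have hle : ∀ m, K.lowerCentralSeries m ≤ K := by
    intro m
    induction m with
    | zero => exact le_rfl
    | succ m ih => exact (commutator_mono ih le_rfl).trans (commutator_le_self K)
  have key : ∀ m, V ≤ K.lowerCentralSeries m ⊔ W := by
    intro m
    induction m with
    | zero => exact le_sup_of_le_left hV
    | succ m ih =>
      refine h.trans (sup_le ?_ le_sup_right)
      refine (commutator_mono ih hP).trans ?_
      rw [commutator_le]
      intro z hz k hk
      have hz' : z ∈ ((K.lowerCentralSeries m ⊔ W : Subgroup G) : Set G) := hz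
      rw [coe_mul_of_left_le_normalizer_right _ _ ((hle m).trans hKW)] at hz'
      obtain ⟨c, hc, w, hw, rfl⟩ := hz'
      have e : ⁅c * w, k⁆ = c * ⁅w, k⁆ * c⁻¹ * ⁅c, k⁆ := by
        simp only [commutatorElement_def]; group
      rw [e]
      refine mul_mem (mem_sup_right ?_) (mem_sup_left (commutator_mem_commutator hc hk))
      have hwk : ⁅w, k⁆ ∈ W := by
        have := commutator_le_of_le_normalizer hKW
        rw [commutator_comm] at this
        exact this (commutator_mem_commutator hw hk)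
      exact (mem_normalizer_iff.1 (hKW (hle m hc)) _).1 hwk
  have := key n
  rwa [hn, bot_sup_eq] at this

/-- The hypotheses of the asymmetric L-lemma. -/
structure AsymLData (p : ℕ) (P Y H L : Subgroup G) : Prop where
  wc : IsWeaklyClosedSubgroup p P
  normalizer_le : normalizer (P : Set G) ≤ normalizer (Y : Set G)
  le_centralizer : P ≤ centralizer (Y : Set G)
  elem : IsElementaryAbelian p Y
  le_core : Y ≤ P
  core_le : P ≤ H
  charP : H ⊓ centralizer (pCoreOf p H : Set G) ≤ pCoreOf p H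
  not_le : ¬ Y ≤ pCoreOf p H
  min : ∀ X : Subgroup G, P ≤ X → X < H → Y ≤ pCoreOf p X
  asym : ¬ IsSymmetricIn Y
  residual : ⁅(pResidual p ↥H).map H.subtype, Y⁆ = (pResidual p ↥H).map H.subtype
  residual_sup : (pResidual p ↥H).map H.subtype ⊔ P = H
  le : L ≤ H
  mem : Y ≤ L
  not_le_L : ¬ Y ≤ pCoreOf p L
  minL : ∀ L' : Subgroup G, L' ≤ L → Y ≤ L' → ¬ Y ≤ pCoreOf p L' → L' = L

namespace AsymLData

variable [Finite G] {p : ℕ} [Fact p.Prime] {P Y H L : Subgroup G} (d : AsymLData p P Y H L)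
include d

theorem pCoreOf_le_normalizer {X : Subgroup G} (hPX : P ≤ X) :
    pCoreOf p X ≤ normalizer (Y : Set G) :=
  (wc_le_normalizer_of_normalized d.wc (H74.pCoreOf_isPGroup X)
    (hPX.trans (H74.le_normalizer_pCoreOf X))).trans d.normalizer_le

theorem core_conj {x : G} (hx : x ∈ H) :
    (pCoreOf p H).map (MulAut.conj x).toMonoidHom = pCoreOf p H :=
  H50.map_conj_eq_iff.2 (H74.le_normalizer_pCoreOf H hx)

theorem core_le_normalizer_conj {x : G} (hx : x ∈ H) :
    pCoreOf p H ≤ normalizer ((Y.map (MulAut.conj x).toMonoidHom : Subgroup G) : Set G) := by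
  have h := map_conj_le_normalizer_map_conj (d.pCoreOf_le_normalizer d.core_le) x
  rwa [d.core_conj hx] at h

theorem commutator_core_le {x : G} (hx : x ∈ H) :
    ⁅pCoreOf p H, Y.map (MulAut.conj x).toMonoidHom⁆ ≤
      pCoreOf p H ⊓ Y.map (MulAut.conj x).toMonoidHom := by
  refine le_inf ?_ (commutator_le_of_le_normalizer (d.core_le_normalizer_conj hx))
  rw [commutator_comm]
  refine commutator_le_of_le_normalizer (le_trans ?_ (H74.le_normalizer_pCoreOf H))
  exact (Subgroup.map_mono (d.le_core.trans d.core_le)).trans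
    (H50.map_conj_eq_iff.2 (Subgroup.le_normalizer hx)).le

theorem le_pCoreOf_inf {X : Subgroup G} (hPX : P ≤ X) (hX : X < H) {L' : Subgroup G}
    (hL' : L' ≤ X) (hY : Y ≤ L') : Y ≤ pCoreOf p L' :=
  (le_inf (d.min X hPX hX) hY).trans (H74.le_pCoreOf inf_le_right
    (normalizer_inf_le (hL'.trans (H74.le_normalizer_pCoreOf X)) Subgroup.le_normalizer)
    ((H74.pCoreOf_isPGroup X).to_le inf_le_left))

theorem sup_eq : L ⊔ P = H := by
  by_contra hne
  exact d.not_le_L (d.le_pCoreOf_inf le_sup_right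
    (lt_of_le_of_ne (sup_le d.le d.core_le) hne) le_sup_left d.mem)

theorem exists_gen : ∃ g ∈ L, Y ⊔ Y.map (MulAut.conj g).toMonoidHom = L := by
  by_contra! hall
  apply d.not_le_L
  set Y' := Y.subgroupOf L
  have hYp : IsPGroup p Y := isPGroup_of_elementary d.elem
  suffices h : Y'.IsSubnormal by
    rw [← map_subgroupOf_eq_of_le d.mem]
    exact Subgroup.map_mono (H72.le_pCore_of_isSubnormal h hYp.comap_subtype)
  refine H21.wielandt_criterion fun g => ?_
  set Yg := Y.map (MulAut.conj (g : G)).toMonoidHom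
  set X := Y ⊔ Yg
  have hYgL : Yg ≤ L := (Subgroup.map_mono d.mem).trans (H50.map_conj_eq_iff.2 (Subgroup.le_normalizer g.2)).le
  have hXL : X ≤ L := sup_le d.mem hYgL
  have hX1 : Y ≤ pCoreOf p X := by
    by_contra h
    exact hall g g.2 (d.minL X hXL le_sup_left h)
  have hX2 : Yg ≤ pCoreOf p X := by
    set X' := Y.map (MulAut.conj (g : G)⁻¹).toMonoidHom ⊔ Y
    have e : X'.map (MulAut.conj (g : G)).toMonoidHom = X := by
      rw [Subgroup.map_sup, H50.map_conj_map, mul_inv_cancel,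
        H50.map_conj_eq_iff.2 (one_mem _)]
    have hX'L : X' ≤ L := sup_le ((Subgroup.map_mono d.mem).trans
      (H50.map_conj_eq_iff.2 (Subgroup.le_normalizer (inv_mem g.2))).le) d.mem
    have h' : Y ≤ pCoreOf p X' := by
      by_contra h
      have h1 := d.minL X' hX'L le_sup_right h
      apply hall g g.2
      show X = L
      rw [← e, h1, H50.map_conj_eq_iff.2 (Subgroup.le_normalizer g.2)]
    exact (Subgroup.map_mono h').trans ((map_conj_pCoreOf_le X' _).trans (congrArg (pCoreOf p) e).le)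
  have hXp : IsPGroup p X := (H74.pCoreOf_isPGroup X).to_le (sup_le hX1 hX2)
  have hle : (Y' ⊔ MulAut.conj g • Y') ≤ X.subgroupOf L := by
    refine sup_le (fun y hy => mem_sup_left hy) ?_
    rintro _ ⟨y, hy, rfl⟩
    exact mem_sup_right ⟨(y : G), hy, by simp⟩
  have : Group.IsNilpotent ↥(Y' ⊔ MulAut.conj g • Y') :=
    ((hXp.comap_subtype).to_le hle).isNilpotent
  exact isSubnormal_of_isNilpotent _

/-- `[W, P]` commutes with every conjugate of `Y` in `L` commuting with `Y`. -/
theorem basic_facts {g : G} (hg : g ∈ L) (hgen : Y ⊔ Y.map (MulAut.conj g).toMonoidHom = L) :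
    let W := pCoreOf p H
    let D := (W ⊓ Y) ⊔ (W ⊓ Y.map (MulAut.conj g).toMonoidHom)
    (∀ e ∈ D, e ∈ centralizer (Y : Set G) → e ∈ W ⊓ Y) ∧ L ≤ normalizer (D : Set G) ∧
      ⁅W, L⁆ ≤ D ∧ D ≤ W ∧ D ≤ L ∧ H ≤ normalizer ((D ⊔ ⁅W, P⁆ : Subgroup G) : Set G) ∧
      ∀ w ∈ ⁅W, P⁆, ∃ y ∈ W ⊓ Y, y⁻¹ * w ∈ centralizer (L : Set G) := by
  intro W D
  set Yg := Y.map (MulAut.conj g).toMonoidHom with hYg
  set Y0 := W ⊓ Y
  set Y1 := W ⊓ Yg
  have hWH : W ≤ H := H74.pCoreOf_le H
  have hHW : H ≤ normalizer (W : Set G) := H74.le_normalizer_pCoreOf H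
  have hWY : W ≤ normalizer (Y : Set G) := d.pCoreOf_le_normalizer d.core_le
  have hWYg : W ≤ normalizer (Yg : Set G) := d.core_le_normalizer_conj (d.le hg)
  have hW0 : W ≤ normalizer (Y0 : Set G) := normalizer_inf_le Subgroup.le_normalizer hWY
  have hW1 : W ≤ normalizer (Y1 : Set G) := normalizer_inf_le Subgroup.le_normalizer hWYg
  have hYgL : Yg ≤ L := (Subgroup.map_mono d.mem).trans
    (H50.map_conj_eq_iff.2 (Subgroup.le_normalizer hg)).le
  have hDW : D ≤ W := sup_le inf_le_left inf_le_left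
  have hDL : D ≤ L := sup_le (inf_le_right.trans d.mem) (inf_le_right.trans hYgL)
  have hgY : ∀ {e : G}, e ∈ centralizer (L : Set G) → e ∈ Yg → e ∈ Y := by
    intro e he hey
    rw [hYg, H50.mem_map_conj] at hey
    have hc := mem_centralizer_iff.1 he g hg
    have e1 : g⁻¹ * e * g = e := by rw [mul_assoc, ← hc, inv_mul_cancel_left]
    rwa [e1] at hey
  have hYgc : Yg ≤ centralizer (Yg : Set G) := by
    rintro _ ⟨a, ha, rfl⟩
    refine mem_centralizer_iff.2 ?_
    rintro _ ⟨b, hb, rfl⟩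
    rw [← map_mul, ← map_mul, mem_centralizer_iff.1 (le_centralizer_of_elementary d.elem ha) b hb]
  have hcenL : ∀ {e : G}, e ∈ centralizer (Y : Set G) → e ∈ centralizer (Yg : Set G) →
      e ∈ centralizer (L : Set G) := by
    intro e h1 h2
    rw [← hgen]
    have : Y ⊔ Yg ≤ centralizer ({e} : Set G) := sup_le
      (fun y hy => mem_centralizer_singleton_iff.2 (mem_centralizer_iff.1 h1 y hy))
      (fun y hy => mem_centralizer_singleton_iff.2 (mem_centralizer_iff.1 h2 y hy))
    exact mem_centralizer_iff.2 fun z hz => mem_centralizer_singleton_iff.1 (this hz)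
  have hCD : ∀ e ∈ D, e ∈ centralizer (Y : Set G) → e ∈ Y0 := by
    intro e he hc
    have he' : e ∈ ((Y0 ⊔ Y1 : Subgroup G) : Set G) := he
    rw [coe_mul_of_right_le_normalizer_left _ _ ((inf_le_left : Y1 ≤ W).trans hW0)] at he'
    obtain ⟨a, ha, b, hb, rfl⟩ := he'
    refine mul_mem ha ⟨hb.1, hgY (hcenL ?_ (hYgc hb.2)) hb.2⟩
    have := mul_mem (inv_mem (le_centralizer_of_elementary d.elem ha.2)) hc
    simpa using this
  have hWY0 : ⁅W, Y⁆ ≤ Y0 := by
    have h := d.commutator_core_le (one_mem H)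
    rwa [H50.map_conj_eq_iff.2 (one_mem _)] at h
  have hWY1 : ⁅W, Yg⁆ ≤ Y1 := d.commutator_core_le (d.le hg)
  have hLD : L ≤ normalizer (D : Set G) := by
    rw [← hgen]
    refine sup_le ?_ ?_ <;> apply le_normalizer_of_commutator_le
    · rw [commutator_comm]
      exact (commutator_mono hDW le_rfl).trans (hWY0.trans le_sup_left)
    · rw [commutator_comm]
      exact (commutator_mono hDW le_rfl).trans (hWY1.trans le_sup_right)
  have hWL : ⁅W, L⁆ ≤ D := by
    rw [commutator_comm]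
    have e : L = ⨆ b : Bool, if b then Y else Yg := by rw [iSup_bool_eq]; simpa using hgen.symm
    rw [e]
    refine commutator_iSup_le (by rw [← e]; exact hLD) fun b => ?_
    cases b
    · rw [if_neg (by simp), commutator_comm]; exact hWY1.trans le_sup_right
    · rw [if_pos rfl, commutator_comm]; exact hWY0.trans le_sup_left
  set U := ⁅W, P⁆
  have hPW : P ≤ normalizer (W : Set G) := d.core_le.trans hHW
  have hUW : U ≤ W := by
    show ⁅W, P⁆ ≤ W
    rw [commutator_comm]; exact commutator_le_of_le_normalizer hPW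
  have hWU : W ≤ normalizer (U : Set G) := normalizer_commutator_ge_left _ _
  have hH1 : H ≤ normalizer ((D ⊔ U : Subgroup G) : Set G) := by
    rw [← d.sup_eq]
    refine sup_le ?_ ?_
    · apply le_normalizer_of_commutator_le
      rw [commutator_comm]
      exact (commutator_mono (sup_le hDW hUW) le_rfl).trans (hWL.trans le_sup_left)
    · apply le_normalizer_of_commutator_le
      rw [commutator_comm]
      exact (commutator_mono (sup_le hDW hUW) le_rfl).trans le_sup_right
  refine ⟨hCD, hLD, hWL, hDW, hDL, hH1, ?_⟩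
  intro w hw
  have hUc : U ≤ centralizer (Y : Set G) := by
    have h1 : U ≤ P := commutator_le_of_le_normalizer
      (wc_le_normalizer_of_normalized d.wc (H74.pCoreOf_isPGroup H)
        (d.core_le.trans hHW))
    exact h1.trans d.le_centralizer
  set Ug := U.map (MulAut.conj g).toMonoidHom
  have hmap : (D ⊔ U).map (MulAut.conj g).toMonoidHom = D ⊔ U :=
    H50.map_conj_eq_iff.2 (hH1 (d.le hg))
  rw [Subgroup.map_sup, H50.map_conj_eq_iff.2 (hLD hg)] at hmap
  have hw' : w ∈ ((D ⊔ Ug : Subgroup G) : Set G) := by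
    show w ∈ D ⊔ Ug
    rw [hmap]
    exact mem_sup_right hw
  have hUgD : Ug ≤ normalizer (D : Set G) := by
    refine le_trans ?_ (H72.le_normalizer_sup hW0 hW1)
    exact (Subgroup.map_mono hUW).trans (d.core_conj (d.le hg)).le
  rw [coe_mul_of_right_le_normalizer_left _ _ hUgD] at hw'
  obtain ⟨e, he, u, hu, hwe⟩ := hw'
  have he' : e ∈ ((Y0 ⊔ Y1 : Subgroup G) : Set G) := he
  rw [coe_mul_of_right_le_normalizer_left _ _ ((inf_le_left : Y1 ≤ W).trans hW0)] at he'
  obtain ⟨a, ha, b, hb, hab⟩ := he'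
  refine ⟨a, ha, hcenL ?_ ?_⟩
  · exact mul_mem (inv_mem (le_centralizer_of_elementary d.elem ha.2)) (hUc hw)
  · have huc : u ∈ centralizer (Yg : Set G) := by
      obtain ⟨v, hv, rfl⟩ := hu
      refine mem_centralizer_iff.2 ?_
      rintro _ ⟨y, hy, rfl⟩
      rw [← map_mul, ← map_mul, mem_centralizer_iff.1 (hUc hv) y hy]
    rw [← hwe, ← hab]
    have : a⁻¹ * (a * b * u) = b * u := by group
    rw [this]
    exact mul_mem (hYgc hb.2) huc

theorem commutator_P_le {g : G} (hg : g ∈ L) (hgen : Y ⊔ Y.map (MulAut.conj g).toMonoidHom = L)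
    {h : G} (hh : h ∈ L) (hc : Y.map (MulAut.conj h).toMonoidHom ≤ centralizer (Y : Set G)) :
    ⁅P, Y.map (MulAut.conj h).toMonoidHom⁆ ≤ pCoreOf p H := by
  obtain ⟨hCD, hLD, hWL, hDW, hDL, hH1, hU⟩ := d.basic_facts hg hgen
  set Y' := Y.map (MulAut.conj h).toMonoidHom
  set W := pCoreOf p H
  have hY'L : Y' ≤ L := (Subgroup.map_mono d.mem).trans
    (H50.map_conj_eq_iff.2 (Subgroup.le_normalizer hh)).le
  have hWY' : W ⊓ Y' ≤ W ⊓ Y := by
    intro z hz
    refine hCD z ?_ (hc hz.2)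
    have hz' : h⁻¹ * z * h ∈ W ⊓ Y := ⟨by
      simpa using (mem_normalizer_iff.1 (H74.le_normalizer_pCoreOf H (d.le (inv_mem hh))) z).1 hz.1,
      H50.mem_map_conj.1 hz.2⟩
    have h3 := (mem_normalizer_iff.1 (hLD hh) _).1
      (mem_sup_left (T := W ⊓ Y.map (MulAut.conj g).toMonoidHom) hz')
    simpa [mul_assoc] using h3
  have h1 : ⁅⁅Y', W⁆, P⁆ = ⊥ := by
    rw [commutator_eq_bot_iff_le_centralizer, commutator_comm]
    refine (d.commutator_core_le (d.le hh)).trans (hWY'.trans (inf_le_right.trans ?_))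
    exact le_centralizer_iff.1 d.le_centralizer
  have h2 : ⁅⁅W, P⁆, Y'⁆ = ⊥ := by
    rw [commutator_eq_bot_iff_le_centralizer]
    intro w hw
    obtain ⟨y, hy, hyw⟩ := hU w hw
    have e : w = y * (y⁻¹ * w) := by group
    rw [e]
    exact mul_mem (le_centralizer_iff.1 hc hy.2) (centralizer_le hY'L hyw)
  have h3 : ⁅⁅P, Y'⁆, W⁆ = ⊥ := commutator_commutator_eq_bot_of_rotate h1 h2
  rw [commutator_eq_bot_iff_le_centralizer] at h3
  refine le_trans (le_inf ?_ h3) d.charP
  exact (commutator_mono d.core_le (hY'L.trans d.le)).trans (commutator_le_self H)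

/-- The key step: a subgroup of `L` whose conjugates of `Y` commute with `Y` normalizes `Y`. -/
theorem le_normalizer_of_commute {M₁ : Subgroup G} (hM₁ : M₁ ≤ L)
    (hcom : ∀ u ∈ M₁, Y.map (MulAut.conj u).toMonoidHom ≤ centralizer (Y : Set G)) :
    M₁ ≤ normalizer (Y : Set G) := by
  obtain ⟨g, hg, hgen⟩ := d.exists_gen
  obtain ⟨hCD, hLD, hWL, hDW, hDL, hH1, hU⟩ := d.basic_facts hg hgen
  set W := pCoreOf p H
  have hHW : H ≤ normalizer (W : Set G) := H74.le_normalizer_pCoreOf H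
  have hYp : IsPGroup p Y := isPGroup_of_elementary d.elem
  set E₀ := ⨆ u : ↥M₁, Y.map (MulAut.conj (u : G)).toMonoidHom with hE₀
  have hME₀ : M₁ ≤ normalizer (E₀ : Set G) := le_normalizer_iSup_conj Y M₁
  have hE₀c : E₀ ≤ centralizer (E₀ : Set G) := by
    refine iSup_le fun a => ?_
    rw [le_centralizer_iff]
    refine iSup_le fun b => ?_
    rw [le_centralizer_iff]
    have h := hcom ((b : G)⁻¹ * a) (mul_mem (inv_mem b.2) a.2)
    intro z hz
    rw [H50.mem_map_conj] at hz
    refine mem_centralizer_iff.2 ?_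
    rintro _ ⟨y, hy, rfl⟩
    have hz' : (b : G)⁻¹ * z * b ∈ Y.map (MulAut.conj ((b : G)⁻¹ * a)).toMonoidHom :=
      H50.mem_map_conj.2 (by simpa [mul_assoc] using hz)
    have h5 := mem_centralizer_iff.1 (h hz') y hy
    show (b : G) * y * (b : G)⁻¹ * z = z * ((b : G) * y * (b : G)⁻¹)
    calc (b : G) * y * (b : G)⁻¹ * z = b * (y * ((b : G)⁻¹ * z * b)) * (b : G)⁻¹ := by group
      _ = b * (((b : G)⁻¹ * z * b) * y) * (b : G)⁻¹ := by rw [h5]
      _ = _ := by group
  have hE₀L : E₀ ≤ L := iSup_le fun u => (Subgroup.map_mono d.mem).trans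
    (H50.map_conj_eq_iff.2 (Subgroup.le_normalizer (hM₁ u.2))).le
  have hE₀p : IsPGroup p E₀ := by
    intro e
    refine ⟨1, Subtype.ext ?_⟩
    suffices h : (e : G) ^ p = 1 ∧ (e : G) ∈ E₀ by simpa using h.1
    refine Subgroup.iSup_induction _ (C := fun y => y ^ p = 1 ∧ y ∈ E₀) e.2 ?_
      ⟨one_pow p, one_mem _⟩ ?_
    · rintro a _ ⟨y, hy, rfl⟩
      refine ⟨?_, le_iSup (fun x : ↥M₁ => Y.map (MulAut.conj (x : G)).toMonoidHom) a ⟨y, hy, rfl⟩⟩
      rw [← map_pow, d.elem.2 y hy, map_one]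
    · rintro a b ⟨ha, ha'⟩ ⟨hb, hb'⟩
      refine ⟨?_, mul_mem ha' hb'⟩
      rw [(show Commute a b from mem_centralizer_iff.1 (hE₀c hb') a ha').mul_pow, ha, hb, one_mul]
  have hE₀W : E₀ ≤ normalizer (W : Set G) := (hE₀L.trans d.le).trans hHW
  have hPE : ⁅P, E₀⁆ ≤ W := by
    rw [commutator_comm]
    refine commutator_iSup_le hE₀W fun u => ?_
    rw [commutator_comm]
    exact d.commutator_P_le hg hgen (hM₁ u.2) (hcom u u.2)
  set X := P ⊔ M₁
  set EW := W ⊔ E₀
  have hPEW : P ≤ normalizer (EW : Set G) := by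
    apply le_normalizer_of_commutator_le
    refine commutator_le.2 fun a ha z hz => ?_
    have hz' : z ∈ ((W ⊔ E₀ : Subgroup G) : Set G) := hz
    rw [coe_mul_of_right_le_normalizer_left _ _ hE₀W] at hz'
    obtain ⟨w, hw, e, he, rfl⟩ := hz'
    have e' : ⁅a, w * e⁆ = ⁅a, w⁆ * (w * ⁅a, e⁆ * w⁻¹) := by
      simp only [commutatorElement_def]; group
    rw [e']
    refine mem_sup_left (mul_mem ?_ (mul_mem (mul_mem hw (hPE (commutator_mem_commutator ha he)))
      (inv_mem hw)))
    exact commutator_le_of_le_normalizer (d.core_le.trans hHW) (commutator_mem_commutator ha hw)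
  have hXEW : X ≤ normalizer (EW : Set G) :=
    sup_le hPEW (H72.le_normalizer_sup ((hM₁.trans d.le).trans hHW) hME₀)
  have hEWp : IsPGroup p EW :=
    IsPGroup.to_sup_of_normal_left' (H74.pCoreOf_isPGroup H) hE₀p hE₀W
  have hYE₀ : Y ≤ E₀ := (H50.map_conj_eq_iff.2 (one_mem _)).ge.trans
    (le_iSup (fun x : ↥M₁ => Y.map (MulAut.conj (x : G)).toMonoidHom) 1)
  have hXH : X < H := by
    refine lt_of_le_of_ne (sup_le d.core_le (hM₁.trans d.le)) fun h => d.not_le ?_
    exact (hYE₀.trans le_sup_right).trans (H74.le_pCoreOf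
      (sup_le (H74.pCoreOf_le H) (hE₀L.trans d.le)) (h.ge.trans hXEW) hEWp)
  -- the closure of `Y` under `X`
  set E := ⨆ x : ↥X, Y.map (MulAut.conj (x : G)).toMonoidHom with hE
  have hXE : X ≤ normalizer (E : Set G) := le_normalizer_iSup_conj Y X
  have hEO : E ≤ pCoreOf p X := iSup_le fun x =>
    (Subgroup.map_mono (d.min X le_sup_left hXH)).trans
      (H50.map_conj_eq_iff.2 (H74.le_normalizer_pCoreOf X x.2)).le
  have hEc : E ≤ centralizer (E : Set G) := by
    have hN : ∀ x : ↥X, E ≤ normalizer ((Y.map (MulAut.conj (x : G)).toMonoidHom : Subgroup G) : Set G) := by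
      intro x
      have h := map_conj_le_normalizer_map_conj (hEO.trans (d.pCoreOf_le_normalizer le_sup_left)) (x : G)
      rwa [H50.map_conj_eq_iff.2 (hXE x.2)] at h
    refine iSup_le fun a => ?_
    rw [le_centralizer_iff]
    refine iSup_le fun b => ?_
    rw [le_centralizer_iff]
    exact asymmetric_commute d.asym
      ((le_iSup (fun x : ↥X => Y.map (MulAut.conj (x : G)).toMonoidHom) a).trans (hN b))
      ((le_iSup (fun x : ↥X => Y.map (MulAut.conj (x : G)).toMonoidHom) b).trans (hN a))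
  have hEEW : E ≤ EW := iSup_le fun x =>
    (Subgroup.map_mono (hYE₀.trans le_sup_right)).trans (H50.map_conj_eq_iff.2 (hXEW x.2)).le
  have hYE : Y ≤ E := (H50.map_conj_eq_iff.2 (one_mem _)).ge.trans
    (le_iSup (fun x : ↥X => Y.map (MulAut.conj (x : G)).toMonoidHom) 1)
  have hEY : E ≤ centralizer (Y : Set G) := hEc.trans (centralizer_le hYE)
  set Y0 := W ⊓ Y
  set F := E ⊓ W
  have hXW : X ≤ normalizer (W : Set G) := hXH.le.trans hHW
  have hXF : X ≤ normalizer (F : Set G) := normalizer_inf_le hXE hXW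
  have hM₁Y0 : M₁ ≤ normalizer (Y0 : Set G) := by
    intro u hu
    refine H50.map_conj_eq_iff.1 (eq_of_le_of_card_ge ?_
      (Subgroup.card_map_of_injective (MulAut.conj u).injective).ge)
    rintro _ ⟨z, hz, rfl⟩
    exact hCD _ ((mem_normalizer_iff.1 (hLD (hM₁ hu)) z).1 (mem_sup_left hz))
      (hcom u hu ⟨z, hz.2, rfl⟩)
  have hPY0 : P ≤ normalizer (Y0 : Set G) := normalizer_inf_le (d.core_le.trans hHW)
    (d.le_centralizer.trans (centralizer_le_normalizer _))
  have hXY0 : X ≤ normalizer (Y0 : Set G) := sup_le hPY0 hM₁Y0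
  -- the kernel of the three actions
  let S : Subgroup G → Subgroup G → Prop := fun A B => ∀ x ∈ A, ∀ b ∈ B, ⁅x, b⁆ ∈ W
  have hsec : ∀ {D₁ F₁ : Subgroup G}, X ≤ normalizer (D₁ : Set G) → X ≤ normalizer (F₁ : Set G) →
      ∃ K : Subgroup G, (∀ x, x ∈ K ↔ x ∈ X ∧ ∀ b ∈ D₁, ⁅x, b⁆ ∈ F₁) ∧
        X ≤ normalizer (K : Set G) := by
    intro D₁ F₁ hD hF
    let K : Subgroup G :=
      { carrier := {a | a ∈ X ∧ ∀ b ∈ D₁, ⁅a, b⁆ ∈ F₁}
        one_mem' := ⟨one_mem _, fun c _ => by simp [commutatorElement_def]⟩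
        mul_mem' := by
          rintro a b ⟨ha, ha'⟩ ⟨hb, hb'⟩
          refine ⟨mul_mem ha hb, fun c hc => ?_⟩
          have e : ⁅a * b, c⁆ = a * ⁅b, c⁆ * a⁻¹ * ⁅a, c⁆ := by
            simp only [commutatorElement_def]; group
          rw [e]
          exact mul_mem ((mem_normalizer_iff.1 (hF ha) _).1 (hb' c hc)) (ha' c hc)
        inv_mem' := by
          rintro a ⟨ha, ha'⟩
          refine ⟨inv_mem ha, fun c hc => ?_⟩
          have e : ⁅a⁻¹, c⁆ = a⁻¹ * ⁅a, c⁆⁻¹ * a⁻¹⁻¹ := by
            simp only [commutatorElement_def]; group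
          rw [e]
          exact (mem_normalizer_iff.1 (hF (inv_mem ha)) _).1 (inv_mem (ha' c hc)) }
    refine ⟨K, fun x => Iff.rfl, fun x hx => ?_⟩
    refine H50.map_conj_eq_iff.1 (eq_of_le_of_card_ge ?_
      (Subgroup.card_map_of_injective (MulAut.conj x).injective).ge)
    rintro _ ⟨k, ⟨hk, hk'⟩, rfl⟩
    refine ⟨mul_mem (mul_mem hx hk) (inv_mem hx), fun b hb => ?_⟩
    have hb' : x⁻¹ * b * x ∈ D₁ := by
      simpa using (mem_normalizer_iff.1 (inv_mem (hD hx)) b).1 hb
    have e : ⁅(MulAut.conj x).toMonoidHom k, b⁆ = x * ⁅k, x⁻¹ * b * x⁆ * x⁻¹ := by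
      simp [commutatorElement_def, mul_assoc]
    rw [e]
    exact (mem_normalizer_iff.1 (hF hx) _).1 (hk' _ hb')
  obtain ⟨KE, hKE, hKEn⟩ := hsec hXE hXW
  obtain ⟨KF, hKF, hKFn⟩ := hsec hXF hXY0
  obtain ⟨KY, hKY, hKYn⟩ :=
    hsec hXY0 (show X ≤ normalizer ((⊥ : Subgroup G) : Set G) from le_normalizer_of_normal)
  set K := KE ⊓ KF ⊓ KY
  have hKX : K ≤ X := fun x hx => ((hKE x).1 hx.1.1).1
  have hXK : X ≤ normalizer (K : Set G) := normalizer_inf_le (normalizer_inf_le hKEn hKFn) hKYn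
  have hPX : P ≤ X := le_sup_left
  have hMX : M₁ ≤ X := le_sup_right
  have hPEt : ∀ a ∈ P, ∀ b ∈ E, ⁅a, b⁆ ∈ W := by
    intro a ha b hb
    have hb' : b ∈ ((W ⊔ E₀ : Subgroup G) : Set G) := hEEW hb
    rw [coe_mul_of_right_le_normalizer_left _ _ hE₀W] at hb'
    obtain ⟨w, hw, e, he, rfl⟩ := hb'
    have e' : ⁅a, w * e⁆ = ⁅a, w⁆ * (w * ⁅a, e⁆ * w⁻¹) := by
      simp only [commutatorElement_def]; group
    rw [e']
    exact mul_mem (commutator_le_of_le_normalizer (d.core_le.trans hHW)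
      (commutator_mem_commutator ha hw))
      (mul_mem (mul_mem hw (hPE (commutator_mem_commutator ha he))) (inv_mem hw))
  have hMF : ∀ u ∈ M₁, ∀ f ∈ F, ⁅u, f⁆ ∈ Y0 := by
    intro u hu f hf
    have h1 : ⁅u, f⁆ ∈ ⁅W, L⁆ := by
      rw [commutator_comm]; exact commutator_mem_commutator (hM₁ hu) hf.2
    have h2 : ⁅u, f⁆ ∈ E := commutator_le_of_le_normalizer (hMX.trans hXE)
      (commutator_mem_commutator hu hf.1)
    exact hCD _ (hWL h1) (hEY h2)
  have hPY : ∀ a ∈ P, ∀ y ∈ Y0, ⁅a, y⁆ ∈ (⊥ : Subgroup G) := fun a ha y hy => by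
    rw [Subgroup.mem_bot, commutatorElement_eq_one_iff_mul_comm]
    exact (mem_centralizer_iff.1 (d.le_centralizer ha) y hy.2).symm
  have hcomm : ∀ u ∈ M₁, ∀ a ∈ P, ⁅u, a⁆ ∈ K := by
    intro u hu a ha
    have hx : ⁅u, a⁆ ∈ X := by
      rw [commutatorElement_def]
      exact mul_mem (mul_mem (mul_mem (hMX hu) (hPX ha)) (inv_mem (hMX hu))) (inv_mem (hPX ha))
    refine ⟨⟨(hKE _).2 ⟨hx, ?_⟩, (hKF _).2 ⟨hx, ?_⟩⟩, (hKY _).2 ⟨hx, ?_⟩⟩
    · exact commutator_mem_of_trivial_action (hMX.trans hXE) (hMX.trans hXW) (hPX.trans hXE)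
        (hPX.trans hXW) hPEt _ (commutator_mem_commutator hu ha)
    · refine commutator_mem_of_trivial_action (hPX.trans hXF) (hPX.trans hXY0) (hMX.trans hXF)
        (hMX.trans hXY0) hMF _ ?_
      rw [commutator_comm]
      exact commutator_mem_commutator hu ha
    · exact commutator_mem_of_trivial_action (hMX.trans hXY0) le_normalizer_of_normal
        (hPX.trans hXY0) le_normalizer_of_normal hPY _ (commutator_mem_commutator hu ha)
  have hKQ : P ≤ normalizer (K : Set G) := hPX.trans hXK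
  have hKN : K ≤ normalizer (Y : Set G) := by
    conv_lhs => rw [← wc_sup_pResidual d.wc hKQ]
    refine sup_le (inf_le_right.trans d.normalizer_le) (le_trans ?_ (centralizer_le_normalizer _))
    refine resid_le_of_coprime fun x hx hc => ?_
    have hx' : ¬ p ∣ orderOf x := ((Fact.out : p.Prime).coprime_iff_not_dvd).1 hc.symm
    have hEp : IsPGroup p E := (H74.pCoreOf_isPGroup X).to_le hEO
    have hY0c : ∀ b ∈ Y0, Commute x b := fun b hb =>
      commutatorElement_eq_one_iff_commute.1 (Subgroup.mem_bot.1 (((hKY x).1 hx.2).2 b hb))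
    have hFc : ∀ b ∈ F, Commute x b := fun b hb => by
      have h1 := ((hKF x).1 hx.1.2).2 b hb
      exact H74.commute_of_commutator_mem (hYp.to_le inf_le_right) hx' h1 (hY0c _ h1)
    refine mem_centralizer_iff.2 fun y hy => ?_
    have h2 : ⁅x, y⁆ ∈ F := ⟨commutator_le_of_le_normalizer (hKX.trans hXE)
      (commutator_mem_commutator hx (hYE hy)), ((hKE x).1 hx.1.1).2 y (hYE hy)⟩
    exact (H74.commute_of_commutator_mem (hEp.to_le inf_le_left) hx' h2 (hFc _ h2)).eq.symm
  intro u hu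
  have hle : P.map (MulAut.conj u).toMonoidHom ≤ P ⊔ K := by
    rintro _ ⟨a, ha, rfl⟩
    have e : (MulAut.conj u).toMonoidHom a = ⁅u, a⁆ * a := by simp [commutatorElement_def]
    rw [e]
    exact mul_mem (mem_sup_right (hcomm u hu a ha)) (mem_sup_left ha)
  obtain ⟨k, hk, he⟩ := wc_exists_conj_mem d.wc le_sup_left hle
  have hkY : k ∈ normalizer (Y : Set G) :=
    sup_le (d.le_centralizer.trans (centralizer_le_normalizer _)) hKN hk
  have h3 : k⁻¹ * u ∈ normalizer (P : Set G) := by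
    rw [← H50.map_conj_eq_iff, ← H50.map_conj_map, he, H50.map_conj_map, inv_mul_cancel,
      H50.map_conj_eq_iff]
    exact one_mem _
  simpa using mul_mem hkY (d.normalizer_le h3)

/-- Every `p`-subgroup of `L` containing `Y` normalizes `Y`. -/
theorem pgroup_le_normalizer {R : Subgroup G} (hR : IsPGroup p R) (hRL : R ≤ L) (hYR : Y ≤ R) :
    R ≤ normalizer (Y : Set G) := by
  by_contra hne
  set R' := R ⊓ normalizer (Y : Set G)
  have hlt : R'.subgroupOf R < ⊤ := lt_top_iff_ne_top.2 fun h =>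
    hne ((Subgroup.subgroupOf_eq_top.1 h).trans inf_le_right)
  obtain ⟨⟨t, htR⟩, htN, htR'⟩ := SetLike.exists_of_lt
    (@Group.normalizerCondition_of_isNilpotent _ _ hR.isNilpotent _ hlt)
  rw [← Subgroup.subgroupOf_normalizer_eq (inf_le_left : R' ≤ R)] at htN
  set M₁ := R ⊓ normalizer (R' : Set G)
  have hYR' : Y ≤ R' := le_inf hYR Subgroup.le_normalizer
  have hin : ∀ u ∈ M₁, Y.map (MulAut.conj u).toMonoidHom ≤ R' := fun u hu =>
    (Subgroup.map_mono hYR').trans (H50.map_conj_eq_iff.2 hu.2).le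
  have hcom : ∀ u ∈ M₁, Y.map (MulAut.conj u).toMonoidHom ≤ centralizer (Y : Set G) := by
    intro u hu
    have e1 : Y.map (MulAut.conj (1 : G)).toMonoidHom = Y := H50.map_conj_eq_iff.2 (one_mem _)
    have h2 : Y ≤ normalizer ((Y.map (MulAut.conj u).toMonoidHom : Subgroup G) : Set G) := by
      refine hYR'.trans ?_
      rw [← H50.map_conj_eq_iff.2 hu.2]
      exact map_conj_le_normalizer_map_conj inf_le_right u
    have h := asymmetric_commute d.asym (x := u) (y := 1)
      (by rw [e1]; exact (hin u hu).trans inf_le_right) (by rw [e1]; exact h2)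
    rwa [e1] at h
  exact htR' ⟨htR, d.le_normalizer_of_commute (inf_le_left.trans hRL) hcom ⟨htR, htN⟩⟩

/-- Every proper subgroup of `L` containing `Y` normalizes `Y`. -/
theorem proper_le_normalizer {X : Subgroup G} (hYX : Y ≤ X) (hXL : X < L) :
    X ≤ normalizer (Y : Set G) := by
  have hYO : Y ≤ pCoreOf p X := by
    by_contra h
    exact hXL.ne (d.minL X hXL.le hYX h)
  have hON := d.pgroup_le_normalizer (H74.pCoreOf_isPGroup X) ((H74.pCoreOf_le X).trans hXL.le) hYO
  refine d.le_normalizer_of_commute hXL.le fun u hu => ?_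
  have e1 : Y.map (MulAut.conj (1 : G)).toMonoidHom = Y := H50.map_conj_eq_iff.2 (one_mem _)
  have hu' : (pCoreOf p X).map (MulAut.conj u).toMonoidHom = pCoreOf p X :=
    H50.map_conj_eq_iff.2 (H74.le_normalizer_pCoreOf X hu)
  have h2 : Y ≤ normalizer ((Y.map (MulAut.conj u).toMonoidHom : Subgroup G) : Set G) := by
    refine hYO.trans ?_
    rw [← hu']
    exact map_conj_le_normalizer_map_conj hON u
  have h := asymmetric_commute d.asym (x := u) (y := 1)
    (by rw [e1]; exact ((Subgroup.map_mono hYO).trans hu'.le).trans hON) (by rw [e1]; exact h2)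
  rwa [e1] at h

theorem not_le_normalizer : L ⊓ normalizer (Y : Set G) < L := by
  refine lt_of_le_of_ne inf_le_left fun h => d.not_le_L ?_
  exact H74.le_pCoreOf d.mem (h ▸ inf_le_right) (isPGroup_of_elementary d.elem)

theorem normal_eq {N : Subgroup G} (hYN : Y ≤ N) (hNL : N ≤ L) (hLN : L ≤ normalizer (N : Set G)) :
    N = L := by
  by_contra hne
  have hYO : Y ≤ pCoreOf p N := by
    by_contra h
    exact hne (d.minL N hNL hYN h)
  exact d.not_le_L (hYO.trans (H74.le_pCoreOf ((H74.pCoreOf_le N).trans hNL)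
    (hLN.trans (normalizer_le_normalizer_pCoreOf N)) (H74.pCoreOf_isPGroup N)))

theorem sup_conj_eq {h : G} (hh : h ∈ L) (hn : h ∉ normalizer (Y : Set G)) :
    Y ⊔ Y.map (MulAut.conj h).toMonoidHom = L := by
  set Y' := Y.map (MulAut.conj h).toMonoidHom
  have hLL : L.map (MulAut.conj h).toMonoidHom = L := H50.map_conj_eq_iff.2 (Subgroup.le_normalizer hh)
  have hY'L : Y' ≤ L := (Subgroup.map_mono d.mem).trans hLL.le
  by_contra hne
  set N := L ⊓ normalizer (Y : Set G)
  have h1 : Y ⊔ Y' ≤ N := le_inf (sup_le d.mem hY'L)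
    (d.proper_le_normalizer le_sup_left (lt_of_le_of_ne (sup_le d.mem hY'L) hne))
  have hNN : N.map (MulAut.conj h).toMonoidHom ≤ L := (Subgroup.map_mono inf_le_left).trans hLL.le
  have hlt : N.map (MulAut.conj h).toMonoidHom < L := lt_of_le_of_ne hNN fun e => by
    have : Nat.card N = Nat.card L := by
      rw [show Nat.card N = Nat.card (N.map (MulAut.conj h).toMonoidHom) from
        (Subgroup.card_map_of_injective (MulAut.conj h).injective).symm, e]
    exact d.not_le_normalizer.ne (eq_of_le_of_card_ge inf_le_left this.ge)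
  -- `Y` lies in the conjugate maximal subgroup
  have hYN' : Y ≤ N.map (MulAut.conj h).toMonoidHom := by
    have h2 : Y.map (MulAut.conj h⁻¹).toMonoidHom ≤ N := by
      set Yi := Y.map (MulAut.conj h⁻¹).toMonoidHom
      have hLi : L.map (MulAut.conj h⁻¹).toMonoidHom = L :=
        H50.map_conj_eq_iff.2 (Subgroup.le_normalizer (inv_mem hh))
      refine le_trans le_sup_right (le_inf (sup_le d.mem ((Subgroup.map_mono d.mem).trans hLi.le))
        (d.proper_le_normalizer le_sup_left (lt_of_le_of_ne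
          (sup_le d.mem ((Subgroup.map_mono d.mem).trans hLi.le)) fun e => hne ?_)))
      rw [← hLL]
      conv_rhs => rw [← e, Subgroup.map_sup, H50.map_conj_map, mul_inv_cancel,
        H50.map_conj_eq_iff.2 (one_mem _), sup_comm]
    rw [map_conj_le_iff] at h2
    simpa using h2
  have heq : N.map (MulAut.conj h).toMonoidHom ≤ N :=
    le_inf hNN (d.proper_le_normalizer hYN' hlt)
  have hhN : h ∈ normalizer (N : Set G) := H50.map_conj_eq_iff.1 (eq_of_le_of_card_ge heq
    (Subgroup.card_map_of_injective (MulAut.conj h).injective).ge)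
  -- hence `N` is normal in `L`
  have hmax : L ≤ normalizer (N : Set G) := by
    by_contra hLn
    have hY : Y ≤ L ⊓ normalizer (N : Set G) :=
      le_inf d.mem ((le_sup_left.trans h1).trans Subgroup.le_normalizer)
    have := d.proper_le_normalizer hY
      (lt_of_le_of_ne inf_le_left fun e => hLn (e ▸ inf_le_right))
    exact hn (this ⟨hh, hhN⟩)
  exact d.not_le_normalizer.ne (d.normal_eq (le_sup_left.trans h1) inf_le_left hmax)

theorem conj_sup_eq {h : G} (hh : h ∈ L) (hn : h ∉ normalizer (Y : Set G)) :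
    Y.map (MulAut.conj h).toMonoidHom ⊔ P = H := by
  by_contra hne
  set X := Y.map (MulAut.conj h).toMonoidHom ⊔ P
  have hXH : X ≤ H := sup_le ((Subgroup.map_mono (d.le_core.trans d.core_le)).trans
    (H50.map_conj_eq_iff.2 (Subgroup.le_normalizer (d.le hh))).le) d.core_le
  refine d.not_le_L (d.le_pCoreOf_inf (X := X) le_sup_right (lt_of_le_of_ne hXH hne) ?_ d.mem)
  rw [← d.sup_conj_eq hh hn]
  exact sup_le (d.le_core.trans le_sup_right) le_sup_left

theorem core_le_normalizer_L : pCoreOf p H ≤ normalizer (L : Set G) := by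
  obtain ⟨g, hg, hgen⟩ := d.exists_gen
  obtain ⟨-, -, hWL, -, hDL, -, -⟩ := d.basic_facts hg hgen
  exact le_normalizer_of_commutator_le (hWL.trans hDL)

theorem isMinimalOver : IsMinimalOver (Y.subgroupOf L) := by
  constructor
  · set N := (Subgroup.normalClosure ((Y.subgroupOf L : Subgroup L) : Set L)).map L.subtype
    have hN : N = L := by
      refine d.normal_eq (fun y hy => ⟨⟨y, d.mem hy⟩, subset_normalClosure hy, rfl⟩)
        (map_subtype_le _) ?_
      refine (normal_subgroupOf_iff_le_normalizer (map_subtype_le _)).1 ?_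
      rw [show N.subgroupOf L = Subgroup.normalClosure ((Y.subgroupOf L : Subgroup L) : Set L) from
        comap_map_eq_self_of_injective L.subtype_injective _]
      infer_instance
    refine eq_top_iff.2 fun x _ => ?_
    obtain ⟨y, hy, e⟩ := hN.ge x.2
    rwa [show y = x from Subtype.ext e] at hy
  · set N := (L ⊓ normalizer (Y : Set G)).subgroupOf L
    have hYN : Y.subgroupOf L ≤ N := fun y hy => ⟨y.2, Subgroup.le_normalizer hy⟩
    have hmax : ∀ M : Subgroup L, M ≠ ⊤ → Y.subgroupOf L ≤ M → M ≤ N := by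
      intro M hM hYM x hx
      refine ⟨x.2, ?_⟩
      refine d.proper_le_normalizer (X := M.map L.subtype) ?_ ?_ ⟨x, hx, rfl⟩
      · exact fun y hy => ⟨⟨y, d.mem hy⟩, hYM hy, rfl⟩
      · refine lt_of_le_of_ne (map_subtype_le _) fun e => hM (eq_top_iff.2 fun z _ => ?_)
        obtain ⟨w, hw, e'⟩ := e.ge z.2
        rwa [show w = z from Subtype.ext e'] at hw
    have hNtop : N ≠ ⊤ := fun e =>
      d.not_le_normalizer.ne (le_antisymm inf_le_left (subgroupOf_eq_top.1 e))
    have hco : IsCoatom N := by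
      refine ⟨hNtop, fun M hNM => ?_⟩
      by_contra hM
      exact hNM.not_ge (hmax M hM (hYN.trans hNM.le))
    refine ⟨N, ⟨hco, hYN⟩, fun M hM => ?_⟩
    have h := hmax M hM.1.1 hM.2
    exact (eq_or_lt_of_le h).elim id fun hlt => absurd (hM.1.2 N hlt) hNtop

theorem inf_core_le : pCoreOf p L ⊓ Y ≤ pCoreOf p H := by
  obtain ⟨g, hg, hgen⟩ := d.exists_gen
  obtain ⟨hCD, hLD, hWL, hDW, hDL, hH1, hU⟩ := d.basic_facts hg hgen
  set W := pCoreOf p H
  set A := pCoreOf p L
  set Yg := Y.map (MulAut.conj g).toMonoidHom with hYg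
  have hAY : A ≤ normalizer (Y : Set G) := by
    have h := d.pgroup_le_normalizer
      (IsPGroup.to_sup_of_normal_left' (H74.pCoreOf_isPGroup L) (isPGroup_of_elementary d.elem)
        (d.mem.trans (H74.le_normalizer_pCoreOf L)))
      (sup_le (H74.pCoreOf_le L) d.mem) le_sup_right
    exact le_sup_left.trans h
  have hAYg : A ≤ normalizer (Yg : Set G) := by
    have h := map_conj_le_normalizer_map_conj hAY g
    rwa [H50.map_conj_eq_iff.2 (H74.le_normalizer_pCoreOf L hg)] at h
  set B := A ⊓ Y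
  set Z := W ⊓ Y ⊓ Yg
  set W₁ := (W ⊓ Y) ⊔ (W ⊓ Yg) ⊔ ⁅W, P⁆
  have hW₁W : W₁ ≤ W := sup_le hDW (by
    rw [commutator_comm]
    exact commutator_le_of_le_normalizer (d.core_le.trans (H74.le_normalizer_pCoreOf H)))
  have hZH : ∀ x ∈ H, ∀ z ∈ Z, Commute x z := by
    intro x hx z hz
    have h : H ≤ centralizer ({z} : Set G) := by
      rw [← d.sup_eq, ← hgen]
      refine sup_le (sup_le (fun y hy => ?_) fun y hy => ?_) fun y hy => ?_
      · exact mem_centralizer_singleton_iff.2
          (congrArg Subtype.val (d.elem.1.is_comm.comm ⟨y, hy⟩ ⟨z, hz.1.2⟩))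
      · obtain ⟨y', hy', rfl⟩ := hy
        obtain ⟨z', hz', hzz⟩ := hz.2
        refine mem_centralizer_singleton_iff.2 ?_
        rw [← hzz, ← map_mul, ← map_mul]
        exact congrArg _ (congrArg Subtype.val (d.elem.1.is_comm.comm ⟨y', hy'⟩ ⟨z', hz'⟩))
      · exact mem_centralizer_singleton_iff.2 (mem_centralizer_iff.1 (d.le_centralizer hy) z hz.1.2).symm
    exact mem_centralizer_singleton_iff.1 (h hx)
  have hHZ : H ≤ normalizer (Z : Set G) := fun x hx => centralizer_le_normalizer _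
    (mem_centralizer_iff.2 fun z hz => (hZH x hx z hz).eq.symm)
  have hHW₁ : H ≤ normalizer (W₁ : Set G) := hH1
  have hHW : H ≤ normalizer (W : Set G) := H74.le_normalizer_pCoreOf H
  let N : Subgroup G :=
    { carrier := {a | a ∈ H ∧ (∀ b ∈ W, ⁅a, b⁆ ∈ W₁) ∧ ∀ b ∈ W₁, ⁅a, b⁆ ∈ Z}
      one_mem' := ⟨one_mem _, fun c _ => by simp [commutatorElement_def],
        fun c _ => by simp [commutatorElement_def]⟩
      mul_mem' := by
        rintro a b ⟨ha, ha', ha''⟩ ⟨hb, hb', hb''⟩
        refine ⟨mul_mem ha hb, fun c hc => ?_, fun c hc => ?_⟩ <;>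
          rw [show ⁅a * b, c⁆ = a * ⁅b, c⁆ * a⁻¹ * ⁅a, c⁆ by
            simp only [commutatorElement_def]; group]
        · exact mul_mem ((mem_normalizer_iff.1 (hHW₁ ha) _).1 (hb' c hc)) (ha' c hc)
        · exact mul_mem ((mem_normalizer_iff.1 (hHZ ha) _).1 (hb'' c hc)) (ha'' c hc)
      inv_mem' := by
        rintro a ⟨ha, ha', ha''⟩
        refine ⟨inv_mem ha, fun c hc => ?_, fun c hc => ?_⟩ <;>
          rw [show ⁅a⁻¹, c⁆ = a⁻¹ * ⁅a, c⁆⁻¹ * a⁻¹⁻¹ by
            simp only [commutatorElement_def]; group]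
        · exact (mem_normalizer_iff.1 (hHW₁ (inv_mem ha)) _).1 (inv_mem (ha' c hc))
        · exact (mem_normalizer_iff.1 (hHZ (inv_mem ha)) _).1 (inv_mem (ha'' c hc)) }
  have hNH : H ≤ normalizer (N : Set G) := by
    intro x hx
    refine H50.map_conj_eq_iff.1 (eq_of_le_of_card_ge ?_
      (Subgroup.card_map_of_injective (MulAut.conj x).injective).ge)
    rintro _ ⟨k, ⟨hk, hk', hk''⟩, rfl⟩
    refine ⟨mul_mem (mul_mem hx hk) (inv_mem hx), fun b hb => ?_, fun b hb => ?_⟩ <;>
      rw [show ⁅(MulAut.conj x).toMonoidHom k, b⁆ = x * ⁅k, x⁻¹ * b * x⁆ * x⁻¹ by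
        simp [commutatorElement_def, mul_assoc]]
    · refine (mem_normalizer_iff.1 (hHW₁ hx) _).1 (hk' _ ?_)
      simpa using (mem_normalizer_iff.1 (inv_mem (hHW hx)) b).1 hb
    · refine (mem_normalizer_iff.1 (hHZ hx) _).1 (hk'' _ ?_)
      simpa using (mem_normalizer_iff.1 (inv_mem (hHW₁ hx)) b).1 hb
  have hNp : IsPGroup p N := by
    refine H74.isPGroup_of_pPrime_elements_trivial fun x hx hx' => ?_
    have hWp : IsPGroup p W := H74.pCoreOf_isPGroup H
    have h1 : ∀ b ∈ W₁, Commute x b := fun b hb =>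
      H74.commute_of_commutator_mem hWp hx' (hx.2.2 b hb).1.1 (hZH x hx.1 _ (hx.2.2 b hb))
    refine H74.eq_one_of_mem_pGroup hWp hx' (d.charP ⟨hx.1, mem_centralizer_iff.2 fun b hb => ?_⟩)
    exact (H74.commute_of_commutator_mem hWp hx' (hW₁W (hx.2.1 b hb)) (h1 _ (hx.2.1 b hb))).eq.symm
  have hNW : N ≤ W := H74.le_pCoreOf (fun x hx => hx.1) hNH hNp
  intro b hb
  refine hNW ⟨d.le (H74.pCoreOf_le L hb.1), fun w hw => ?_, fun w hw => ?_⟩
  · refine mem_sup_left (hWL ?_)
    rw [commutator_comm]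
    exact commutator_mem_commutator (H74.pCoreOf_le L hb.1) hw
  · -- `b` acts trivially on `W₁ / Z`
    have hbN : b ∈ normalizer (Z : Set G) := hHZ (d.le (H74.pCoreOf_le L hb.1))
    let K : Subgroup G :=
      { carrier := {w | w ∈ W₁ ∧ ⁅b, w⁆ ∈ Z}
        one_mem' := ⟨one_mem _, by simp [commutatorElement_def]⟩
        mul_mem' := by
          rintro u v ⟨hu, hu'⟩ ⟨hv, hv'⟩
          refine ⟨mul_mem hu hv, ?_⟩
          rw [show ⁅b, u * v⁆ = ⁅b, u⁆ * (u * ⁅b, v⁆ * u⁻¹) by
            simp only [commutatorElement_def]; group]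
          exact mul_mem hu' ((mem_normalizer_iff.1 (hHZ (H74.pCoreOf_le H (hW₁W hu))) _).1 hv')
        inv_mem' := by
          rintro u ⟨hu, hu'⟩
          refine ⟨inv_mem hu, ?_⟩
          rw [show ⁅b, u⁻¹⁆ = u⁻¹ * ⁅b, u⁆⁻¹ * u⁻¹⁻¹ by simp only [commutatorElement_def]; group]
          exact (mem_normalizer_iff.1 (hHZ (inv_mem (H74.pCoreOf_le H (hW₁W hu)))) _).1 (inv_mem hu') }
    have h1 : W₁ ≤ K := by
      have hone : ∀ {z : G}, z * b = b * z → ⁅b, z⁆ ∈ Z := fun hzb => by
        rw [commutatorElement_eq_one_iff_mul_comm.2 hzb.symm]; exact one_mem _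
      refine sup_le (sup_le (fun z hz => ⟨mem_sup_left (mem_sup_left hz), hone ?_⟩)
        fun z hz => ⟨mem_sup_left (mem_sup_right hz), ?_⟩) fun z hz => ⟨mem_sup_right hz, hone ?_⟩
      · exact congrArg Subtype.val (d.elem.1.is_comm.comm ⟨z, hz.2⟩ ⟨b, hb.2⟩)
      · refine Subgroup.mem_inf.2 ⟨Subgroup.mem_inf.2 ⟨?_, ?_⟩,
          commutator_le_of_le_normalizer hAYg (commutator_mem_commutator hb.1 hz.2)⟩
        · exact commutator_le_of_le_normalizer ((d.le_core.trans d.core_le).trans hHW)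
            (commutator_mem_commutator hb.2 hz.1)
        · have := commutator_le_of_le_normalizer (d.pCoreOf_le_normalizer d.core_le)
          rw [commutator_comm] at this
          exact this (commutator_mem_commutator hb.2 hz.1)
      · obtain ⟨y, hy, hyz⟩ := hU z hz
        have h2 : b * (y⁻¹ * z) = (y⁻¹ * z) * b :=
          mem_centralizer_iff.1 hyz b (d.mem hb.2)
        have h3 : y * b = b * y := congrArg Subtype.val (d.elem.1.is_comm.comm ⟨y, hy.2⟩ ⟨b, hb.2⟩)
        calc z * b = y * ((y⁻¹ * z) * b) := by group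
          _ = (y * b) * (y⁻¹ * z) := by rw [← h2, mul_assoc]
          _ = b * z := by rw [h3]; group
    exact (h1 hw).2

/-- `O^p(L)` acts nontrivially on every noncentral chief factor of `H` inside `O_p(H)`. -/
theorem residual_nontrivial {V W' : Subgroup G} (hV : V ≤ pCoreOf p H)
    (hHV : H ≤ normalizer (V : Set G)) (hHW' : H ≤ normalizer (W' : Set G)) (hlt : W' < V)
    (hchief : ∀ Z' : Subgroup G, H ≤ normalizer (Z' : Set G) → W' ≤ Z' → Z' ≤ V → Z' = W' ∨ Z' = V)
    (hnc : ¬ ⁅V, H⁆ ≤ W') : ¬ ⁅V, (pResidual p ↥L).map L.subtype⁆ ≤ W' := by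
  intro htriv
  set RL := (pResidual p ↥L).map L.subtype
  set R := (pResidual p ↥H).map H.subtype
  set W := pCoreOf p H
  have hWp : IsPGroup p W := H74.pCoreOf_isPGroup H
  have hWH : W ≤ H := H74.pCoreOf_le H
  have hVH : V ≤ H := hV.trans hWH
  -- `L = O^p(L) Y`
  have hLRL : L ≤ normalizer (RL : Set G) := Subgroup.le_normalizer.trans (normalizer_le_normalizer_resid L)
  have hLY : RL ⊔ Y = L := by
    by_contra hne
    set X := RL ⊔ Y
    have hXL : X < L := lt_of_le_of_ne (sup_le (map_subtype_le _) d.mem) hne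
    have hn := d.proper_le_normalizer le_sup_right hXL
    have hYO : Y ≤ pCoreOf p X :=
      H74.le_pCoreOf le_sup_right hn (isPGroup_of_elementary d.elem)
    have hsn : (X.subgroupOf L).IsSubnormal := by
      have hq : IsPGroup p (↥L ⧸ pResidual p ↥L) := H22.isPGroup_quotient_pResidual
      have : Group.IsNilpotent (↥L ⧸ pResidual p ↥L) := hq.isNilpotent
      have h3 := (isSubnormal_of_isNilpotent
        ((X.subgroupOf L).map (QuotientGroup.mk' (pResidual p ↥L)))).comap
        (QuotientGroup.mk' (pResidual p ↥L))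
      rwa [comap_map_eq, QuotientGroup.ker_mk', sup_eq_left.2] at h3
      intro x hx
      exact mem_sup_left (S := RL) ⟨x, hx, rfl⟩
    apply d.not_le_L
    intro y hy
    obtain ⟨⟨z, hz⟩, hzc, rfl⟩ := hYO hy
    refine ⟨⟨z, hXL.le hz⟩, H72.pCoreOf_le_pCore_of_isSubnormal hsn
      ⟨(subgroupOfEquivOfLe hXL.le).symm ⟨z, hz⟩, ?_, rfl⟩, rfl⟩
    rw [SetLike.mem_coe, ← H74.pCore_map_mulEquiv (subgroupOfEquivOfLe hXL.le).symm]
    exact ⟨_, hzc, rfl⟩
  set Z' := ⁅V, Y⁆ ⊔ W' with hZ'
  have hYH : Y ≤ H := d.le_core.trans d.core_le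
  have hVY : ⁅V, Y⁆ ≤ V := by
    rw [commutator_comm]; exact commutator_le_of_le_normalizer (hYH.trans hHV)
  have hVY' : ⁅V, Y⁆ ≤ W ⊓ Y := by
    refine (commutator_mono hV le_rfl).trans ?_
    have h := d.commutator_core_le (one_mem H)
    rwa [H50.map_conj_eq_iff.2 (one_mem _)] at h
  have hZle : ∀ {A : Subgroup G}, A ≤ H → ⁅⁅V, Y⁆, A⁆ ≤ W' →
      A ≤ normalizer (Z' : Set G) ∧ ⁅Z', A⁆ ≤ W' := by
    intro A hAH hA
    have h2 : ⁅Z', A⁆ ≤ W' := by
      refine commutator_le.2 fun z hz a ha => ?_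
      have hz' : z ∈ ((⁅V, Y⁆ ⊔ W' : Subgroup G) : Set G) := hz
      rw [coe_mul_of_left_le_normalizer_right _ _ ((hVY.trans hVH).trans hHW')] at hz'
      obtain ⟨c, hc, w, hw, rfl⟩ := hz'
      rw [show ⁅c * w, a⁆ = c * ⁅w, a⁆ * c⁻¹ * ⁅c, a⁆ by simp only [commutatorElement_def]; group]
      refine mul_mem ((mem_normalizer_iff.1 (hHW' (hVH (hVY hc))) _).1 ?_)
        (hA (commutator_mem_commutator hc ha))
      have := commutator_le_of_le_normalizer (hAH.trans hHW')
      rw [commutator_comm] at this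
      exact this (commutator_mem_commutator hw ha)
    refine ⟨le_normalizer_of_commutator_le ?_, h2⟩
    rw [commutator_comm]
    exact h2.trans le_sup_right
  have hRLH : RL ≤ H := (map_subtype_le _).trans d.le
  have hZR := hZle hRLH ((commutator_mono hVY le_rfl).trans htriv)
  have hzero : ∀ {A : Subgroup G}, A ≤ centralizer (Y : Set G) → ⁅⁅V, Y⁆, A⁆ ≤ W' := fun {A} hA => by
    rw [commutator_eq_bot_iff_le_centralizer.2
      ((hVY'.trans inf_le_right).trans (le_centralizer_iff.1 hA))]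
    exact bot_le
  have hZY := hZle hYH (hzero (le_centralizer_of_elementary d.elem))
  have hZP := hZle d.core_le (hzero d.le_centralizer)
  have hHeq : H = RL ⊔ Y ⊔ P := by rw [hLY, d.sup_eq]
  have hHZ : H ≤ normalizer (Z' : Set G) := hHeq.trans_le (sup_le (sup_le hZR.1 hZY.1) hZP.1)
  -- a bound for generated subgroups
  have hgenle : ∀ {U : Subgroup G} {A B : Subgroup G}, U ≤ V → A ≤ H → B ≤ H →
      ⁅U, A⁆ ≤ W' → ⁅U, B⁆ ≤ W' → ⁅U, A ⊔ B⁆ ≤ W' := by
    intro U A B hU hA hB h1 h2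
    rw [commutator_comm]
    have e : A ⊔ B = ⨆ b : Bool, if b then A else B := by rw [iSup_bool_eq]; simp
    rw [e]
    refine commutator_iSup_le (by rw [← e]; exact (sup_le hA hB).trans hHW') fun b => ?_
    cases b
    · rw [if_neg (by simp), commutator_comm]; exact h2
    · rw [if_pos rfl, commutator_comm]; exact h1
  have hZV : Z' ≤ V := sup_le hVY hlt.le
  rcases hchief Z' hHZ le_sup_right hZV with hz | hz
  · -- `Y` acts trivially
    have hVY1 : ⁅V, Y⁆ ≤ W' := hz ▸ le_sup_left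
    have hVL : ⁅V, L⁆ ≤ W' := hLY ▸ hgenle le_rfl hRLH hYH htriv hVY1
    have hRH : R ≤ H := map_subtype_le _
    have hVR : ⁅V, R⁆ ≤ W' := by
      refine le_of_eq_of_le (congrArg (fun U : Subgroup G => ⁅V, U⁆) d.residual.symm) ?_
      rw [commutator_comm]
      refine commutator_le.2 fun r hr v hv => ?_
      refine commutator_mem_of_trivial_action (C := R) (Q := Y) (hRH.trans hHV) (hRH.trans hHW')
        (hYH.trans hHV) (hYH.trans hHW') (fun y hy v hv => ?_) r hr v hv
      have := hVY1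
      rw [commutator_comm] at this
      exact this (commutator_mem_commutator hy hv)
    set U := ⁅V, P⁆ ⊔ W'
    have hUV : U ≤ V := sup_le (by
      rw [commutator_comm]; exact commutator_le_of_le_normalizer (d.core_le.trans hHV)) hlt.le
    have hHU : H ≤ normalizer (U : Set G) := by
      rw [← d.residual_sup]
      refine sup_le ?_ ?_ <;> apply le_normalizer_of_commutator_le <;> rw [commutator_comm]
      · exact ((commutator_mono hUV le_rfl).trans hVR).trans le_sup_right
      · exact (commutator_mono hUV le_rfl).trans le_sup_left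
    rcases hchief U hHU le_sup_right hUV with hu | hu
    · exact hnc (d.residual_sup ▸ hgenle le_rfl hRH d.core_le hVR (hu ▸ le_sup_left))
    · have hPp := wc_isPGroup d.wc
      have hK : IsPGroup p ↥(W ⊔ P) := IsPGroup.to_sup_of_normal_left' hWp hPp
        (d.core_le.trans (H74.le_normalizer_pCoreOf H))
      exact hlt.not_ge (le_of_le_commutator_sup hK.isNilpotent (hV.trans le_sup_left) le_sup_right
        ((hlt.le.trans hV).trans le_sup_left) ((sup_le hWH d.core_le).trans hHW') hu.ge)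
  · -- `[V, Y] W' = V` is centralized modulo `W'` by `H`
    apply hnc
    rw [hHeq, ← hz]
    exact hgenle hZV (sup_le hRLH hYH) d.core_le (hgenle hZV hRLH hYH hZR.2 hZY.2) hZP.2

end AsymLData

end Cfsg.Agent.H73
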