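import Cfsg.Agent.H73.YReduced

/-!
The basic property `𝔐`, existence of members, and the asymmetric case.
-/

set_option autoImplicit false

namespace Cfsg.Agent.H73

open Subgroup
open scoped commutatorElement Pointwise

variable {G : Type*} [Group G] [Finite G] {p : ℕ} [Fact p.Prime]

/-- Replacing `L` by `N_M(C_T(Y_L))` keeps `Y_L`. -/
theorem yl_star {T : Sylow p G} {L M : Subgroup G} (hTL : (T : Subgroup G) ≤ L)
    (hTM : (T : Subgroup G) ≤ M) (hL : L ⊓ centralizer (pCoreOf p L : Set G) ≤ pCoreOf p L)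
    (hfac : M ⊔ centralizer (largestPReducedOf p L : Set G) =
      L ⊔ centralizer (largestPReducedOf p L : Set G))
    {Ls : Subgroup G}
    (hLs : Ls = M ⊓ normalizer ((((T : Subgroup G) ⊓ centralizer (largestPReducedOf p L : Set G) :
      Subgroup G)) : Set G))
    (hLsc : Ls ⊓ centralizer (pCoreOf p Ls : Set G) ≤ pCoreOf p Ls) :
    (T : Subgroup G) ≤ Ls ∧ largestPReducedOf p Ls = largestPReducedOf p L ∧
      Ls ⊔ centralizer (largestPReducedOf p L : Set G) = L ⊔ centralizer (largestPReducedOf p L : Set G) := by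
  set Y := largestPReducedOf p L
  set C := centralizer (Y : Set G)
  set T₀ := (T : Subgroup G) ⊓ C
  have hY := yl_reduced hL
  have hYT : Y ≤ (T : Subgroup G) := (reducedIn_le_pCoreOf hY).trans (pCoreOf_le_sylow hTL)
  have hMY : M ≤ normalizer (Y : Set G) :=
    le_sup_left.trans (hfac.trans_le (sup_le hY.2.1 (centralizer_le_normalizer _)))
  have hMC : M ≤ normalizer (C : Set G) := hMY.trans H74.normalizer_le_normalizer_centralizer
  have hTN : (T : Subgroup G) ≤ normalizer (T₀ : Set G) :=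
    normalizer_inf_le le_normalizer (hTM.trans hMC)
  have hTLs : (T : Subgroup G) ≤ Ls := hLs ▸ le_inf hTM hTN
  have hsup : Ls ⊔ C = L ⊔ C := by
    rw [← hfac]
    refine le_antisymm (sup_le_sup_right (hLs ▸ inf_le_left) C) (sup_le ?_ le_sup_right)
    have h := le_inf_normalizer_sup (K := M ⊓ C) hTM inf_le_left (normalizer_inf_le le_normalizer hMC)
    have e : (T : Subgroup G) ⊓ (M ⊓ C) = T₀ := by rw [← inf_assoc, inf_eq_left.2 hTM]
    rw [e] at h
    exact h.trans (sup_le_sup hLs.ge inf_le_right)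
  refine ⟨hTLs, le_antisymm ?_ ?_, hsup⟩
  · intro y hy
    have hYs := yl_reduced hLsc
    have hT₀O : T₀ ≤ pCoreOf p Ls :=
      H74.le_pCoreOf (inf_le_left.trans hTLs) (hLs ▸ inf_le_right) (T.2.to_le inf_le_left)
    have hYT₀ : Y ≤ T₀ := le_inf hYT (le_centralizer_of_elementary hY.2.2.1)
    have hc : ∀ t ∈ T₀, t * y = y * t := fun t ht =>
      (mem_centralizer_iff.1 (reducedIn_pCoreOf_le_centralizer hYs (hT₀O ht)) y hy).symm
    exact mem_yl_of_centralizes hL hTL (pCoreOf_le_sylow hTLs (reducedIn_le_pCoreOf hYs hy))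
      (mem_centralizer_iff.2 fun z hz => hc z (hYT₀ hz)) hc (hYs.2.2.1.2 y hy)
  · exact le_yl (reducedIn_of_sup_eq hY (hYT.trans hTLs) hsup)

/-- `Y_L ≠ 1` for `L ∈ 𝓛` containing a Sylow subgroup. -/
theorem yl_ne_bot {L : Subgroup G} (hL : L ∈ charPSubgroups p G) {T : Sylow p G}
    (hTL : (T : Subgroup G) ≤ L) : largestPReducedOf p L ≠ ⊥ := by
  have hT : (T : Subgroup G) ≠ ⊥ := fun h =>
    pCoreOf_ne_bot hL (le_bot_iff.1 (h ▸ pCoreOf_le_sylow hTL))
  obtain ⟨z, hz, hzo, hzc⟩ := exists_central_orderOf_eq_prime T.2 hT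
  intro h
  have h1 := mem_yl_of_central (charP_of_mem_charPSubgroups hL) hTL hz hzc (hzo ▸ pow_orderOf_eq_one z)
  rw [h, mem_bot] at h1
  rw [h1, orderOf_one] at hzo
  exact (Fact.out : p.Prime).one_lt.ne hzo

/-- Members of `𝔐` exist above every parabolic member of `𝓛` (in parabolic characteristic `p`). -/
theorem exists_frakM (hpar : IsOfParabolicCharacteristic p G) (T : Sylow p G) {L : Subgroup G}
    (hTL : (T : Subgroup G) ≤ L) (hL : L ∈ charPSubgroups p G) :
    ∃ M Ls : Subgroup G, (T : Subgroup G) ≤ M ∧ IsInFrakM p M ∧ (T : Subgroup G) ≤ Ls ∧ Ls ≤ M ∧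
      Ls ∈ charPSubgroups p G ∧ largestPReducedOf p L = largestPReducedOf p Ls ∧
      largestPReducedOf p L ≤ largestPReducedOf p M ∧
      L ⊔ centralizer (largestPReducedOf p L : Set G) =
        Ls ⊔ centralizer (largestPReducedOf p L : Set G) := by
  classical
  set YL := largestPReducedOf p L
  set CL := centralizer (YL : Set G)
  let 𝒦 : Set (Subgroup G) := {X | (T : Subgroup G) ≤ X ∧ X ∈ charPSubgroups p G ∧
    YL ≤ largestPReducedOf p X ∧ ∃ L', (T : Subgroup G) ≤ L' ∧ L' ≤ X ∧ L' ⊔ CL = L ⊔ CL}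
  let C : Subgroup G → Subgroup G := fun X => centralizer (largestPReducedOf p X : Set G)
  let f : Subgroup G → ℕ := fun X =>
    Nat.card (largestPReducedOf p X) * (Nat.card G + 1) + Nat.card ↥(X ⊔ C X)
  obtain ⟨K, ⟨hTK, hK, hYK, L', hTL', hL'K, hL'⟩, hmax⟩ := (Set.toFinite 𝒦).exists_maximalFor f 𝒦
    ⟨L, hTL, hL, le_rfl, L, hTL, le_rfl, rfl⟩
  set Y := largestPReducedOf p K with hYdef
  have hcK := charP_of_mem_charPSubgroups hK
  have hY := yl_reduced hcK
  have hY1 : Y ≠ ⊥ := yl_ne_bot hK hTK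
  have hYp := isPGroup_of_elementary hY.2.2.1
  have hYT : Y ≤ (T : Subgroup G) := (reducedIn_le_pCoreOf hY).trans (pCoreOf_le_sylow hTK)
  have hCX : ∀ X, C X = centralizer (largestPReducedOf p X : Set G) := fun X => rfl
  set CY := centralizer (Y : Set G) with hCY
  have hCYL : CY ≤ CL := centralizer_le hYK
  have hbound : ∀ X ∈ 𝒦, Y ≤ largestPReducedOf p X → largestPReducedOf p X = Y ∧
      Nat.card ↥(X ⊔ C X) ≤ Nat.card ↥(K ⊔ CY) := by
    intro X hX hYX
    have h1 : f X ≤ f K := (le_total (f X) (f K)).elim id (fun h => hmax hX h)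
    have hlt : Nat.card ↥(K ⊔ C K) ≤ Nat.card G := Subgroup.card_le_card_group _
    have h2 : Nat.card (largestPReducedOf p X) ≤ Nat.card Y := by
      by_contra h
      rw [not_le] at h
      have : f K < f X :=
        calc f K < (Nat.card Y + 1) * (Nat.card G + 1) := by
              simp only [f, add_mul, one_mul, ← hYdef]; omega
          _ ≤ Nat.card (largestPReducedOf p X) * (Nat.card G + 1) := Nat.mul_le_mul_right _ h
          _ ≤ f X := Nat.le_add_right _ _
      omega
    have h3 := (eq_of_le_of_card_ge hYX h2).symm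
    refine ⟨h3, ?_⟩
    simp only [f, hCX, h3, ← hYdef] at h1
    simp only [hCX, h3]
    exact Nat.le_of_add_le_add_left h1
  -- a minimal `M`
  obtain ⟨M, ⟨hTM, hMK, hMC⟩, hMmin⟩ := (Set.toFinite {X : Subgroup G | (T : Subgroup G) ≤ X ∧
    X ≤ K ∧ X ⊔ CY = K ⊔ CY}).exists_minimalFor id _ ⟨K, hTK, le_rfl, rfl⟩
  have hMY : M ≤ normalizer (Y : Set G) := hMK.trans hY.2.1
  have hMCn : M ≤ normalizer (CY : Set G) := hMY.trans H74.normalizer_le_normalizer_centralizer
  have hM : M ∈ charPSubgroups p G := mem_charPSubgroups_of_parabolic hpar hTM fun h =>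
    hY1 (le_bot_iff.1 (h ▸ H74.le_pCoreOf (hYT.trans hTM) hMY hYp))
  have hYM : Y ≤ largestPReducedOf p M := le_yl (reducedIn_of_sup_eq hY (hYT.trans hTM) hMC)
  set L'' := M ⊓ (L' ⊔ CY) with hL''
  have hTL'' : (T : Subgroup G) ≤ L'' := le_inf hTM (hTL'.trans le_sup_left)
  have hL''C : L'' ⊔ CL = L ⊔ CL := by
    rw [← hL']
    refine le_antisymm (sup_le (inf_le_right.trans (sup_le_sup_left hCYL L')) le_sup_right)
      (sup_le ?_ le_sup_right)
    intro l hl
    have h1 : l ∈ ((M ⊔ CY : Subgroup G) : Set G) := hMC ▸ mem_sup_left (hL'K hl)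
    rw [coe_mul_of_left_le_normalizer_right _ _ hMCn] at h1
    obtain ⟨m, hm, c, hc, rfl⟩ := h1
    refine mul_mem (mem_sup_left (Subgroup.mem_inf.2 ⟨hm, ?_⟩)) (mem_sup_right (hCYL hc))
    simpa using mul_mem (mem_sup_left (T := CY) hl) (inv_mem (mem_sup_right (S := L') hc))
  have hMin : M ∈ 𝒦 := ⟨hTM, hM, hYK.trans hYM, L'', hTL'', inf_le_left, hL''C⟩
  obtain ⟨hYMeq, -⟩ := hbound M hMin hYM
  set D := M ⊔ CY with hD
  have hDK : D = K ⊔ CY := hMC
  have hYD : Y ≤ D := hYT.trans (hTM.trans le_sup_left)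
  have hDY : D ≤ normalizer (Y : Set G) := sup_le hMY (centralizer_le_normalizer _)
  have hTD : (T : Subgroup G) ≤ D := hTM.trans le_sup_left
  have hDmem : D ∈ charPSubgroups p G := mem_charPSubgroups_of_parabolic hpar hTD fun h =>
    hY1 (le_bot_iff.1 (h ▸ H74.le_pCoreOf hYD hDY hYp))
  have hYDle : Y ≤ largestPReducedOf p D :=
    le_yl (reducedIn_of_sup_eq hY hYD (by rw [hD, sup_assoc, sup_idem]; exact hMC))
  have hD𝒦 : D ∈ 𝒦 := ⟨hTD, hDmem, hYK.trans hYDle, L'', hTL'', inf_le_left.trans le_sup_left, hL''C⟩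
  obtain ⟨hYDeq, -⟩ := hbound D hD𝒦 hYDle
  have key : ∀ X ∈ charPSubgroups p G, M ≤ X → X ≤ D := by
    intro X hX hMX
    have hYX : Y ≤ largestPReducedOf p X :=
      hYMeq ▸ yl_mono hTM hMX (charP_of_mem_charPSubgroups hX)
        (yl_reduced (charP_of_mem_charPSubgroups hM))
    have hX𝒦 : X ∈ 𝒦 := ⟨hTM.trans hMX, hX, hYK.trans hYX, L'', hTL'', inf_le_left.trans hMX, hL''C⟩
    obtain ⟨e, hcard⟩ := hbound X hX𝒦 hYX
    simp only [hCX, e] at hcard
    have h : D = X ⊔ CY := eq_of_le_of_card_ge (sup_le_sup_right hMX CY) (hDK ▸ hcard)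
    exact le_sup_left.trans h.ge
  -- `p`-closed and Frattini
  set K₀ := M ⊓ CY with hK₀
  set T₀ := (T : Subgroup G) ⊓ K₀ with hT₀
  have hMK₀ : M ≤ normalizer (K₀ : Set G) := normalizer_inf_le le_normalizer hMCn
  have hTN : (T : Subgroup G) ≤ normalizer (T₀ : Set G) :=
    normalizer_inf_le le_normalizer (hTM.trans hMK₀)
  have hmin : ∀ Z : Subgroup G, (T : Subgroup G) ≤ Z → Z ≤ M → M ≤ Z ⊔ K₀ → M ≤ Z := by
    intro Z hTZ hZM hZ
    refine hMmin ⟨hTZ, hZM.trans hMK, ?_⟩ hZM
    rw [← hMC]
    exact le_antisymm (sup_le_sup_right hZM CY)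
      (sup_le (hZ.trans (sup_le_sup_left inf_le_right Z)) le_sup_right)
  have hMT₀ : M ≤ normalizer (T₀ : Set G) :=
    (hmin _ (le_inf hTM hTN) inf_le_left (le_inf_normalizer_sup hTM inf_le_left hMK₀)).trans
      inf_le_right
  obtain ⟨P, hP⟩ := exists_sylow_map_eq_inf hTM (inf_le_left : K₀ ≤ M) hMK₀
  have hclosed : IsPClosed p ↥K₀ := by
    rw [pClosed_subgroup_iff]
    intro Q hQK hQ
    have h1 : T₀ ≤ pCoreOf p K₀ :=
      H74.le_pCoreOf inf_le_right (inf_le_left.trans hMT₀) (T.2.to_le inf_le_left)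
    have hn : ((P : Subgroup K₀)).Normal := by
      rw [← comap_map_eq_self_of_injective K₀.subtype_injective (P : Subgroup K₀), hP]
      exact (normal_subgroupOf_iff_le_normalizer inf_le_right).2 (inf_le_left.trans hMT₀)
    refine le_trans ?_ h1
    show Q ≤ (T : Subgroup G) ⊓ K₀
    rw [← hP, ← map_subgroupOf_eq_of_le hQK]
    refine Subgroup.map_mono ?_
    obtain ⟨P', hP'⟩ := (hQ.comap_subtype : IsPGroup p (Q.subgroupOf K₀)).exists_le_sylow
    haveI := Sylow.unique_of_normal P hn
    rwa [Subsingleton.elim P' P] at hP'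
  have hfrat : (K₀.subgroupOf M).map (QuotientGroup.mk' (pCore p ↥M)) ≤ frattini (↥M ⧸ pCore p ↥M) := by
    simp only [frattini, Order.radical, le_iInf_iff]
    intro Zq hZq
    by_contra hnot
    set π := QuotientGroup.mk' (pCore p ↥M)
    set Z := Zq.comap π with hZ
    have hOZ : pCore p ↥M ≤ Z := fun x hx => by
      show π x ∈ Zq
      rw [show π x = 1 from (QuotientGroup.eq_one_iff x).2 hx]
      exact one_mem _
    have hZtop : Z ≠ ⊤ := fun h => hZq.1 (eq_top_iff.2 fun z _ => by
      obtain ⟨x, rfl⟩ := QuotientGroup.mk'_surjective _ z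
      exact (h ▸ mem_top x : x ∈ Z))
    set Kn := K₀.subgroupOf M with hKn
    haveI hKnn : Kn.Normal := (normal_subgroupOf_iff_le_normalizer inf_le_left).2 hMK₀
    have hZK : Z ⊔ Kn = ⊤ := by
      have h1 : (Z ⊔ Kn).map π = ⊤ := by
        rw [Subgroup.map_sup, hZ, Subgroup.map_comap_eq_self_of_surjective (QuotientGroup.mk'_surjective _)]
        exact hZq.2 _ (lt_of_le_not_ge le_sup_left fun h => hnot (le_sup_right.trans h))
      have h2 : pCore p ↥M ≤ Z ⊔ Kn := hOZ.trans le_sup_left
      rw [← comap_map_eq_self (show π.ker ≤ Z ⊔ Kn by rwa [QuotientGroup.ker_mk']), h1, comap_top]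
    -- `Z` contains a Sylow subgroup
    obtain ⟨e, he⟩ := IsPGroup.iff_card.1 (T.2.to_le (inf_le_left : T₀ ≤ _))
    have hT₀Z : T₀.subgroupOf M ≤ Z ⊓ Kn := by
      refine le_inf (le_trans ?_ hOZ) fun x hx => hx.2
      exact H74.le_pCore_of_normal
        ((normal_subgroupOf_iff_le_normalizer (inf_le_left.trans hTM)).2 hMT₀)
        ((T.2.to_le inf_le_left).comap_subtype)
    have hcardT₀ : Nat.card (T₀.subgroupOf M) = p ^ e := by
      rw [Nat.card_congr (subgroupOfEquivOfLe (inf_le_left.trans hTM)).toEquiv, he]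
    have hcop : Nat.Coprime (p ^ (Nat.card M).factorization p) (P : Subgroup K₀).index :=
      Nat.Coprime.pow_left _ ((Fact.out : p.Prime).coprime_iff_not_dvd.2 P.not_dvd_index)
    have hMcard : Nat.card M = Kn.index * p ^ e * (P : Subgroup K₀).index := by
      rw [mul_assoc, ← index_mul_card Kn]
      congr 1
      rw [Nat.card_congr (subgroupOfEquivOfLe (inf_le_left : K₀ ≤ M)).toEquiv,
        ← card_mul_index (P : Subgroup K₀)]
      congr 1
      rw [show Nat.card (P : Subgroup K₀) = Nat.card ((P : Subgroup K₀).map K₀.subtype) from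
        (Subgroup.card_map_of_injective K₀.subtype_injective).symm, hP, he]
    have hZcard : Kn.index * p ^ e ∣ Nat.card Z := by
      have h1 : Kn.index = Kn.relIndex Z := by
        rw [← relIndex_sup_right, hZK, relIndex_top_right]
      have h2 : Nat.card Z = Kn.relIndex Z * Nat.card ↥(Kn ⊓ Z) := by
        rw [← inf_relIndex_right, ← relIndex_bot_left, ← relIndex_bot_left (Kn ⊓ Z), mul_comm,
          relIndex_mul_relIndex _ _ _ bot_le inf_le_right]
      rw [h2, h1]
      refine mul_dvd_mul_left _ ?_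
      rw [← hcardT₀, inf_comm]
      exact card_dvd_of_le hT₀Z
    have hpZ : p ^ (Nat.card M).factorization p ∣ Nat.card Z := by
      refine dvd_trans ?_ hZcard
      exact hcop.dvd_of_dvd_mul_right (hMcard ▸ Nat.ordProj_dvd (Nat.card M) p)
    obtain ⟨S1, hS1⟩ := Sylow.exists_subgroup_card_pow_prime p hpZ
    let S : Sylow p M := Sylow.ofCard (S1.map Z.subtype)
      (by rw [Subgroup.card_map_of_injective Z.subtype_injective, hS1])
    have hSZ : (S : Subgroup M) ≤ Z := by rw [Sylow.coe_ofCard]; exact map_subtype_le _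
    obtain ⟨m, hm⟩ := MulAction.exists_smul_eq M S (T.subtype hTM)
    set Z' := (Z.map (MulAut.conj m).toMonoidHom).map M.subtype
    have hTZ : (T : Subgroup G) ≤ Z' := by
      intro t ht
      have h1 : (⟨t, hTM ht⟩ : M) ∈ ((T.subtype hTM : Sylow p M) : Subgroup M) := ht
      rw [← hm, Sylow.coe_subgroup_smul] at h1
      obtain ⟨s, hs, e'⟩ := h1
      exact ⟨_, ⟨s, hSZ hs, e'⟩, rfl⟩
    have hsupZ : M ≤ Z' ⊔ K₀ := by
      have h1 : (Z ⊔ Kn).map (MulAut.conj m).toMonoidHom = ⊤ := by
        rw [hZK]; exact Subgroup.map_top_of_surjective _ (MulAut.conj m).surjective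
      rw [Subgroup.map_sup, H50.map_conj_eq_iff.2
        ((normalizer_eq_top_iff.2 hKnn).ge (mem_top m))] at h1
      have h2 := congrArg (Subgroup.map M.subtype) h1
      rw [Subgroup.map_sup, hKn, map_subgroupOf_eq_of_le inf_le_left, ← MonoidHom.range_eq_map,
        range_subtype] at h2
      exact h2.ge
    have h3 := hmin Z' hTZ (map_subtype_le _) hsupZ
    apply hZtop
    apply Subgroup.eq_top_of_card_eq
    refine le_antisymm (Subgroup.card_le_card_group _) ?_
    calc Nat.card M ≤ Nat.card Z' := Nat.le_of_dvd Nat.card_pos (card_dvd_of_le h3)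
      _ = Nat.card Z := by
          rw [Subgroup.card_map_of_injective M.subtype_injective,
            Subgroup.card_map_of_injective (MulAut.conj m).injective]
  -- `L*`
  set Ls := L'' ⊓ normalizer ((((T : Subgroup G) ⊓ CL : Subgroup G)) : Set G) with hLs
  have hcL := charP_of_mem_charPSubgroups hL
  have hYLT : YL ≤ (T : Subgroup G) ⊓ CL := le_inf (hYK.trans hYT)
    (le_centralizer_of_elementary (yl_reduced hcL).2.2.1)
  have hT''N : (T : Subgroup G) ≤ normalizer ((((T : Subgroup G) ⊓ CL : Subgroup G)) : Set G) :=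
    normalizer_inf_le le_normalizer
      (hTL.trans ((yl_reduced hcL).2.1.trans H74.normalizer_le_normalizer_centralizer))
  have hLsmem : Ls ∈ charPSubgroups p G :=
    mem_charPSubgroups_of_parabolic hpar (le_inf hTL'' hT''N) fun h => yl_ne_bot hL hTL
      (le_bot_iff.1 (h ▸ hYLT.trans (H74.le_pCoreOf (inf_le_left.trans (le_inf hTL'' hT''N))
        inf_le_right (T.2.to_le inf_le_left))))
  obtain ⟨hTLs, hYLs, hsupLs⟩ :=
    yl_star hTL hTL'' hcL hL''C hLs (charP_of_mem_charPSubgroups hLsmem)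
  refine ⟨M, Ls, hTM, ⟨hM, ?_, ?_, ?_, ?_, ?_⟩, hTLs, inf_le_left.trans inf_le_left, hLsmem,
    hYLs.symm, hYK.trans hYM, hsupLs.symm⟩
  · rw [hYMeq]
    exact ⟨hDmem, fun X hX hDX => le_antisymm (key X hX (le_sup_left.trans hDX)) hDX⟩
  · intro X hX hMX
    rw [hYMeq]
    exact (hX.2 D hDmem (key X hX.1 hMX)).symm
  · rw [hYMeq]; exact hYDeq.symm
  · rw [hYMeq]; exact hclosed
  · rw [hYMeq]; exact hfrat

/-- Facts on members of `𝔐` above a Sylow subgroup. -/
theorem frakM_facts {M : Subgroup G} (hM : IsInFrakM p M) {T : Sylow p G}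
    (hTM : (T : Subgroup G) ≤ M) :
    ReducedIn p M (largestPReducedOf p M) ∧
      (T : Subgroup G) ⊓ centralizer (largestPReducedOf p M : Set G) = pCoreOf p M ∧
      M ⊔ centralizer (largestPReducedOf p M : Set G) ≤ normalizer (largestPReducedOf p M : Set G) ∧
      M ≤ normalizer (centralizer (largestPReducedOf p M : Set G) : Set G) := by
  obtain ⟨hmem, -, -, -, hclosed, -⟩ := hM
  set Y := largestPReducedOf p M
  set C := centralizer (Y : Set G)
  have hY := yl_reduced (charP_of_mem_charPSubgroups hmem)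
  have hMC : M ≤ normalizer (C : Set G) := hY.2.1.trans H74.normalizer_le_normalizer_centralizer
  refine ⟨hY, le_antisymm ?_ (le_inf (pCoreOf_le_sylow hTM) (reducedIn_pCoreOf_le_centralizer hY)),
    sup_le hY.2.1 (centralizer_le_normalizer _), hMC⟩
  have h1 := (pClosed_subgroup_iff (M ⊓ C)).1 hclosed ((T : Subgroup G) ⊓ C)
    (inf_le_inf_right C hTM) (T.2.to_le inf_le_left)
  exact h1.trans (H74.le_pCoreOf ((H74.pCoreOf_le _).trans inf_le_left)
    ((normalizer_inf_le le_normalizer hMC).trans (normalizer_le_normalizer_pCoreOf _))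
    (H74.pCoreOf_isPGroup _))

/-- A `p`-subgroup of `C(Y_M)` containing `O_p(M)` equals it. -/
theorem frakM_pgroup_le {M : Subgroup G} (hM : IsInFrakM p M) {T : Sylow p G}
    (hTM : (T : Subgroup G) ≤ M) {R : Subgroup G} (hR : IsPGroup p R) (hPR : pCoreOf p M ≤ R)
    (hRC : R ≤ centralizer (largestPReducedOf p M : Set G)) : R = pCoreOf p M := by
  obtain ⟨hY, hTC, hsupN, hMC⟩ := frakM_facts hM hTM
  set C := centralizer (largestPReducedOf p M : Set G)
  obtain ⟨P, hP⟩ := exists_sylow_map_eq_inf (M := M ⊔ C) (K := C) (hTM.trans le_sup_left)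
    le_sup_right (sup_le hMC le_normalizer)
  refine (eq_of_le_of_card_ge hPR ?_).symm
  obtain ⟨P', hP'⟩ := (hR.comap_subtype : IsPGroup p (R.subgroupOf C)).exists_le_sylow
  calc Nat.card R = Nat.card (R.subgroupOf C) :=
        (Nat.card_congr (subgroupOfEquivOfLe hRC).toEquiv).symm
    _ ≤ Nat.card P' := Nat.le_of_dvd Nat.card_pos (card_dvd_of_le hP')
    _ = Nat.card P := by rw [P'.card_eq_multiplicity, P.card_eq_multiplicity]
    _ = Nat.card (pCoreOf p M) := by
        rw [← hTC, ← hP, Subgroup.card_map_of_injective C.subtype_injective]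

/-- Mutually normalizing conjugates of an asymmetric subgroup commute. -/
theorem asymmetric_commute {Y : Subgroup G} (hasym : ¬ IsSymmetricIn Y) {x y : G}
    (h1 : Y.map (MulAut.conj x).toMonoidHom ≤
      normalizer ((Y.map (MulAut.conj y).toMonoidHom : Subgroup G) : Set G))
    (h2 : Y.map (MulAut.conj y).toMonoidHom ≤
      normalizer ((Y.map (MulAut.conj x).toMonoidHom : Subgroup G) : Set G)) :
    Y.map (MulAut.conj x).toMonoidHom ≤
      centralizer ((Y.map (MulAut.conj y).toMonoidHom : Subgroup G) : Set G) := by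
  set A := Y.map (MulAut.conj x).toMonoidHom with hA
  set B := Y.map (MulAut.conj y).toMonoidHom with hB
  rw [le_centralizer_iff, ← commutator_eq_bot_iff_le_centralizer, commutator_comm]
  by_contra hne
  have e1 : A.map (MulAut.conj x⁻¹).toMonoidHom = Y := by
    rw [hA, H50.map_conj_map, inv_mul_cancel, H50.map_conj_eq_iff.2 (one_mem _)]
  have e2 : B.map (MulAut.conj x⁻¹).toMonoidHom = Y.map (MulAut.conj (x⁻¹ * y)).toMonoidHom := by
    rw [hB, H50.map_conj_map]
  have hle : ⁅A, B⁆ ≤ A ⊓ B := le_inf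
    (by rw [commutator_comm]; exact commutator_le_of_le_normalizer h2)
    (commutator_le_of_le_normalizer h1)
  refine hasym ⟨x⁻¹ * y, ?_, ?_⟩ <;> rw [← e2]
  · intro h
    apply hne
    conv at h => lhs; arg 1; rw [← e1]
    rw [← Subgroup.map_commutator, map_eq_bot_iff_of_injective _ (MulAut.conj x⁻¹).injective] at h
    exact h
  · conv_lhs => arg 1; rw [← e1]
    conv_rhs => arg 1; rw [← e1]
    rw [← Subgroup.map_commutator, ← Subgroup.map_inf _ _ _ (MulAut.conj x⁻¹).injective]
    exact Subgroup.map_mono hle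

/-- The main fusion step in the asymmetric case: `N(R) ≤ M†` for a `p`-subgroup `O_p(M) ≤ R ≤ M†`. -/
theorem asymmetric_normalizer_le (hpar : IsOfParabolicCharacteristic p G) {M : Subgroup G}
    (hM : IsInFrakM p M) {T : Sylow p G} (hTM : (T : Subgroup G) ≤ M)
    (hasym : ¬ IsSymmetricIn (largestPReducedOf p M)) {R : Subgroup G} (hR : IsPGroup p R)
    (hPR : pCoreOf p M ≤ R) (hRD : R ≤ M ⊔ centralizer (largestPReducedOf p M : Set G)) :
    normalizer (R : Set G) ≤ M ⊔ centralizer (largestPReducedOf p M : Set G) := by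
  obtain ⟨hY, hTC, hsupN, hMC⟩ := frakM_facts hM hTM
  set Y := largestPReducedOf p M with hYdef
  set P := pCoreOf p M
  have hPM : P ≤ M := H74.pCoreOf_le M
  have hMP : M ≤ normalizer (P : Set G) := H74.le_normalizer_pCoreOf M
  have hYP : Y ≤ P := reducedIn_le_pCoreOf hY
  set N := normalizer (R : Set G)
  let A : G → Prop := fun x => Y.map (MulAut.conj x).toMonoidHom ≤ P ∧
    Y ≤ P.map (MulAut.conj x).toMonoidHom
  have hswap : ∀ {U V : Subgroup G} {x : G},
      U.map (MulAut.conj x⁻¹).toMonoidHom ≤ V ↔ U ≤ V.map (MulAut.conj x).toMonoidHom := by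
    intro U V x
    rw [map_conj_le_iff, inv_inv]
  have hone : A 1 := by
    have e : ∀ U : Subgroup G, U.map (MulAut.conj (1 : G)).toMonoidHom = U := fun U =>
      H50.map_conj_eq_iff.2 (one_mem _)
    exact ⟨(e Y).le.trans hYP, hYP.trans (e P).ge⟩
  have hinv : ∀ x, A x → A x⁻¹ := by
    intro x hx
    refine ⟨hswap.2 hx.2, ?_⟩
    rw [← inv_inv x] at hx
    exact hswap.1 hx.1
  have hMl : ∀ m ∈ M, ∀ x, A x → A (m * x) := by
    intro m hm x hx
    constructor
    · rw [← H50.map_conj_map, ← H50.map_conj_eq_iff.2 (hMP hm)]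
      exact Subgroup.map_mono hx.1
    · rw [← H50.map_conj_map, ← H50.map_conj_eq_iff.2 (hY.2.1 hm)]
      exact Subgroup.map_mono hx.2
  have hMr : ∀ m ∈ M, ∀ x, A x → A (x * m) := fun m hm x hx => by
    have := hinv _ (hMl m⁻¹ (inv_mem hm) x⁻¹ (hinv x hx))
    simpa using this
  have hnorm : ∀ g ∈ N, ∀ v, Y ≤ P.map (MulAut.conj v).toMonoidHom →
      Y ≤ normalizer ((Y.map (MulAut.conj (v * g)).toMonoidHom : Subgroup G) : Set G) := by
    intro g hg v hv
    refine hv.trans ?_
    refine (Subgroup.map_mono hPR).trans ?_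
    rw [← H50.map_conj_eq_iff.2 hg, H50.map_conj_map]
    exact map_conj_le_normalizer_map_conj (hRD.trans hsupN) (v * g)
  have key : ∀ n, ∀ l : List G, l.length ≤ n → (∀ e ∈ l, e ∈ M ∨ e ∈ N) → A l.prod := by
    intro n
    induction n with
    | zero =>
      intro l hl _
      rw [List.length_eq_zero_iff.1 (Nat.le_zero.1 hl)]
      exact hone
    | succ n ih =>
      intro l hl hmem
      rcases l.eq_nil_or_concat with rfl | ⟨v, g, rfl⟩
      · exact hone
      simp only [List.concat_eq_append, List.length_append, List.length_cons, List.length_nil] at hl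
      simp only [List.concat_eq_append, List.forall_mem_append, List.forall_mem_singleton] at hmem
      simp only [List.concat_eq_append, List.prod_append, List.prod_singleton]
      have hv := ih v (by omega) hmem.1
      rcases hmem.2 with hg | hg
      · exact hMr g hg _ hv
      cases v with
      | nil =>
        have h1 : Y.map (MulAut.conj g).toMonoidHom ≤ R :=
          (Subgroup.map_mono (hYP.trans hPR)).trans (H50.map_conj_eq_iff.2 hg).le
        have h2 : Y.map (MulAut.conj g⁻¹).toMonoidHom ≤ R :=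
          (Subgroup.map_mono (hYP.trans hPR)).trans (H50.map_conj_eq_iff.2 (inv_mem hg)).le
        have hfin : ∀ x ∈ N, Y.map (MulAut.conj x).toMonoidHom ≤ R →
            Y.map (MulAut.conj x).toMonoidHom ≤ P := by
          intro x hx hxR
          have e1 : Y.map (MulAut.conj (1 : G)).toMonoidHom = Y := H50.map_conj_eq_iff.2 (one_mem _)
          have hY' : Y ≤ normalizer ((Y.map (MulAut.conj x).toMonoidHom : Subgroup G) : Set G) := by
            have := hnorm x hx 1 hone.2
            rwa [one_mul] at this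
          have hcm := asymmetric_commute hasym (x := x) (y := 1)
            (by rw [e1]; exact hxR.trans (hRD.trans hsupN)) (by rw [e1]; exact hY')
          rw [e1] at hcm
          have h3 : R ⊓ centralizer (Y : Set G) = P := frakM_pgroup_le hM hTM (hR.to_le inf_le_left)
            (le_inf hPR (reducedIn_pCoreOf_le_centralizer hY)) inf_le_right
          exact (le_inf hxR hcm).trans h3.le
        simp only [List.prod_nil, one_mul]
        exact ⟨hfin g hg h1, hswap.1 (hfin g⁻¹ (inv_mem hg) h2)⟩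
      | cons g' m =>
        simp only [List.length_cons] at hl
        simp only [List.forall_mem_cons] at hmem
        simp only [List.prod_cons]
        rcases hmem.1.1 with hg' | hg'
        · rw [mul_assoc]
          refine hMl g' hg' _ ?_
          have := ih (m ++ [g]) (by simp; omega)
            (by simp only [List.forall_mem_append, List.forall_mem_singleton]; exact ⟨hmem.1.2, hmem.2⟩)
          simpa using this
        set w := g' * m.prod * g with hw
        have hu := ih (m ++ [g]) (by simp; omega)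
          (by simp only [List.forall_mem_append, List.forall_mem_singleton]; exact ⟨hmem.1.2, hmem.2⟩)
        simp only [List.prod_append, List.prod_singleton] at hu
        have hv' : A (g' * m.prod) := by simpa using hv
        have hn1 : Y ≤ normalizer ((Y.map (MulAut.conj w).toMonoidHom : Subgroup G) : Set G) :=
          hnorm g hg _ hv'.2
        have hn2 : Y.map (MulAut.conj w).toMonoidHom ≤ normalizer (Y : Set G) := by
          have e : Y.map (MulAut.conj w).toMonoidHom =
              (Y.map (MulAut.conj (m.prod * g)).toMonoidHom).map (MulAut.conj g').toMonoidHom := by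
            rw [H50.map_conj_map, hw, mul_assoc]
          rw [e]
          refine (Subgroup.map_mono (hu.1.trans hPR)).trans ?_
          rw [H50.map_conj_eq_iff.2 hg']
          exact hRD.trans hsupN
        have hwR : Y.map (MulAut.conj w).toMonoidHom ≤ R := by
          rw [show w = g' * (m.prod * g) by rw [hw, mul_assoc], ← H50.map_conj_map]
          exact (Subgroup.map_mono (hu.1.trans hPR)).trans (H50.map_conj_eq_iff.2 hg').le
        have hwR' : Y.map (MulAut.conj w⁻¹).toMonoidHom ≤ R := by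
          rw [show w⁻¹ = g⁻¹ * (g' * m.prod)⁻¹ by rw [hw]; group, ← H50.map_conj_map]
          exact (Subgroup.map_mono ((hinv _ hv').1.trans hPR)).trans
            (H50.map_conj_eq_iff.2 (inv_mem hg)).le
        have e1 : Y.map (MulAut.conj (1 : G)).toMonoidHom = Y := H50.map_conj_eq_iff.2 (one_mem _)
        have hcm := asymmetric_commute hasym (x := w) (y := 1)
          (by rw [e1]; exact hn2) (by rw [e1]; exact hn1)
        rw [e1] at hcm
        have hcm' : Y.map (MulAut.conj w⁻¹).toMonoidHom ≤ centralizer (Y : Set G) := by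
          rw [le_centralizer_iff] at hcm
          intro z hz
          refine mem_centralizer_iff.2 fun y hy => ?_
          rw [H50.mem_map_conj, inv_inv] at hz
          have h4 := mem_centralizer_iff.1 (hcm hz) ((MulAut.conj w).toMonoidHom y) ⟨y, hy, rfl⟩
          simp only [MulEquiv.coe_toMonoidHom, MulAut.conj_apply] at h4
          have h5 : w * (y * z) * w⁻¹ = w * (z * y) * w⁻¹ := by
            calc w * (y * z) * w⁻¹ = (w * y * w⁻¹) * (w * z * w⁻¹) := by group
              _ = (w * z * w⁻¹) * (w * y * w⁻¹) := h4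
              _ = w * (z * y) * w⁻¹ := by group
          exact mul_left_cancel (mul_right_cancel h5)
        have h3 : R ⊓ centralizer (Y : Set G) = P := frakM_pgroup_le hM hTM (hR.to_le inf_le_left)
          (le_inf hPR (reducedIn_pCoreOf_le_centralizer hY)) inf_le_right
        exact ⟨(le_inf hwR hcm).trans h3.le, hswap.1 ((le_inf hwR' hcm').trans h3.le)⟩
  set X := M ⊔ N
  set W := ⨆ x : X, Y.map (MulAut.conj (x : G)).toMonoidHom
  have hall : ∀ x ∈ X, A x := by
    intro x hx
    rw [show X = M ⊔ N from rfl, ← Subgroup.closure_eq M, ← Subgroup.closure_eq N,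
      ← Subgroup.closure_union, ← Subgroup.mem_toSubmonoid, closure_toSubmonoid] at hx
    obtain ⟨l, hl, rfl⟩ := Submonoid.exists_list_of_mem_closure hx
    refine key l.length l le_rfl fun e he => ?_
    rcases hl e he with (h | h) | h
    · exact Or.inl h
    · exact Or.inr h
    · rcases Set.mem_inv.1 h with h | h
      · exact Or.inl (inv_mem_iff.1 h)
      · exact Or.inr (inv_mem_iff.1 h)
  have hWP : W ≤ P := iSup_le fun x => (hall x x.2).1
  have hW1 : W ≠ ⊥ := fun h => yl_ne_bot hM.1 hTM (le_bot_iff.1 (h ▸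
    ((H50.map_conj_eq_iff.2 (one_mem _)).ge.trans
      (le_iSup (fun x : X => Y.map (MulAut.conj (x : G)).toMonoidHom) ⟨1, one_mem X⟩))))
  have hXW : X ≤ normalizer (W : Set G) := by
    intro z hz
    refine H50.map_conj_eq_iff.1 (eq_of_le_of_card_ge ?_
      (Subgroup.card_map_of_injective (MulAut.conj z).injective).ge)
    rw [Subgroup.map_iSup]
    refine iSup_le fun x => ?_
    rw [H50.map_conj_map]
    exact le_iSup (fun x : X => Y.map (MulAut.conj (x : G)).toMonoidHom) ⟨z * x, mul_mem hz x.2⟩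
  have hWX : W ≤ X := hWP.trans (hPM.trans le_sup_left)
  have hXmem : X ∈ charPSubgroups p G :=
    mem_charPSubgroups_of_parabolic hpar (hTM.trans le_sup_left) fun h =>
      hW1 (le_bot_iff.1 (h ▸ H74.le_pCoreOf hWX hXW (hR.to_le (hWP.trans hPR))))
  obtain ⟨X', hXX', hX'max⟩ := (Set.toFinite (charPSubgroups p G)).exists_le_maximal hXmem
  have hX'eq := hM.2.2.1 X' ⟨hX'max.1, fun Z hZ h => le_antisymm (hX'max.2 hZ h) h⟩
    (le_sup_left.trans hXX')
  rw [← hX'eq]
  exact le_sup_right.trans hXX'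

/-- In the asymmetric case `N(R) ≤ N(O_p(M))` for every `p`-subgroup `R ≥ O_p(M)`. -/
theorem asymmetric_normalizer_le_pCore (hpar : IsOfParabolicCharacteristic p G) {M : Subgroup G}
    (hM : IsInFrakM p M) {T : Sylow p G} (hTM : (T : Subgroup G) ≤ M)
    (hasym : ¬ IsSymmetricIn (largestPReducedOf p M)) {R : Subgroup G} (hR : IsPGroup p R)
    (hPR : pCoreOf p M ≤ R) :
    R ≤ M ⊔ centralizer (largestPReducedOf p M : Set G) ∧
      normalizer (R : Set G) ≤ normalizer (pCoreOf p M : Set G) := by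
  obtain ⟨hY, hTC, hsupN, hMC⟩ := frakM_facts hM hTM
  set Y := largestPReducedOf p M
  set D := M ⊔ centralizer (Y : Set G)
  set P := pCoreOf p M
  have hRD : R ≤ D := by
    by_contra hne
    set R' := R ⊓ D
    have hlt : R'.subgroupOf R < ⊤ := lt_top_iff_ne_top.2 fun h =>
      hne ((Subgroup.subgroupOf_eq_top.1 h).trans inf_le_right)
    obtain ⟨⟨t, htR⟩, htN, htR'⟩ := SetLike.exists_of_lt
      (@Group.normalizerCondition_of_isNilpotent _ _ hR.isNilpotent _ hlt)
    rw [← Subgroup.subgroupOf_normalizer_eq (inf_le_left : R' ≤ R)] at htN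
    exact htR' ⟨htR, asymmetric_normalizer_le hpar hM hTM hasym (hR.to_le inf_le_left)
      (le_inf hPR ((H74.pCoreOf_le M).trans le_sup_left)) inf_le_right htN⟩
  refine ⟨hRD, fun g hg => ?_⟩
  have hgD : g ∈ D := asymmetric_normalizer_le hpar hM hTM hasym hR hPR hRD hg
  have h3 : R ⊓ centralizer (Y : Set G) = P := frakM_pgroup_le hM hTM (hR.to_le inf_le_left)
    (le_inf hPR (reducedIn_pCoreOf_le_centralizer hY)) inf_le_right
  rw [← H50.map_conj_eq_iff]
  conv_lhs => rw [← h3]
  rw [Subgroup.map_inf _ _ _ (MulAut.conj g).injective, H50.map_conj_eq_iff.2 hg,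
    H50.map_conj_eq_iff.2 (H74.normalizer_le_normalizer_centralizer (hsupN hgD)), h3]

end Cfsg.Agent.H73
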