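import Mathlib.GroupTheory.Transfer
import Mathlib.GroupTheory.Sylow

/-!
Transfer of a central involution of a Sylow 2-subgroup.
-/

set_option autoImplicit false

namespace Cfsg.Agent.H73

open Subgroup MulAction

variable {G : Type*} [Group G] [Finite G]

/-- If an involution `z` central in the Sylow 2-subgroup `S` is centralized by `N(S)`, then the
transfer of a character `θ : S → ℤˣ` takes at `z` the value `θ z`. -/
theorem transfer_central_involution (S : Sylow 2 G) (θ : (S : Subgroup G) →* ℤˣ) (z : G)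
    (hzS : z ∈ (S : Subgroup G)) (hz2 : z ^ 2 = 1) (hzc : ∀ s ∈ (S : Subgroup G), s * z = z * s)
    (hN : ∀ g ∈ Subgroup.normalizer ((S : Subgroup G) : Set G), g⁻¹ * z * g = z) :
    MonoidHom.transfer θ z = θ ⟨z, hzS⟩ := by
  classical
  have := Fintype.ofFinite (G ⧸ (S : Subgroup G))
  have hz1 : z⁻¹ = z := inv_eq_of_mul_eq_one_right (by rw [← pow_two]; exact hz2)
  let T : (S : Subgroup G).LeftTransversal :=
    ⟨Set.range Quotient.out, Subgroup.isComplement_range_left (f := Quotient.out) fun q => q.out_eq'⟩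
  have hTq : ∀ q : G ⧸ (S : Subgroup G), (T.2.leftQuotientEquiv q : G) = q.out := fun q =>
    Subgroup.IsComplement.leftQuotientEquiv_apply (f := Quotient.out) (fun q => q.out_eq') q
  have hmem : ∀ q : G ⧸ (S : Subgroup G), q.out⁻¹ * (z * (z • q).out) ∈ (S : Subgroup G) := by
    intro q
    rw [← QuotientGroup.eq, QuotientGroup.out_eq', ← smul_eq_mul, ← MulAction.Quotient.smul_mk,
      QuotientGroup.out_eq', smul_smul, ← pow_two, hz2, one_smul]
  let a : G ⧸ (S : Subgroup G) → ℤˣ := fun q => θ ⟨q.out⁻¹ * (z * (z • q).out), hmem q⟩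
  have hV : MonoidHom.transfer θ z = ∏ q, a q := by
    rw [MonoidHom.transfer_def θ T z]
    simp only [Subgroup.leftTransversals.diff]
    refine Finset.prod_congr (by ext; simp) fun q _ => ?_
    refine congrArg θ (Subtype.ext ?_)
    simp only [Subgroup.smul_apply_eq_smul_apply_inv_smul, hTq, smul_eq_mul, hz1]
  -- the fixed cosets
  have hinv : ∀ q, z • (z • q) = q := fun q : G ⧸ (S : Subgroup G) => by rw [smul_smul, ← pow_two, hz2, one_smul]
  have hnonfix : ∏ q ∈ Finset.univ.filter (fun q : G ⧸ (S : Subgroup G) => z • q ≠ q), a q = 1 := by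
    refine Finset.prod_involution (fun q _ => z • q) ?_ ?_ ?_ ?_
    · intro q _
      simp only [a]
      rw [← map_mul, ← map_one θ]
      congr 1
      apply Subtype.ext
      simp only [Subgroup.coe_mul, Subgroup.coe_one, hinv]
      calc q.out⁻¹ * (z * (z • q).out) * ((z • q).out⁻¹ * (z * q.out)) = q.out⁻¹ * (z * z) * q.out := by group
        _ = 1 := by rw [← pow_two, hz2]; group
    · intro q hq _
      exact (Finset.mem_filter.1 hq).2
    · intro q hq
      simp only [Finset.mem_filter, Finset.mem_univ, true_and, hinv] at hq ⊢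
      exact fun h => hq h.symm
    · intro q _; exact hinv q
  -- value on a fixed coset
  have hfixval : ∀ (q : G ⧸ (S : Subgroup G)), z • q = q → ∀ (g : G) (hg : (g : G ⧸ (S : Subgroup G)) = q),
      ∃ hm : g⁻¹ * z * g ∈ (S : Subgroup G), a q = θ ⟨g⁻¹ * z * g, hm⟩ := by
    intro q hq g hg
    have hd : q.out⁻¹ * g ∈ (S : Subgroup G) := by rw [← QuotientGroup.eq, QuotientGroup.out_eq', hg]
    have hm0 := hmem q
    rw [hq] at hm0
    have hm : g⁻¹ * z * g ∈ (S : Subgroup G) := by
      have := (S : Subgroup G).mul_mem ((S : Subgroup G).mul_mem ((S : Subgroup G).inv_mem hd) hm0) hd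
      convert this using 1
      group
    refine ⟨hm, ?_⟩
    have e : (⟨g⁻¹ * z * g, hm⟩ : (S : Subgroup G)) = (⟨_, hd⟩ : (S : Subgroup G))⁻¹ * ⟨_, hm0⟩ * ⟨_, hd⟩ := by
      apply Subtype.ext; simp only [Subgroup.coe_mul, Subgroup.coe_inv]; group
    rw [e, map_mul, map_mul, map_inv, mul_comm (θ _)⁻¹, inv_mul_cancel_right]
    simp only [a, hq]
  let B : Finset (G ⧸ (S : Subgroup G)) := Finset.univ.filter (fun q => z • q = q ∧ a q ≠ 1)
  have hfix : ∏ q ∈ Finset.univ.filter (fun q : G ⧸ (S : Subgroup G) => z • q = q), a q = (-1) ^ B.card := by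
    rw [← Finset.prod_filter_mul_prod_filter_not (Finset.univ.filter (fun q : G ⧸ (S : Subgroup G) => z • q = q))
      (fun q => a q ≠ 1), Finset.filter_filter, Finset.filter_filter]
    rw [Finset.prod_eq_one (s := Finset.univ.filter (fun q => z • q = q ∧ ¬ a q ≠ 1))
      (fun q hq => not_not.1 (Finset.mem_filter.1 hq).2.2), mul_one]
    refine Finset.prod_eq_pow_card fun q hq => ?_
    rcases Int.units_eq_one_or (a q) with h | h
    · exact absurd h (Finset.mem_filter.1 hq).2.2
    · exact h
  have hVB : MonoidHom.transfer θ z = (-1) ^ B.card := by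
    rw [hV, ← Finset.prod_filter_mul_prod_filter_not Finset.univ (fun q : G ⧸ (S : Subgroup G) => z • q = q), hnonfix,
      mul_one, hfix]
  -- `S` acts on `B` and on all cosets
  have hodd : ¬ 2 ∣ Nat.card (MulAction.fixedPoints (S : Subgroup G) (G ⧸ (S : Subgroup G))) := by
    intro h
    exact S.not_dvd_index (Nat.modEq_zero_iff_dvd.1
      ((S.2.card_modEq_card_fixedPoints (G ⧸ (S : Subgroup G))).trans (Nat.modEq_zero_iff_dvd.2 h)))
  have hBfix : ∀ q : G ⧸ (S : Subgroup G), (∀ s : (S : Subgroup G), s • q = q) → (z • q = q ∧ a q = θ ⟨z, hzS⟩) := by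
    intro q hq
    have hzq : z • q = q := hq ⟨z, hzS⟩
    refine ⟨hzq, ?_⟩
    obtain ⟨hm, h⟩ := hfixval q hzq q.out (QuotientGroup.out_eq' q)
    rw [h]
    congr 1
    apply Subtype.ext
    refine hN _ ?_
    have := Sylow.mem_fixedPoints_mul_left_cosets_iff_mem_normalizer (H := (S : Subgroup G)) (x := q.out)
    refine this.1 ?_
    rw [QuotientGroup.out_eq']
    exact hq
  have hsub : ∀ (s : (S : Subgroup G)) (q : G ⧸ (S : Subgroup G)), q ∈ B → s • q ∈ B := by
    intro s q hq
    simp only [B, Finset.mem_filter, Finset.mem_univ, true_and] at hq ⊢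
    have hc : z * (s : G) = s * z := (hzc s s.2).symm
    have hzs : z • (s • q) = s • q := by
      show z • ((s : G) • q) = (s : G) • q
      rw [smul_smul, hc, ← smul_smul, hq.1]
    refine ⟨hzs, ?_⟩
    obtain ⟨hm, h⟩ := hfixval q hq.1 q.out (QuotientGroup.out_eq' q)
    obtain ⟨hm', h'⟩ := hfixval (s • q) hzs ((s : G) * q.out) (by
      rw [← smul_eq_mul, ← MulAction.Quotient.smul_mk, QuotientGroup.out_eq']; rfl)
    have e : ((s : G) * q.out)⁻¹ * z * ((s : G) * q.out) = q.out⁻¹ * z * q.out := by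
      calc ((s : G) * q.out)⁻¹ * z * ((s : G) * q.out) = q.out⁻¹ * ((s : G)⁻¹ * (z * s)) * q.out := by group
        _ = q.out⁻¹ * z * q.out := by rw [hc, inv_mul_cancel_left]
    rw [h']
    simp only [e, ← h]
    exact hq.2
  let act : MulAction (S : Subgroup G) B :=
    { smul := fun s q => ⟨s • q.1, hsub s q.1 q.2⟩
      one_smul := fun q => Subtype.ext (one_smul _ _)
      mul_smul := fun s t q => Subtype.ext (mul_smul _ _ _) }
  rcases Int.units_eq_one_or (θ ⟨z, hzS⟩) with hθ | hθ
  · -- no coset fixed by `S` is bad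
    rw [hVB, hθ]
    refine Even.neg_one_pow ?_
    have h2 := S.2.card_modEq_card_fixedPoints B
    have h0 : Nat.card (MulAction.fixedPoints (S : Subgroup G) B) = 0 := by
      rw [Nat.card_eq_zero]
      refine Or.inl ⟨fun q => ?_⟩
      have := (hBfix q.1.1 fun s => congrArg Subtype.val (q.2 s)).2
      exact (Finset.mem_filter.1 q.1.2).2.2 (this.trans hθ)
    rw [h0, Nat.card_eq_fintype_card, Fintype.card_coe] at h2
    exact even_iff_two_dvd.2 (Nat.modEq_zero_iff_dvd.1 h2)
  · -- every coset fixed by `S` is bad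
    rw [hVB, hθ]
    refine Odd.neg_one_pow ?_
    have h2 := S.2.card_modEq_card_fixedPoints B
    have h3 : Nat.card (MulAction.fixedPoints (S : Subgroup G) B) = Nat.card (MulAction.fixedPoints (S : Subgroup G) (G ⧸ (S : Subgroup G))) :=
      Nat.card_congr
        { toFun := fun q => ⟨q.1.1, fun s => congrArg Subtype.val (q.2 s)⟩
          invFun := fun q => ⟨⟨q.1, Finset.mem_filter.2 ⟨Finset.mem_univ _, (hBfix q.1 q.2).1,
            by rw [(hBfix q.1 q.2).2, hθ]; decide⟩⟩, fun s => Subtype.ext (q.2 s)⟩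
          left_inv := fun q => rfl
          right_inv := fun q => rfl }
    rw [h3, Nat.card_eq_fintype_card, Fintype.card_coe] at h2
    rw [Nat.odd_iff]
    have : ¬ 2 ∣ B.card := fun hd => hodd (Nat.modEq_zero_iff_dvd.1
      (h2.symm.trans (Nat.modEq_zero_iff_dvd.2 hd)))
    omega

end Cfsg.Agent.H73
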