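import Cfsg.Agent.H73.WeaklyClosed
import Cfsg.Agent.H22.PResidual

/-!
`O^p` of weak closures.
-/

set_option autoImplicit false

namespace Cfsg.Agent.H73

open Subgroup
open scoped commutatorElement Pointwise

variable {G : Type*} [Group G] {p : ℕ}

/-- Elements of order prime to `p` of `W` lie in `O^p(W)`. -/
theorem mem_resid {W : Subgroup G} {x : G} (hx : x ∈ W) (hc : (orderOf x).Coprime p) :
    x ∈ (pResidual p W).map W.subtype :=
  ⟨⟨x, hx⟩, H22.mem_pResidual_of_coprime (by rwa [← Subgroup.orderOf_coe]), rfl⟩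

/-- `O^p(W)` is generated by the elements of order prime to `p`. -/
theorem resid_le_of_coprime {W R : Subgroup G} (h : ∀ x ∈ W, (orderOf x).Coprime p → x ∈ R) :
    (pResidual p W).map W.subtype ≤ R := by
  rw [pResidual, MonoidHom.map_closure, closure_le]
  rintro _ ⟨x, hx, rfl⟩
  exact h x x.2 (by simpa [Subgroup.orderOf_coe] using hx)

/-- `O^p` is monotone. -/
theorem resid_mono {W W' : Subgroup G} (h : W ≤ W') :
    (pResidual p W).map W.subtype ≤ (pResidual p W').map W'.subtype :=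
  resid_le_of_coprime fun _ hx hc => mem_resid (h hx) hc

/-- What normalizes `W` normalizes `O^p(W)`. -/
theorem normalizer_le_normalizer_resid (W : Subgroup G) :
    normalizer (W : Set G) ≤ normalizer (((pResidual p W).map W.subtype : Subgroup G) : Set G) := by
  rw [Subgroup.le_normalizer_iff]
  intro g hg x hx
  have h : (pResidual p W).map W.subtype ≤
      ((pResidual p W).map W.subtype).map (MulAut.conj g⁻¹).toMonoidHom := by
    refine resid_le_of_coprime fun y hy hc => H50.mem_map_conj.2 ?_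
    rw [inv_inv]
    exact mem_resid ((mem_normalizer_iff.1 hg y).1 hy) (by rwa [← MulAut.conj_apply, MulEquiv.orderOf_eq])
  have h2 := h hx
  rw [H50.mem_map_conj, inv_inv] at h2
  exact h2

/-- An element of order prime to `p` in `RJ`, with `J` a `p`-group normalizing `R`, lies in `R`. -/
theorem mem_of_coprime_of_sup [Fact p.Prime] {R J : Subgroup G} (hJ : J ≤ normalizer (R : Set G))
    (hJp : IsPGroup p J) {x : G} (hx : x ∈ R ⊔ J) (hc : (orderOf x).Coprime p) : x ∈ R := by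
  have hn : (R.subgroupOf (R ⊔ J)).Normal :=
    (normal_subgroupOf_iff_le_normalizer le_sup_left).2 (sup_le le_normalizer hJ)
  have hx' : x ∈ ((R ⊔ J : Subgroup G) : Set G) := hx
  rw [coe_mul_of_right_le_normalizer_left _ _ hJ] at hx'
  obtain ⟨r, hr, j, hj, rfl⟩ := hx'
  let π := QuotientGroup.mk' (R.subgroupOf (R ⊔ J))
  let xx : ↥(R ⊔ J) := ⟨r * j, hx⟩
  let jj : ↥(R ⊔ J) := ⟨j, mem_sup_right hj⟩
  have e : π xx = π jj := by
    rw [QuotientGroup.mk'_eq_mk']
    refine ⟨⟨j⁻¹ * r⁻¹ * j, ?_⟩, ?_, ?_⟩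
    · exact mul_mem (mul_mem (inv_mem (mem_sup_right hj)) (inv_mem (mem_sup_left hr))) (mem_sup_right hj)
    · show j⁻¹ * r⁻¹ * j ∈ R
      simpa using (mem_normalizer_iff.1 (inv_mem (hJ hj)) r⁻¹).1 (inv_mem hr)
    · apply Subtype.ext
      show r * j * (j⁻¹ * r⁻¹ * j) = j
      group
  obtain ⟨k, hk⟩ := hJp ⟨j, hj⟩
  have h1 : orderOf (π xx) ∣ orderOf (r * j) := by
    refine (orderOf_map_dvd π xx).trans ?_
    rw [← Subgroup.orderOf_coe]
  have h2 : orderOf (π xx) ∣ p ^ k := by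
    rw [e]
    refine orderOf_dvd_of_pow_eq_one ?_
    rw [← map_pow, show jj ^ p ^ k = 1 from Subtype.ext (by
      have := congrArg Subtype.val hk
      simpa [jj] using this), map_one]
  have h3 : π xx = 1 :=
    orderOf_eq_one_iff.1 (Nat.eq_one_of_dvd_coprimes (Nat.Coprime.pow_right k hc) h1 h2)
  exact (QuotientGroup.eq_one_iff xx).1 h3

/-- If `O^p(W) ≤ RJ` with `J` a `p`-group normalizing `R` then `O^p(W) ≤ R`. -/
theorem resid_le_of_sup [Fact p.Prime] {W R J : Subgroup G} (hJ : J ≤ normalizer (R : Set G))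
    (hJp : IsPGroup p J) (h : (pResidual p W).map W.subtype ≤ R ⊔ J) :
    (pResidual p W).map W.subtype ≤ R :=
  resid_le_of_coprime fun _ hx hc => mem_of_coprime_of_sup hJ hJp (h (mem_resid hx hc)) hc

/-- A commutator bound for a supremum. -/
theorem commutator_iSup_le {ι : Sort*} {A : ι → Subgroup G} {C O : Subgroup G}
    (hO : iSup A ≤ normalizer (O : Set G)) (h : ∀ i, ⁅A i, C⁆ ≤ O) : ⁅iSup A, C⁆ ≤ O := by
  let K : Subgroup G :=
    { carrier := {a | a ∈ iSup A ∧ ∀ c ∈ C, ⁅a, c⁆ ∈ O}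
      one_mem' := ⟨one_mem _, fun c _ => by simp [commutatorElement_def]⟩
      mul_mem' := by
        rintro a b ⟨ha, ha'⟩ ⟨hb, hb'⟩
        refine ⟨mul_mem ha hb, fun c hc => ?_⟩
        have e : ⁅a * b, c⁆ = a * ⁅b, c⁆ * a⁻¹ * ⁅a, c⁆ := by
          simp only [commutatorElement_def]; group
        rw [e]
        exact mul_mem ((mem_normalizer_iff.1 (hO ha) _).1 (hb' c hc)) (ha' c hc)
      inv_mem' := by
        rintro a ⟨ha, ha'⟩
        refine ⟨inv_mem ha, fun c hc => ?_⟩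
        have e : ⁅a⁻¹, c⁆ = a⁻¹ * ⁅a, c⁆⁻¹ * a⁻¹⁻¹ := by
          simp only [commutatorElement_def]; group
        rw [e]
        exact (mem_normalizer_iff.1 (hO (inv_mem ha)) _).1 (inv_mem (ha' c hc)) }
  have hK : iSup A ≤ K := iSup_le fun i a ha =>
    ⟨le_iSup A i ha, fun c hc => h i (commutator_mem_commutator ha hc)⟩
  exact commutator_le.2 fun a ha c hc => (hK ha).2 c hc

variable [Finite G] [Fact p.Prime] {Q : Subgroup G}

/-- The weak closure is `O^p` of it times `Q`, and `[O^p(W), Q] = O^p(W)`. -/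
theorem wc_weakClosure_structure (hwc : IsWeaklyClosedSubgroup p Q) {X : Subgroup G} (hQX : Q ≤ X) :
    (pResidual p ↥(weakClosure Q X)).map (weakClosure Q X).subtype ⊔ Q = weakClosure Q X ∧
      ⁅(pResidual p ↥(weakClosure Q X)).map (weakClosure Q X).subtype, Q⁆ =
        (pResidual p ↥(weakClosure Q X)).map (weakClosure Q X).subtype := by
  set W := weakClosure Q X with hW
  set K := (pResidual p ↥W).map W.subtype with hK
  have hQW : Q ≤ W := le_weakClosure hQX
  have hKW : K ≤ W := map_subtype_le _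
  have hgen : ∀ {S : Subgroup G}, Q ≤ S → W ≤ normalizer (S : Set G) → W ≤ S := by
    intro S hQS hS
    rw [hW]
    refine iSup_le fun g => ?_
    obtain ⟨w, hw, e⟩ := wc_exists_conj_mem hwc hQW (conj_le_weakClosure g.2)
    rw [e]
    exact (Subgroup.map_mono hQS).trans (H50.map_conj_eq_iff.2 (hS hw)).le
  have hWK : W ≤ normalizer (K : Set G) := le_normalizer.trans (normalizer_le_normalizer_resid W)
  have hsup : K ⊔ Q = W := by
    refine le_antisymm (sup_le hKW hQW) ?_
    by_contra hne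
    let π := QuotientGroup.mk' (pResidual p ↥W)
    have hP : IsPGroup p (↥W ⧸ pResidual p ↥W) := H22.isPGroup_quotient_pResidual
    rcases eq_top_or_exists_le_coatom ((Q.subgroupOf W).map π) with h | ⟨M, hM, hle⟩
    · apply hne
      intro w hw
      obtain ⟨q, hq, e⟩ := h.ge (mem_top (π ⟨w, hw⟩))
      rw [QuotientGroup.mk'_eq_mk'] at e
      obtain ⟨z, hz, e'⟩ := e
      rw [← show (q : G) * (z : G) = w from congrArg Subtype.val e']
      exact mul_mem (mem_sup_right hq) (mem_sup_left ⟨z, hz, rfl⟩)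
    · have : Group.IsNilpotent (↥W ⧸ pResidual p ↥W) := hP.isNilpotent
      haveI hMn : M.Normal :=
        NormalizerCondition.normal_of_coatom M Group.normalizerCondition_of_isNilpotent hM
      have hle' : W ≤ (M.comap π).map W.subtype := by
        refine hgen (fun q hq => ⟨⟨q, hQW hq⟩, hle ⟨_, hq, rfl⟩, rfl⟩) ?_
        refine (normal_subgroupOf_iff_le_normalizer (map_subtype_le _)).1 ?_
        rw [show ((M.comap π).map W.subtype).subgroupOf W = M.comap π from
          comap_map_eq_self_of_injective W.subtype_injective _]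
        exact hMn.comap π
      refine hM.1 (eq_top_iff.2 fun z _ => ?_)
      obtain ⟨⟨w, hw⟩, rfl⟩ := QuotientGroup.mk'_surjective _ z
      obtain ⟨w', hw', e⟩ := hle' hw
      rw [show w' = (⟨w, hw⟩ : ↥W) from Subtype.ext e] at hw'
      exact hw'
  refine ⟨hsup, le_antisymm ?_ ?_⟩
  · rw [commutator_comm]
    exact commutator_le_of_le_normalizer (hQW.trans hWK)
  · set R := ⁅K, Q⁆ with hR
    have hKR : K ≤ normalizer (R : Set G) := normalizer_commutator_ge_left _ _
    have hQR : Q ≤ normalizer (R : Set G) := normalizer_commutator_ge_right _ _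
    have hRQ : W ≤ R ⊔ Q := by
      refine hgen le_sup_right ?_
      refine hsup.ge.trans (sup_le ?_ (le_sup_right.trans le_normalizer))
      apply le_normalizer_of_commutator_le
      rw [commutator_le]
      intro k hk z hz
      have hz' : z ∈ ((R ⊔ Q : Subgroup G) : Set G) := hz
      rw [coe_mul_of_right_le_normalizer_left _ _ hQR] at hz'
      obtain ⟨r, hr, q, hq, rfl⟩ := hz'
      have e : ⁅k, r * q⁆ = (k * r * k⁻¹) * ⁅k, q⁆ * r⁻¹ := by
        simp only [commutatorElement_def]; group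
      rw [e]
      exact mem_sup_left (mul_mem (mul_mem ((mem_normalizer_iff.1 (hKR hk) r).1 hr)
        (commutator_mem_commutator hk hq)) (inv_mem hr))
    exact resid_le_of_sup hQR (wc_isPGroup hwc) ((map_subtype_le _).trans hRQ)

/-- The commutator with a normal subgroup of `Hc` normalizing `Q` lies in `O_p(Hc)`. -/
theorem commutator_weakClosure_top_le (hwc : IsWeaklyClosedSubgroup p Q) {Hc D : Subgroup G}
    (hHc : Hc = weakClosure Q ⊤) (hD : D ≤ Hc) (hHD : Hc ≤ normalizer (D : Set G))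
    (hDQ : D ≤ normalizer (Q : Set G)) : ⁅Hc, D⁆ ≤ pCoreOf p Hc := by
  subst hHc
  refine commutator_iSup_le (H74.le_normalizer_pCoreOf _) fun g => ?_
  set Q' := Q.map (MulAut.conj (g : G)).toMonoidHom
  have hQ'H : Q' ≤ weakClosure Q ⊤ := conj_le_weakClosure le_top
  obtain ⟨k, hk, e⟩ := wc_exists_conj_mem hwc (le_weakClosure le_top) hQ'H
  have hDQ' : D ≤ normalizer (Q' : Set G) := by
    have h1 : D.map (MulAut.conj k).toMonoidHom = D := H50.map_conj_eq_iff.2 (hHD hk)
    show D ≤ normalizer ((Q.map (MulAut.conj (g : G)).toMonoidHom : Subgroup G) : Set G)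
    rw [e, ← h1]
    exact map_conj_le_normalizer_map_conj hDQ k
  have h1 : ⁅Q', D⁆ ≤ Q' ⊓ D := by
    refine le_inf ?_ (commutator_le_of_le_normalizer (hQ'H.trans hHD))
    rw [commutator_comm]
    exact commutator_le_of_le_normalizer hDQ'
  have h2 : Q' ⊓ D ≤ pCoreOf p D := H74.le_pCoreOf inf_le_right
    (normalizer_inf_le hDQ' le_normalizer) (((wc_isPGroup hwc).map _).to_le inf_le_left)
  exact h1.trans (h2.trans (H74.le_pCoreOf ((H74.pCoreOf_le D).trans hD)
    (hHD.trans (normalizer_le_normalizer_pCoreOf D)) (H74.pCoreOf_isPGroup D)))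

/-- One half of the factorization of the weak closure. -/
theorem weakClosure_factor (hwc : IsWeaklyClosedSubgroup p Q) {Hc H₁ H₂ K₁ : Subgroup G}
    (hHc : Hc = weakClosure Q ⊤) (hn₁ : H₁ ≤ Hc ∧ Hc ≤ normalizer (H₁ : Set G))
    (hn₂ : H₂ ≤ Hc ∧ Hc ≤ normalizer (H₂ : Set G)) (hprod : H₁ ⊔ H₂ = Hc)
    (hcomm : ⁅H₁, H₂⁆ ≤ normalizer (Q : Set G))
    (hK₁ : K₁ = (pResidual p ↥(weakClosure Q (H₁ ⊔ Q))).map (weakClosure Q (H₁ ⊔ Q)).subtype) :
    (⁅K₁, Q⁆ = K₁ ∧ ⁅K₁, H₁⁆ = K₁ ∧ K₁ ≤ ⁅H₁, H₁⁆ ∧ Hc ≤ normalizer (K₁ : Set G)) ∧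
      ∀ h ∈ H₁, ∀ q ∈ Q, h * q * h⁻¹ ∈ K₁ ⊔ Q := by
  obtain ⟨hH₁, hN₁⟩ := hn₁
  obtain ⟨hH₂, hN₂⟩ := hn₂
  set D := ⁅H₁, H₂⁆ with hD
  have hDH₁ : D ≤ H₁ := by
    rw [hD, commutator_comm]; exact commutator_le_of_le_normalizer (hH₂.trans hN₁)
  have hQHc : Q ≤ Hc := hHc ▸ le_weakClosure le_top
  have hHD : Hc ≤ normalizer (D : Set G) := hprod ▸
    sup_le (normalizer_commutator_ge_left _ _) (normalizer_commutator_ge_right _ _)
  have hDP : ⁅Hc, D⁆ ≤ pCoreOf p Hc :=
    commutator_weakClosure_top_le hwc hHc (hDH₁.trans hH₁) hHD hcomm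
  set X := H₁ ⊔ Q
  set W := weakClosure Q X with hW
  obtain ⟨hsup, hKQ⟩ := wc_weakClosure_structure hwc (le_sup_right : Q ≤ X)
  rw [← hW, ← hK₁] at hsup hKQ
  have hH₁W : H₁ ≤ normalizer (W : Set G) := le_sup_left.trans (le_normalizer_weakClosure Q X)
  have hH₁K : H₁ ≤ normalizer (K₁ : Set G) := hK₁ ▸ hH₁W.trans (normalizer_le_normalizer_resid W)
  have hK₁H₁ : K₁ ≤ H₁ := hK₁ ▸ resid_le_of_sup (hQHc.trans hN₁) (wc_isPGroup hwc)
    ((map_subtype_le _).trans (weakClosure_le Q X))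
  set M := ⁅K₁, H₁⁆ with hM
  have hMK : M ≤ K₁ := by rw [hM, commutator_comm]; exact commutator_le_of_le_normalizer hH₁K
  have hH₁M : H₁ ≤ normalizer (M : Set G) := normalizer_commutator_ge_right _ _
  have hQK : Q ≤ normalizer (K₁ : Set G) := hK₁ ▸
    ((le_weakClosure (le_sup_right : Q ≤ X)).trans
      (le_normalizer.trans (normalizer_le_normalizer_resid W)))
  have hQM : Q ≤ normalizer (M : Set G) := by
    intro q hq
    rw [← H50.map_conj_eq_iff, hM, Subgroup.map_commutator, H50.map_conj_eq_iff.2 (hQK hq),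
      H50.map_conj_eq_iff.2 (hN₁ (hQHc hq))]
  have hHcH : (Hc : Set G) = (H₁ : Set G) * (H₂ : Set G) := by
    rw [← hprod, coe_mul_of_right_le_normalizer_left _ _ (hH₂.trans hN₁)]
  have step1 : K₁ ≤ M ⊔ D := by
    refine hKQ.ge.trans (commutator_le.2 fun k hk q hq => ?_)
    obtain ⟨a, ha, b, hb, rfl⟩ : q ∈ (H₁ : Set G) * (H₂ : Set G) := hHcH ▸ (hQHc hq : q ∈ (Hc : Set G))
    have e : ⁅k, a * b⁆ = ⁅k, a⁆ * (a * ⁅k, b⁆ * a⁻¹) := by
      simp only [commutatorElement_def]; group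
    show ⁅k, a * b⁆ ∈ M ⊔ D
    rw [e]
    exact mul_mem (mem_sup_left (commutator_mem_commutator hk ha)) (mem_sup_right
      ((mem_normalizer_iff.1 (hHD (hH₁ ha)) _).1 (commutator_mem_commutator (hK₁H₁ hk) hb)))
  have step2 : K₁ ≤ M ⊔ (Q ⊓ D) := by
    refine hKQ.ge.trans (commutator_le.2 fun k hk q hq => ?_)
    have hk' : k ∈ ((M ⊔ D : Subgroup G) : Set G) := step1 hk
    rw [coe_mul_of_right_le_normalizer_left _ _ (hDH₁.trans hH₁M)] at hk'
    obtain ⟨m, hm, d, hd, rfl⟩ := hk'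
    have e : ⁅m * d, q⁆ = m * ⁅d, q⁆ * m⁻¹ * ⁅m, q⁆ := by
      simp only [commutatorElement_def]; group
    have hmq : ⁅m, q⁆ ∈ M := by
      have := commutator_le_of_le_normalizer hQM
      rw [commutator_comm] at this
      exact this (commutator_mem_commutator hm hq)
    have hdq : ⁅d, q⁆ ∈ Q ⊓ D := by
      refine ⟨commutator_le_of_le_normalizer hcomm (commutator_mem_commutator hd hq), ?_⟩
      have := commutator_le_of_le_normalizer (hQHc.trans hHD)
      rw [commutator_comm] at this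
      exact this (commutator_mem_commutator hd hq)
    show ⁅m * d, q⁆ ∈ M ⊔ (Q ⊓ D)
    rw [e]
    exact mul_mem (mul_mem (mul_mem (mem_sup_left hm) (mem_sup_right hdq))
      (inv_mem (mem_sup_left hm))) (mem_sup_left hmq)
  have hMeq : M = K₁ := le_antisymm hMK (hK₁.trans_le (resid_le_of_sup
    (inf_le_right.trans (hDH₁.trans hH₁M)) ((wc_isPGroup hwc).to_le inf_le_left)
    (hK₁.symm.trans_le step2)))
  have hH₂K : H₂ ≤ normalizer (K₁ : Set G) := by
    have key : ∀ h ∈ H₂, ∀ k ∈ K₁, h * k * h⁻¹ ∈ K₁ := by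
      intro h hh
      have hDK : D ≤ normalizer (K₁ : Set G) := hDH₁.trans hH₁K
      have h1 : K₁.map (MulAut.conj h).toMonoidHom ≤ D ⊔ K₁ := by
        rintro _ ⟨k, hk, rfl⟩
        have e : (MulAut.conj h).toMonoidHom k = ⁅h, k⁆ * k := by simp [commutatorElement_def]
        rw [e]
        refine mul_mem (mem_sup_left ?_) (mem_sup_right hk)
        rw [hD, commutator_comm]
        exact commutator_mem_commutator hh (hK₁H₁ hk)
      have h2 : K₁.map (MulAut.conj h).toMonoidHom ≤ K₁ ⊔ (pCoreOf p Hc ⊓ D) := by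
        conv_lhs => rw [← hMeq, hM, Subgroup.map_commutator, H50.map_conj_eq_iff.2 (hN₁ (hH₂ hh))]
        refine commutator_le.2 fun x hx a ha => ?_
        have hx' : x ∈ ((D ⊔ K₁ : Subgroup G) : Set G) := h1 hx
        rw [coe_mul_of_left_le_normalizer_right _ _ hDK] at hx'
        obtain ⟨d, hd, k, hk, rfl⟩ := hx'
        have e : ⁅d * k, a⁆ = d * ⁅k, a⁆ * d⁻¹ * ⁅a, d⁆⁻¹ := by
          simp only [commutatorElement_def]; group
        show ⁅d * k, a⁆ ∈ K₁ ⊔ (pCoreOf p Hc ⊓ D)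
        rw [e]
        refine mul_mem (mem_sup_left ((mem_normalizer_iff.1 (hDK hd) _).1
          (hMK (commutator_mem_commutator hk ha)))) (inv_mem (mem_sup_right ?_))
        refine ⟨hDP (commutator_mem_commutator (hH₁ ha) hd), ?_⟩
        exact commutator_le_of_le_normalizer (hH₁.trans hHD) (commutator_mem_commutator ha hd)
      have h3 : K₁ ≤ K₁.map (MulAut.conj h⁻¹).toMonoidHom := by
        conv_lhs => rw [hK₁]
        refine resid_le_of_coprime fun x hx hc => H50.mem_map_conj.2 ?_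
        rw [inv_inv]
        exact mem_of_coprime_of_sup (inf_le_right.trans hDK)
          ((H74.pCoreOf_isPGroup Hc).to_le inf_le_left)
          (h2 ⟨x, hK₁ ▸ mem_resid hx hc, rfl⟩) (by rwa [← MulAut.conj_apply, MulEquiv.orderOf_eq])
      intro k hk
      simpa using H50.mem_map_conj.1 (h3 hk)
    intro h hh
    rw [mem_normalizer_iff]
    refine fun k => ⟨key h hh k, fun hk => ?_⟩
    simpa [mul_assoc] using key h⁻¹ (inv_mem hh) _ hk
  refine ⟨⟨hKQ, hMeq, hMeq.ge.trans (commutator_mono hK₁H₁ le_rfl), hprod ▸ sup_le hH₁K hH₂K⟩, ?_⟩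
  intro h hh q hq
  exact hsup.ge ((mem_normalizer_iff.1 (hH₁W hh) q).1 (le_weakClosure (le_sup_right : Q ≤ X) hq))

end Cfsg.Agent.H73
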