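import Cfsg.Prelude.Def_LocalStructure
import Cfsg.Agent.H50.Closure
import Cfsg.Agent.H74.CharP
import Cfsg.Agent.H73.CharPLocal
import Cfsg.Agent.H22.PResidual

/-!
Weakly closed subgroups, large subgroups and weak closures.
-/

set_option autoImplicit false

namespace Cfsg.Agent.H73

open Subgroup
open scoped commutatorElement

variable {G : Type*} [Group G] {p : ℕ}

/-- `Q^g` is normalized by what `g⁻¹`-conjugates into the normalizer of `Q`. -/
theorem map_conj_le_normalizer_map_conj {Q R : Subgroup G} (h : R ≤ normalizer (Q : Set G)) (g : G) :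
    R.map (MulAut.conj g).toMonoidHom ≤
      normalizer ((Q.map (MulAut.conj g).toMonoidHom : Subgroup G) : Set G) := by
  intro x hx
  rw [H50.mem_map_conj] at hx
  exact (mem_normalizer_conj_iff Q g x).2 (h hx)

/-- Conjugating back. -/
theorem map_conj_le_iff {Q R : Subgroup G} {g : G} :
    Q.map (MulAut.conj g).toMonoidHom ≤ R ↔ Q ≤ R.map (MulAut.conj g⁻¹).toMonoidHom := by
  constructor
  · intro h x hx
    rw [H50.mem_map_conj]
    simpa using h ⟨x, hx, rfl⟩
  · rintro h _ ⟨x, hx, rfl⟩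
    have := h hx
    rw [H50.mem_map_conj] at this
    simpa using this

/-- The kernel of the action on a section `D/F` contains the commutator of two stabilizing
subgroups one of which acts trivially. -/
theorem commutator_mem_of_trivial_action {C Q D F : Subgroup G}
    (hCD : C ≤ normalizer (D : Set G)) (hCF : C ≤ normalizer (F : Set G))
    (hQD : Q ≤ normalizer (D : Set G)) (hQF : Q ≤ normalizer (F : Set G))
    (h : ∀ q ∈ Q, ∀ d ∈ D, ⁅q, d⁆ ∈ F) : ∀ r ∈ ⁅C, Q⁆, ∀ d ∈ D, ⁅r, d⁆ ∈ F := by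
  let N := normalizer (D : Set G) ⊓ normalizer (F : Set G)
  have hDc : ∀ {a d : G}, a ∈ N → d ∈ D → a * d * a⁻¹ ∈ D := fun ha hd =>
    (mem_normalizer_iff.1 ha.1 _).1 hd
  have hFc : ∀ {a f : G}, a ∈ N → f ∈ F → a * f * a⁻¹ ∈ F := fun ha hf =>
    (mem_normalizer_iff.1 ha.2 _).1 hf
  let K : Subgroup G :=
    { carrier := {g | g ∈ N ∧ ∀ d ∈ D, ⁅g, d⁆ ∈ F}
      one_mem' := ⟨one_mem _, fun d _ => by simp [commutatorElement_def]⟩
      mul_mem' := by
        rintro a b ⟨ha, ha'⟩ ⟨hb, hb'⟩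
        refine ⟨mul_mem ha hb, fun d hd => ?_⟩
        have e : ⁅a * b, d⁆ = a * ⁅b, d⁆ * a⁻¹ * ⁅a, d⁆ := by
          simp only [commutatorElement_def]; group
        rw [e]
        exact mul_mem (hFc ha (hb' d hd)) (ha' d hd)
      inv_mem' := by
        rintro a ⟨ha, ha'⟩
        refine ⟨inv_mem ha, fun d hd => ?_⟩
        have e : ⁅a⁻¹, d⁆ = a⁻¹ * ⁅a, d⁆⁻¹ * a⁻¹⁻¹ := by
          simp only [commutatorElement_def]; group
        rw [e]
        exact hFc (inv_mem ha) (inv_mem (ha' d hd)) }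
  have hQK : ∀ q ∈ Q, q ∈ K := fun q hq => ⟨⟨hQD hq, hQF hq⟩, fun d hd => h q hq d hd⟩
  have key : ⁅C, Q⁆ ≤ K := by
    rw [commutator_le]
    intro c hc q hq
    have hcN : c ∈ N := ⟨hCD hc, hCF hc⟩
    have hcq : c * q * c⁻¹ ∈ K := by
      refine ⟨mul_mem (mul_mem hcN ⟨hQD hq, hQF hq⟩) (inv_mem hcN), fun d hd => ?_⟩
      have hd' : c⁻¹ * d * c ∈ D := by simpa using hDc (inv_mem hcN) hd
      have e : ⁅c * q * c⁻¹, d⁆ = c * ⁅q, c⁻¹ * d * c⁆ * c⁻¹ := by
        simp only [commutatorElement_def]; group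
      rw [e]
      exact hFc hcN (h q hq _ hd')
    rw [commutatorElement_def]
    exact mul_mem hcq (inv_mem (hQK q hq))
  exact fun r hr d hd => (key hr).2 d hd

/-- The commutator with a normalizing subgroup lies inside. -/
theorem commutator_le_of_le_normalizer {A B : Subgroup G} (h : A ≤ normalizer (B : Set G)) :
    ⁅A, B⁆ ≤ B := by
  rw [commutator_le]
  intro a ha b hb
  rw [commutatorElement_def]
  exact mul_mem ((mem_normalizer_iff.1 (h ha) b).1 hb) (inv_mem hb)

/-- A subgroup whose commutator with `B` lies in `B` normalizes `B`. -/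
theorem le_normalizer_of_commutator_le {A B : Subgroup G} (h : ⁅A, B⁆ ≤ B) :
    A ≤ normalizer (B : Set G) := by
  have key : ∀ a ∈ A, ∀ b ∈ B, a * b * a⁻¹ ∈ B := by
    intro a ha b hb
    have := mul_mem (h (commutator_mem_commutator ha hb)) hb
    simpa [commutatorElement_def] using this
  intro a ha
  rw [mem_normalizer_iff]
  refine fun b => ⟨key a ha b, fun hb => ?_⟩
  simpa [mul_assoc] using key a⁻¹ (inv_mem ha) _ hb

/-- The normalizer of a subgroup normalizes its centralizer. -/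
theorem normalizer_inf_le {A B C : Subgroup G} (hA : C ≤ normalizer (A : Set G))
    (hB : C ≤ normalizer (B : Set G)) : C ≤ normalizer ((A ⊓ B : Subgroup G) : Set G) :=
  (le_inf hA hB).trans inf_normalizer_le_normalizer_inf

/-- `L° ≤ L`. -/
theorem weakClosure_le (Q L : Subgroup G) : weakClosure Q L ≤ L := iSup_le fun g => g.2

/-- A conjugate inside `L` lies in `L°`. -/
theorem conj_le_weakClosure {Q L : Subgroup G} {g : G}
    (h : Q.map (MulAut.conj g).toMonoidHom ≤ L) :
    Q.map (MulAut.conj g).toMonoidHom ≤ weakClosure Q L :=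
  le_iSup (fun g : {g : G // Q.map (MulAut.conj g).toMonoidHom ≤ L} =>
    Q.map (MulAut.conj (g : G)).toMonoidHom) ⟨g, h⟩

/-- `Q ≤ L°` when `Q ≤ L`. -/
theorem le_weakClosure {Q L : Subgroup G} (h : Q ≤ L) : Q ≤ weakClosure Q L := by
  have e : Q.map (MulAut.conj (1 : G)).toMonoidHom = Q := H50.map_conj_eq_iff.2 (one_mem _)
  have := conj_le_weakClosure (g := (1 : G)) (e.symm ▸ h : Q.map (MulAut.conj (1 : G)).toMonoidHom ≤ L)
  rwa [e] at this

/-- An element permuting the conjugates inside `L` normalizes `L°`. -/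
theorem le_normalizer_weakClosure_of_conj {Q L A : Subgroup G}
    (h : ∀ a ∈ A, ∀ g : G, Q.map (MulAut.conj g).toMonoidHom ≤ L →
      Q.map (MulAut.conj (a * g)).toMonoidHom ≤ L) :
    A ≤ normalizer (weakClosure Q L : Set G) := by
  have key : ∀ a ∈ A, (weakClosure Q L).map (MulAut.conj a).toMonoidHom ≤ weakClosure Q L := by
    intro a ha
    rw [weakClosure, Subgroup.map_iSup]
    refine iSup_le fun g => ?_
    rw [H50.map_conj_map]
    exact conj_le_weakClosure (h a ha g g.2)
  intro a ha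
  rw [mem_normalizer_iff]
  refine fun x => ⟨fun hx => key a ha ⟨x, hx, rfl⟩, fun hx => ?_⟩
  have := key a⁻¹ (inv_mem ha) ⟨_, hx, rfl⟩
  simpa [mul_assoc] using this

/-- `L` normalizes `L°`. -/
theorem le_normalizer_weakClosure (Q L : Subgroup G) : L ≤ normalizer (weakClosure Q L : Set G) := by
  refine le_normalizer_weakClosure_of_conj fun a ha g hg => ?_
  rw [← H50.map_conj_map]
  rintro _ ⟨x, hx, rfl⟩
  exact mul_mem (mul_mem ha (hg hx)) (inv_mem ha)

section WeaklyClosed

variable [Finite G] [Fact p.Prime] {Q : Subgroup G}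

/-- A weakly closed subgroup is a `p`-group. -/
theorem wc_isPGroup (hwc : IsWeaklyClosedSubgroup p Q) : IsPGroup p Q := by
  obtain ⟨T, hT⟩ := hwc
  exact T.2.to_le hT.1

/-- A weakly closed subgroup is its only conjugate in any `p`-subgroup containing it. -/
theorem wc_eq_of_le_pgroup (hwc : IsWeaklyClosedSubgroup p Q) {R : Subgroup G} (hR : IsPGroup p R)
    (hQR : Q ≤ R) {g : G} (hg : Q.map (MulAut.conj g).toMonoidHom ≤ R) :
    Q.map (MulAut.conj g).toMonoidHom = Q := by
  obtain ⟨T, hT⟩ := hwc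
  obtain ⟨S, hS⟩ := hR.exists_le_sylow
  exact (H50.weaklyClosed_change (hQR.trans hS) hT).2 g (hg.trans hS)

/-- `N(R) ≤ N(Q)` for every `p`-subgroup `R` containing the weakly closed subgroup `Q`. -/
theorem wc_normalizer_le (hwc : IsWeaklyClosedSubgroup p Q) {R : Subgroup G} (hR : IsPGroup p R)
    (hQR : Q ≤ R) : normalizer (R : Set G) ≤ normalizer (Q : Set G) := by
  intro g hg
  refine H50.map_conj_eq_iff.1 (wc_eq_of_le_pgroup hwc hR hQR ?_)
  exact (Subgroup.map_mono hQR).trans (H50.map_conj_eq_iff.2 hg).le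

/-- Every `p`-subgroup containing `Q` normalizes `Q`. -/
theorem wc_le_normalizer (hwc : IsWeaklyClosedSubgroup p Q) {R : Subgroup G} (hR : IsPGroup p R)
    (hQR : Q ≤ R) : R ≤ normalizer (Q : Set G) :=
  le_normalizer.trans (wc_normalizer_le hwc hR hQR)

/-- A `p`-subgroup normalized by `Q` normalizes `Q`. -/
theorem wc_le_normalizer_of_normalized (hwc : IsWeaklyClosedSubgroup p Q) {R : Subgroup G}
    (hR : IsPGroup p R) (hQR : Q ≤ normalizer (R : Set G)) : R ≤ normalizer (Q : Set G) :=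
  le_sup_left.trans (wc_le_normalizer hwc
    (IsPGroup.to_sup_of_normal_left' hR (wc_isPGroup hwc) hQR) le_sup_right)

/-- A conjugate normalizing `Q` equals `Q`. -/
theorem wc_eq_of_le_normalizer (hwc : IsWeaklyClosedSubgroup p Q) {g : G}
    (hg : Q.map (MulAut.conj g).toMonoidHom ≤ normalizer (Q : Set G)) :
    Q.map (MulAut.conj g).toMonoidHom = Q := by
  have hp := wc_isPGroup hwc
  exact wc_eq_of_le_pgroup hwc (IsPGroup.to_sup_of_normal_left' hp (hp.map _) hg) le_sup_left
    le_sup_right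

/-- Burnside: if `N(R) ≤ N(Q)` for all `p`-subgroups `R ≥ Q` then `Q` is weakly closed. -/
theorem wc_of_forall_normalizer (hp : IsPGroup p Q)
    (h : ∀ R : Subgroup G, IsPGroup p R → Q ≤ R → normalizer (R : Set G) ≤ normalizer (Q : Set G)) :
    IsWeaklyClosedSubgroup p Q := by
  obtain ⟨T, hT⟩ := hp.exists_le_sylow
  refine ⟨T, hT, fun g hg => ?_⟩
  have hTN : (T : Subgroup G) ≤ normalizer (Q : Set G) := le_normalizer.trans (h _ T.2 hT)
  have hQ' := map_conj_le_iff.1 hg
  obtain ⟨S, hS⟩ := (T.2.map (MulAut.conj g⁻¹).toMonoidHom).exists_le_sylow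
  have hcard : Nat.card ((T : Subgroup G).map (MulAut.conj g⁻¹).toMonoidHom) =
      Nat.card (T : Subgroup G) :=
    Subgroup.card_map_of_injective (MulAut.conj g⁻¹).injective
  have hSeq : (T : Subgroup G).map (MulAut.conj g⁻¹).toMonoidHom = (S : Subgroup G) := by
    refine eq_of_le_of_card_ge hS ?_
    rw [hcard, S.card_eq_multiplicity, T.card_eq_multiplicity]
  have hSN : (S : Subgroup G) ≤ normalizer (Q : Set G) :=
    le_normalizer.trans (h _ S.2 (hSeq ▸ hQ'))
  obtain ⟨n, hn, hnS⟩ := exists_sylow_conj_mem hSN hTN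
  have hmap : (T : Subgroup G).map (MulAut.conj (n * g⁻¹)).toMonoidHom = (T : Subgroup G) := by
    have h2 : (S : Subgroup G).map (MulAut.conj n).toMonoidHom = (T : Subgroup G) := by
      rw [← hnS, Sylow.coe_subgroup_smul]
      rfl
    rw [← H50.map_conj_map, hSeq, h2]
  have h3 : n * g⁻¹ ∈ normalizer (Q : Set G) := h _ T.2 hT (H50.map_conj_eq_iff.1 hmap)
  refine H50.map_conj_eq_iff.2 ?_
  simpa using mul_mem (inv_mem h3) hn

/-- Conjugates inside an overgroup `K` are conjugate under `K`. -/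
theorem wc_exists_conj_mem (hwc : IsWeaklyClosedSubgroup p Q) {K : Subgroup G} (hQK : Q ≤ K) {g : G}
    (hg : Q.map (MulAut.conj g).toMonoidHom ≤ K) :
    ∃ k ∈ K, Q.map (MulAut.conj g).toMonoidHom = Q.map (MulAut.conj k).toMonoidHom := by
  have hp := wc_isPGroup hwc
  obtain ⟨P₁, hP₁⟩ := (hp.comap_subtype : IsPGroup p (Q.subgroupOf K)).exists_le_sylow
  obtain ⟨P₂, hP₂⟩ := ((hp.map _).comap_subtype :
    IsPGroup p ((Q.map (MulAut.conj g).toMonoidHom).subgroupOf K)).exists_le_sylow
  obtain ⟨k, hk⟩ := MulAction.exists_smul_eq K P₂ P₁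
  have h1 : Q ≤ (P₁ : Subgroup K).map K.subtype := fun x hx => ⟨⟨x, hQK hx⟩, hP₁ hx, rfl⟩
  have h2 : Q.map (MulAut.conj ((k : G) * g)).toMonoidHom ≤ (P₁ : Subgroup K).map K.subtype := by
    rw [← H50.map_conj_map]
    rintro _ ⟨y, hy, rfl⟩
    refine ⟨k * ⟨y, hg hy⟩ * k⁻¹, ?_, by simp⟩
    rw [← hk, Sylow.coe_subgroup_smul]
    exact ⟨⟨y, hg hy⟩, hP₂ hy, by simp⟩
  have h3 := wc_eq_of_le_pgroup hwc (P₁.2.map K.subtype) h1 h2
  refine ⟨(k : G)⁻¹, inv_mem k.2, ?_⟩
  conv_rhs => rw [← h3, H50.map_conj_map, inv_mul_cancel_left]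

/-- `N_K(Q)` contains a Sylow `p`-subgroup of `K`. -/
theorem wc_exists_sylow_le_normalizer (hwc : IsWeaklyClosedSubgroup p Q) {K : Subgroup G}
    (hQK : Q ≤ K) :
    ∃ P : Sylow p K, (P : Subgroup K).map K.subtype ≤ normalizer (Q : Set G) := by
  obtain ⟨P, hP⟩ :=
    ((wc_isPGroup hwc).comap_subtype : IsPGroup p (Q.subgroupOf K)).exists_le_sylow
  exact ⟨P, wc_le_normalizer hwc (P.2.map _) fun x hx => ⟨⟨x, hQK hx⟩, hP hx, rfl⟩⟩

/-- A subgroup normalized by `Q` is generated by its `O^p` and its intersection with `N(Q)`. -/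
theorem wc_sup_pResidual (hwc : IsWeaklyClosedSubgroup p Q) {N : Subgroup G}
    (hQN : Q ≤ normalizer (N : Set G)) :
    (N ⊓ normalizer (Q : Set G)) ⊔ (pResidual p N).map N.subtype = N := by
  refine le_antisymm (sup_le inf_le_left (map_subtype_le _)) ?_
  set K := N ⊔ Q
  obtain ⟨P, hP⟩ := wc_exists_sylow_le_normalizer hwc (le_sup_right : Q ≤ K)
  obtain ⟨S⟩ := (inferInstance : Nonempty (Sylow p N))
  have hSK : (S : Subgroup N).map N.subtype ≤ K := (map_subtype_le _).trans le_sup_left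
  obtain ⟨P₂, hP₂⟩ := ((S.2.map N.subtype).comap_subtype :
    IsPGroup p (((S : Subgroup N).map N.subtype).subgroupOf K)).exists_le_sylow
  obtain ⟨k, hk⟩ := MulAction.exists_smul_eq K P₂ P
  have hkN : (k : G) ∈ normalizer (N : Set G) := sup_le le_normalizer hQN k.2
  set S' := ((S : Subgroup N).map N.subtype).map (MulAut.conj (k : G)).toMonoidHom
  have hS'N : S' ≤ N :=
    (Subgroup.map_mono (map_subtype_le _)).trans (H50.map_conj_eq_iff.2 hkN).le
  have hS'Q : S' ≤ normalizer (Q : Set G) := by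
    refine le_trans ?_ hP
    rintro _ ⟨s, hs, rfl⟩
    refine ⟨k * ⟨s, hSK hs⟩ * k⁻¹, ?_, by simp⟩
    rw [← hk, Sylow.coe_subgroup_smul]
    exact ⟨⟨s, hSK hs⟩, hP₂ hs, by simp⟩
  have hcard : Nat.card (S'.subgroupOf N) = p ^ (Nat.card N).factorization p := by
    rw [Nat.card_congr (subgroupOfEquivOfLe hS'N).toEquiv,
      Subgroup.card_map_of_injective (MulAut.conj (k : G)).injective,
      Subgroup.card_map_of_injective N.subtype_injective]
    exact S.card_eq_multiplicity
  have h := H22.pResidual_sup_sylow (Sylow.ofCard (S'.subgroupOf N) hcard)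
  rw [Sylow.coe_ofCard] at h
  calc N = (⊤ : Subgroup N).map N.subtype := by rw [← MonoidHom.range_eq_map, range_subtype]
    _ ≤ _ := by
      rw [← h, Subgroup.map_sup, map_subgroupOf_eq_of_le hS'N]
      exact sup_le le_sup_right ((le_inf hS'N hS'Q).trans le_sup_left)

/-- If `Q` is self-centralizing and `C_G(O_p(L))` normalizes `Q`, where `Q ≤ L`, then the centralizer
is a `p`-group and `L` has characteristic `p`. -/
theorem centralizer_pCoreOf_of_le_normalizer (hQp : IsPGroup p Q)
    (hCQ : centralizer (Q : Set G) ≤ Q) {L : Subgroup G} (hQL : Q ≤ L)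
    (hC : centralizer (pCoreOf p L : Set G) ≤ normalizer (Q : Set G)) :
    ⁅Q, centralizer (pCoreOf p L : Set G)⁆ ≤ Q ⊓ pCoreOf p L ∧
      IsPGroup p ↥(centralizer (pCoreOf p L : Set G)) ∧
      L ⊓ centralizer (pCoreOf p L : Set G) ≤ pCoreOf p L := by
  set A := pCoreOf p L
  set C := centralizer (A : Set G)
  have hLC : L ≤ normalizer (C : Set G) :=
    (H74.le_normalizer_pCoreOf L).trans H74.normalizer_le_normalizer_centralizer
  have hQC : ⁅Q, C⁆ ≤ Q ⊓ C :=
    le_inf (by rw [commutator_comm]; exact commutator_le_of_le_normalizer hC)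
      (commutator_le_of_le_normalizer (hQL.trans hLC))
  have hLC' : L ≤ normalizer ((L ⊓ C : Subgroup G) : Set G) := normalizer_inf_le le_normalizer hLC
  have hsub : Q ⊓ C ≤ L ⊓ C := inf_le_inf_right C hQL
  have hCA : Q ⊓ C ≤ A := by
    have h1 : Q ⊓ C ≤ pCoreOf p (L ⊓ C) := H74.le_pCoreOf hsub
      (normalizer_inf_le (inf_le_right.trans hC) (inf_le_right.trans le_normalizer))
      (hQp.to_le inf_le_left)
    refine h1.trans (H74.le_pCoreOf ((H74.pCoreOf_le _).trans inf_le_left) ?_ (H74.pCoreOf_isPGroup _))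
    exact hLC'.trans (normalizer_le_normalizer_pCoreOf (L ⊓ C))
  have hp : IsPGroup p C := by
    refine H74.isPGroup_of_pPrime_elements_trivial fun x hx hx' => ?_
    refine H74.eq_one_of_mem_pGroup hQp hx' (hCQ (mem_centralizer_iff.2 fun q hq => ?_))
    have h1 : ⁅x, q⁆ ∈ Q ⊓ C := hQC (by rw [commutator_comm]; exact commutator_mem_commutator hx hq)
    exact (H74.commute_of_commutator_mem hQp hx' h1.1
      (mem_centralizer_iff.1 hx _ (hCA h1)).symm).eq.symm
  exact ⟨hQC.trans (le_inf inf_le_left hCA), hp,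
    H74.le_pCoreOf inf_le_left hLC' (hp.to_le inf_le_right)⟩

/-- A subgroup acting trivially on `W` inside a group of characteristic `p` normalizes `Q` whenever
`Q` acts trivially on `O_p(X)/W`. -/
theorem le_normalizer_of_centralizes_section (hwc : IsWeaklyClosedSubgroup p Q) {X P W C : Subgroup G}
    (hPX : X ≤ normalizer (P : Set G)) (hP : IsPGroup p P) (hCP : X ⊓ centralizer (P : Set G) ≤ P)
    (hQX : Q ≤ X) (hW : W ≤ P) (hQW : Q ≤ normalizer (W : Set G)) (hPQ : ⁅P, Q⁆ ≤ W)
    (hCX : C ≤ X) (hCW : C ≤ centralizer (W : Set G)) (hQC : Q ≤ normalizer (C : Set G)) :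
    C ≤ normalizer (Q : Set G) := by
  set D := P ⊓ centralizer (W : Set G)
  set F := W ⊓ centralizer (W : Set G)
  have hCN : C ≤ normalizer (W : Set G) := hCW.trans (centralizer_le_normalizer _)
  have hcD : ∀ {A : Subgroup G}, A ≤ X → A ≤ normalizer (W : Set G) → A ≤ normalizer (D : Set G) :=
    fun hX hN => normalizer_inf_le (hX.trans hPX) (hN.trans H74.normalizer_le_normalizer_centralizer)
  have hcF : ∀ {A : Subgroup G}, A ≤ normalizer (W : Set G) → A ≤ normalizer (F : Set G) :=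
    fun hN => normalizer_inf_le hN (hN.trans H74.normalizer_le_normalizer_centralizer)
  have hF : ∀ q ∈ Q, ∀ d ∈ D, ⁅q, d⁆ ∈ F := by
    intro q hq d hd
    refine ⟨hPQ (by rw [commutator_comm]; exact commutator_mem_commutator hq hd.1), ?_⟩
    rw [commutatorElement_def]
    exact (centralizer (W : Set G)).mul_mem ((mem_normalizer_iff.1 ((hcD hQX hQW) hq) d).1 hd).2
      ((centralizer (W : Set G)).inv_mem hd.2)
  have hact := commutator_mem_of_trivial_action (hcD hCX hCN) (hcF hCN) (hcD hQX hQW) (hcF hQW) hF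
  set R := ⁅C, Q⁆
  have hRC : R ≤ C := by
    show ⁅C, Q⁆ ≤ C
    rw [commutator_comm]; exact commutator_le_of_le_normalizer hQC
  have hR : IsPGroup p R := by
    refine H74.isPGroup_of_pPrime_elements_trivial fun x hx hx' => ?_
    have hxC := hRC hx
    refine H74.eq_one_of_mem_pGroup hP hx' (hCP ⟨hCX hxC, mem_centralizer_iff.2 fun r hr => ?_⟩)
    refine (H74.thompson_AxB hP (hP.to_le hW) (hW.trans le_normalizer) (hPX (hCX hxC)) hx'
      (fun b hb => (mem_centralizer_iff.1 (hCW hxC) b hb).symm) ?_ r hr).eq.symm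
    intro r hr hfix
    have hrD : r ∈ D := ⟨hr, mem_centralizer_iff.2 fun b hb => (hfix b hb).eq⟩
    have h1 := hact x hx r hrD
    exact H74.commute_of_commutator_mem (hP.to_le hW) hx' h1.1
      (mem_centralizer_iff.1 (hCW hxC) _ h1.1).symm
  have hQR : Q ≤ normalizer (R : Set G) := by
    show Q ≤ normalizer ((⁅C, Q⁆ : Subgroup G) : Set G)
    rw [commutator_comm]; exact normalizer_commutator_ge_left _ _
  have hRQ : IsPGroup p ↥(R ⊔ Q) := IsPGroup.to_sup_of_normal_left' hR (wc_isPGroup hwc) hQR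
  intro c hc
  refine H50.map_conj_eq_iff.1 (wc_eq_of_le_pgroup hwc hRQ le_sup_right ?_)
  rintro _ ⟨q, hq, rfl⟩
  have e : (MulAut.conj c).toMonoidHom q = ⁅c, q⁆ * q := by simp [commutatorElement_def]
  rw [e]
  exact mul_mem (mem_sup_left (commutator_mem_commutator hc hq)) (mem_sup_right hq)

/-- The main step of the self-centralizing overgroup lemma: inside a subgroup `X` of characteristic
`p` containing `Q` and `C_G(O_p(L))`, that centralizer normalizes `Q`. -/
theorem centralizer_pCoreOf_le_normalizer (hwc : IsWeaklyClosedSubgroup p Q)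
    (hCQ : centralizer (Q : Set G) ≤ Q) {L X : Subgroup G} (hQL : Q ≤ L) (hQX : Q ≤ X)
    (hCX : centralizer (pCoreOf p L : Set G) ≤ X)
    (hX : X ⊓ centralizer (pCoreOf p X : Set G) ≤ pCoreOf p X) :
    centralizer (pCoreOf p L : Set G) ≤ normalizer (Q : Set G) := by
  have hQp := wc_isPGroup hwc
  set A := pCoreOf p L
  set C := centralizer (A : Set G)
  set P := pCoreOf p X
  set W := P ⊓ L
  have hP : IsPGroup p P := H74.pCoreOf_isPGroup X
  have hPX : X ≤ normalizer (P : Set G) := H74.le_normalizer_pCoreOf X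
  have hPN : P ≤ normalizer (Q : Set G) := wc_le_normalizer_of_normalized hwc hP (hQX.trans hPX)
  have hPQ : ⁅P, Q⁆ ≤ W := le_inf
    (by rw [commutator_comm]; exact commutator_le_of_le_normalizer (hQX.trans hPX))
    ((commutator_le_of_le_normalizer hPN).trans hQL)
  have hQW : Q ≤ normalizer (W : Set G) := normalizer_inf_le (hQX.trans hPX) (hQL.trans le_normalizer)
  have hLC : L ≤ normalizer (C : Set G) :=
    (H74.le_normalizer_pCoreOf L).trans H74.normalizer_le_normalizer_centralizer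
  have hQCW : ∀ B : Subgroup G, Q ≤ normalizer (B : Set G) →
      Q ≤ normalizer ((B ⊓ centralizer (W : Set G) : Subgroup G) : Set G) := fun B hB =>
    normalizer_inf_le hB (hQW.trans H74.normalizer_le_normalizer_centralizer)
  -- elements of order prime to `p` of `L ⊓ C` are trivial
  set C' := L ⊓ C
  have hLC' : L ≤ normalizer (C' : Set G) := normalizer_inf_le le_normalizer hLC
  set C₁ := C' ⊓ centralizer (W : Set G)
  have hC₁N : C₁ ≤ normalizer (Q : Set G) :=
    le_normalizer_of_centralizes_section hwc hPX hP hX hQX inf_le_left hQW hPQ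
      (inf_le_left.trans (inf_le_right.trans hCX)) inf_le_right (hQCW C' (hQL.trans hLC'))
  have hC'W : C' ≤ normalizer (W : Set G) :=
    normalizer_inf_le (inf_le_right.trans (hCX.trans hPX)) (inf_le_left.trans le_normalizer)
  have hC'C₁ : C' ≤ normalizer (C₁ : Set G) :=
    normalizer_inf_le le_normalizer (hC'W.trans H74.normalizer_le_normalizer_centralizer)
  have hQC₁ : Q ⊓ C₁ ≤ A := by
    have h1 : Q ⊓ C₁ ≤ pCoreOf p C₁ := H74.le_pCoreOf inf_le_right
      (normalizer_inf_le hC₁N le_normalizer) (hQp.to_le inf_le_left)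
    have h2 : pCoreOf p C₁ ≤ pCoreOf p C' := H74.le_pCoreOf
      ((H74.pCoreOf_le _).trans inf_le_left)
      (hC'C₁.trans (normalizer_le_normalizer_pCoreOf C₁)) (H74.pCoreOf_isPGroup _)
    exact h1.trans (h2.trans (H74.le_pCoreOf ((H74.pCoreOf_le _).trans inf_le_left)
      (hLC'.trans (normalizer_le_normalizer_pCoreOf C')) (H74.pCoreOf_isPGroup _)))
  have hC'p : IsPGroup p C' := by
    refine H74.isPGroup_of_pPrime_elements_trivial fun x hx hx' => ?_
    have hxW : x ∈ centralizer (W : Set G) := by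
      refine mem_centralizer_iff.2 fun w hw => ?_
      have h1 : ⁅x, w⁆ ∈ P ⊓ C' := by
        refine ⟨?_, ?_⟩
        · rw [commutatorElement_def]
          exact P.mul_mem ((mem_normalizer_iff.1 (hPX (hCX hx.2)) w).1 hw.1) (P.inv_mem hw.1)
        · rw [commutatorElement_def, mul_assoc, mul_assoc]
          refine mul_mem hx ?_
          rw [← mul_assoc]
          exact (mem_normalizer_iff.1 (hLC' hw.2) x⁻¹).1 (inv_mem hx)
      have h2 : P ⊓ C' ≤ A := by
        have h3 : P ⊓ C' ≤ pCoreOf p C' := H74.le_pCoreOf inf_le_right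
          (normalizer_inf_le (inf_le_right.trans (hCX.trans hPX)) le_normalizer)
          (hP.to_le inf_le_left)
        exact h3.trans (H74.le_pCoreOf ((H74.pCoreOf_le _).trans inf_le_left)
          (hLC'.trans (normalizer_le_normalizer_pCoreOf C')) (H74.pCoreOf_isPGroup _))
      exact (H74.commute_of_commutator_mem hP hx' h1.1
        (mem_centralizer_iff.1 hx.2 _ (h2 h1)).symm).eq.symm
    have hxC₁ : x ∈ C₁ := ⟨hx, hxW⟩
    refine H74.eq_one_of_mem_pGroup hQp hx' (hCQ (mem_centralizer_iff.2 fun q hq => ?_))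
    have h1 : ⁅x, q⁆ ∈ Q ⊓ C₁ :=
      ⟨commutator_le_of_le_normalizer hC₁N (commutator_mem_commutator hxC₁ hq), by
        have := commutator_le_of_le_normalizer (hQCW C' (hQL.trans hLC'))
        rw [commutator_comm] at this
        exact this (commutator_mem_commutator hxC₁ hq)⟩
    exact (H74.commute_of_commutator_mem hQp hx' h1.1
      (mem_centralizer_iff.1 hx.2 _ (hQC₁ h1)).symm).eq.symm
  have hC'A : C' ≤ A := H74.le_pCoreOf inf_le_left hLC' hC'p
  -- now `C`
  set R := ⁅C, Q⁆
  set E := P ⊓ C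
  have hQC : Q ≤ normalizer (C : Set G) := hQL.trans hLC
  have hQE : Q ≤ normalizer (E : Set G) := normalizer_inf_le (hQX.trans hPX) hQC
  have hCE : C ≤ normalizer (E : Set G) := normalizer_inf_le (hCX.trans hPX) le_normalizer
  have hCA : C ≤ normalizer ((E ⊓ A : Subgroup G) : Set G) :=
    normalizer_inf_le hCE (centralizer_le_normalizer _)
  have hQA : Q ≤ normalizer ((E ⊓ A : Subgroup G) : Set G) :=
    normalizer_inf_le hQE (hQL.trans (H74.le_normalizer_pCoreOf L))
  have hRC : R ≤ C := by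
    show ⁅C, Q⁆ ≤ C
    rw [commutator_comm]; exact commutator_le_of_le_normalizer hQC
  have hEact := commutator_mem_of_trivial_action hCE hCA hQE hQA (fun q hq e he => by
    have h1 : ⁅q, e⁆ ∈ E := commutator_le_of_le_normalizer hQE (commutator_mem_commutator hq he)
    have h2 : ⁅q, e⁆ ∈ Q := by
      have := commutator_le_of_le_normalizer (inf_le_left.trans hPN : E ≤ normalizer (Q : Set G))
      rw [commutator_comm] at this
      exact this (commutator_mem_commutator hq he)
    exact ⟨h1, hC'A ⟨hQL h2, h1.2⟩⟩)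
  set C₂ := C ⊓ centralizer (W : Set G)
  have hC₂N : C₂ ≤ normalizer (Q : Set G) :=
    le_normalizer_of_centralizes_section hwc hPX hP hX hQX inf_le_left hQW hPQ
      (inf_le_left.trans hCX) inf_le_right (hQCW C hQC)
  have hR : IsPGroup p R := by
    refine H74.isPGroup_of_pPrime_elements_trivial fun x hx hx' => ?_
    have hxC := hRC hx
    have hxE : ∀ e ∈ E, Commute x e := fun e he => by
      have h1 := hEact x hx e he
      exact H74.commute_of_commutator_mem hP hx' h1.1.1 (mem_centralizer_iff.1 hxC _ h1.2).symm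
    have hxW : x ∈ centralizer (W : Set G) := by
      refine mem_centralizer_iff.2 fun w hw => ?_
      have h1 : ⁅x, w⁆ ∈ E := by
        refine ⟨?_, ?_⟩
        · rw [commutatorElement_def]
          exact P.mul_mem ((mem_normalizer_iff.1 (hPX (hCX hxC)) w).1 hw.1) (P.inv_mem hw.1)
        · rw [commutatorElement_def, mul_assoc, mul_assoc]
          refine mul_mem hxC ?_
          rw [← mul_assoc]
          exact (mem_normalizer_iff.1 (hLC hw.2) x⁻¹).1 (inv_mem hxC)
      exact (H74.commute_of_commutator_mem hP hx' h1.1 (hxE _ h1)).eq.symm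
    refine H74.eq_one_of_mem_pGroup hQp hx' (hCQ (mem_centralizer_iff.2 fun q hq => ?_))
    have h1 : ⁅x, q⁆ ∈ Q := commutator_le_of_le_normalizer hC₂N
      (commutator_mem_commutator (⟨hxC, hxW⟩ : x ∈ C₂) hq)
    have h2 : ⁅x, q⁆ ∈ A := hC'A ⟨hQL h1, hRC (commutator_mem_commutator hxC hq)⟩
    exact (H74.commute_of_commutator_mem hQp hx' h1 (mem_centralizer_iff.1 hxC _ h2).symm).eq.symm
  have hQR : Q ≤ normalizer (R : Set G) := by
    show Q ≤ normalizer ((⁅C, Q⁆ : Subgroup G) : Set G)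
    rw [commutator_comm]; exact normalizer_commutator_ge_left _ _
  have hRQ : IsPGroup p ↥(R ⊔ Q) := IsPGroup.to_sup_of_normal_left' hR hQp hQR
  intro c hc
  refine H50.map_conj_eq_iff.1 (wc_eq_of_le_pgroup hwc hRQ le_sup_right ?_)
  rintro _ ⟨q, hq, rfl⟩
  have e : (MulAut.conj c).toMonoidHom q = ⁅c, q⁆ * q := by simp [commutatorElement_def]
  rw [e]
  exact mul_mem (mem_sup_left (commutator_mem_commutator hc hq)) (mem_sup_right hq)

end WeaklyClosed

section Large

variable [Finite G] [Fact p.Prime] {Q : Subgroup G}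

omit [Finite G] in
/-- The centralizer of a nontrivial element centralizing a large subgroup normalizes it. -/
theorem large_centralizer_le_normalizer (hL : IsLarge Q) {y : G}
    (hy : y ∈ centralizer (Q : Set G)) (hy1 : y ≠ 1) :
    centralizer ({y} : Set G) ≤ normalizer (Q : Set G) := by
  refine le_trans ?_ (hL.2 (zpowers y) (zpowers_le.2 hy) (zpowers_ne_bot.2 hy1))
  refine le_trans ?_ (centralizer_le_normalizer _)
  intro c hc
  rw [mem_centralizer_iff]
  rintro _ ⟨i, rfl⟩
  exact ((show Commute c y from mem_centralizer_singleton_iff.1 hc).zpow_right i).eq.symm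

/-- A large `p`-subgroup is weakly closed. -/
theorem large_isWeaklyClosedSubgroup (hQp : IsPGroup p Q) (hQ1 : Q ≠ ⊥) (hL : IsLarge Q) :
    IsWeaklyClosedSubgroup p Q := by
  refine wc_of_forall_normalizer hQp fun R hR hQR => ?_
  have hR1 : R ≠ ⊥ := fun h => hQ1 (le_bot_iff.1 (h ▸ hQR))
  obtain ⟨z, hz, hzo, hzc⟩ := exists_central_orderOf_eq_prime hR hR1
  have hUne : R ⊓ centralizer (R : Set G) ≠ ⊥ := by
    intro h
    have : z ∈ R ⊓ centralizer (R : Set G) := ⟨hz, mem_centralizer_iff.2 hzc⟩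
    rw [h, mem_bot] at this
    rw [this, orderOf_one] at hzo
    exact (Fact.out : p.Prime).one_lt.ne hzo
  refine le_trans ?_ (hL.2 _ (inf_le_right.trans (centralizer_le hQR)) hUne)
  exact normalizer_inf_le le_rfl H74.normalizer_le_normalizer_centralizer

/-- A `p`-subgroup normalized by `Q` meets the centralizer of `Q` nontrivially. -/
theorem exists_fixed_ne_one (hQp : IsPGroup p Q) {Y : Subgroup G} (hY : IsPGroup p Y) (hY1 : Y ≠ ⊥)
    (hQY : Q ≤ normalizer (Y : Set G)) : ∃ y ∈ Y, y ≠ 1 ∧ y ∈ centralizer (Q : Set G) := by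
  have hT : IsPGroup p ↥(Y ⊔ Q) := IsPGroup.to_sup_of_normal_left' hY hQp hQY
  haveI hn : (Y.subgroupOf (Y ⊔ Q)).Normal :=
    (normal_subgroupOf_iff_le_normalizer le_sup_left).2 (sup_le le_normalizer hQY)
  have hne : Y.subgroupOf (Y ⊔ Q) ≠ ⊥ := by
    intro h
    apply hY1
    rw [← map_subgroupOf_eq_of_le (le_sup_left : Y ≤ Y ⊔ Q), h, Subgroup.map_bot]
  obtain ⟨⟨⟨y, hy⟩, hyI⟩, hy1⟩ :=
    Subgroup.ne_bot_iff_exists_ne_one.1 (H24.inf_center_ne_bot hT hne)
  refine ⟨y, hyI.1, fun h => hy1 (Subtype.ext (Subtype.ext h)), mem_centralizer_iff.2 fun q hq => ?_⟩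
  exact congrArg Subtype.val (mem_center_iff.1 hyI.2 ⟨q, mem_sup_right hq⟩)

/-- The centralizer of a nontrivial `p`-subgroup normalized by a large `Q` normalizes `Q`. -/
theorem large_centralizer_pgroup_le_normalizer (hQp : IsPGroup p Q) (hL : IsLarge Q)
    {Y : Subgroup G} (hY : IsPGroup p Y) (hY1 : Y ≠ ⊥) (hQY : Q ≤ normalizer (Y : Set G)) :
    centralizer (Y : Set G) ≤ normalizer (Q : Set G) := by
  obtain ⟨y, hy, hy1, hyQ⟩ := exists_fixed_ne_one hQp hY hY1 hQY
  exact le_trans (centralizer_le (Set.singleton_subset_iff.2 hy))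
    (large_centralizer_le_normalizer hL hyQ hy1)

omit [Finite G] [Fact p.Prime] in
/-- Conjugates of large subgroups are large. -/
theorem large_conj (hL : IsLarge Q) (g : G) : IsLarge (Q.map (MulAut.conj g).toMonoidHom) := by
  have hc : ∀ {x : G}, x ∈ centralizer ((Q.map (MulAut.conj g).toMonoidHom : Subgroup G) : Set G) →
      g⁻¹ * x * g ∈ centralizer (Q : Set G) := by
    intro x hx
    refine mem_centralizer_iff.2 fun q hq => ?_
    have h := mem_centralizer_iff.1 hx ((MulAut.conj g).toMonoidHom q) ⟨q, hq, rfl⟩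
    simp only [MulEquiv.coe_toMonoidHom, MulAut.conj_apply] at h
    calc q * (g⁻¹ * x * g) = g⁻¹ * ((g * q * g⁻¹) * x) * g := by group
      _ = g⁻¹ * (x * (g * q * g⁻¹)) * g := by rw [h]
      _ = g⁻¹ * x * g * q := by group
  refine ⟨fun x hx => H50.mem_map_conj.2 (hL.1 (hc hx)), fun U hU hU1 => ?_⟩
  intro n hn
  rw [mem_normalizer_conj_iff]
  refine hL.2 (U.map (MulAut.conj g⁻¹).toMonoidHom) ?_ ?_ ?_
  · rintro _ ⟨u, hu, rfl⟩
    simpa using hc (hU hu)
  · rwa [Ne, map_eq_bot_iff_of_injective _ (MulAut.conj g⁻¹).injective]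
  · rw [mem_normalizer_conj_iff]
    simpa [mul_assoc] using hn

end Large

end Cfsg.Agent.H73
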