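import Cfsg.Agent.H73.BasicProperty
import Cfsg.Agent.H73.WeakClosureResidual
import Cfsg.Agent.S2842

/-!
Members of `ℌ_G(O_p(M))` in the asymmetric case.
-/

set_option autoImplicit false

namespace Cfsg.Agent.H73

open Subgroup
open scoped commutatorElement Pointwise

variable {G : Type*} [Group G] [Finite G] {p : ℕ} [Fact p.Prime]

omit [Finite G] [Fact p.Prime] in
/-- In a finite nilpotent group every subgroup is subnormal. -/
theorem isSubnormal_of_isNilpotent {X : Type*} [Group X] [Finite X] [Group.IsNilpotent X]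
    (U : Subgroup X) : U.IsSubnormal := by
  induction U using WellFoundedGT.induction with
  | _ U ih =>
    rcases eq_or_ne U ⊤ with rfl | hne
    · exact Subgroup.IsSubnormal.top
    · have h1 := Group.normalizerCondition_of_isNilpotent U (lt_top_iff_ne_top.2 hne)
      exact Subgroup.IsSubnormal.step U _ h1.le (ih _ h1)
        ((normal_subgroupOf_iff_le_normalizer h1.le).2 le_rfl)

/-- Inside a group `X` of characteristic `p` every overgroup of a self-centralizing weakly closed
`p`-subgroup has characteristic `p`. -/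
theorem charP_of_wc_le {Q L X : Subgroup G} (hwc : IsWeaklyClosedSubgroup p Q) (hQ1 : Q ≠ ⊥)
    (hCQ : centralizer (Q : Set G) ≤ Q) (hQL : Q ≤ L) (hLX : L ≤ X)
    (hX : centralizer (pCore p ↥X : Set ↥X) ≤ pCore p ↥X) :
    centralizer (pCore p ↥L : Set ↥L) ≤ pCore p ↥L := by
  have hQX := hQL.trans hLX
  have hQp := wc_isPGroup hwc
  have hwc' : IsWeaklyClosedSubgroup p (Q.subgroupOf X) := by
    refine wc_of_forall_normalizer (hQp.comap_subtype) fun R hR hQR => ?_
    rw [← subgroupOf_normalizer_eq hQX]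
    intro g hg
    show (g : G) ∈ normalizer (Q : Set G)
    refine wc_normalizer_le hwc (hR.map X.subtype) ?_ ?_
    · exact fun x hx => ⟨⟨x, hQX hx⟩, hQR hx, rfl⟩
    · exact le_normalizer_map _ ⟨g, hg, rfl⟩
  have hne : Q.subgroupOf X ≠ ⊥ := fun h =>
    hQ1 (le_bot_iff.1 (by rw [← map_subgroupOf_eq_of_le hQX, h, Subgroup.map_bot]))
  have hC : centralizer ((Q.subgroupOf X : Subgroup X) : Set X) ≤ Q.subgroupOf X := fun x hx => by
    show (x : G) ∈ Q
    refine hCQ (mem_centralizer_iff.2 fun q hq => ?_)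
    exact congrArg Subtype.val (mem_centralizer_iff.1 hx ⟨q, hQX hq⟩ hq)
  have h := (S2842.result (Q.subgroupOf X) hQp.comap_subtype hne hwc' hC (L.subgroupOf X)
    (fun x hx => hQL hx) (Or.inl hX)).2.2
  exact H74.charP_congr (subgroupOfEquivOfLe hLX) h

/-- `N(Y_M) = M†` in parabolic characteristic `p`. -/
theorem normalizer_yl_eq (hpar : IsOfParabolicCharacteristic p G) {M : Subgroup G}
    (hM : IsInFrakM p M) {T : Sylow p G} (hTM : (T : Subgroup G) ≤ M) :
    normalizer (largestPReducedOf p M : Set G) = M ⊔ centralizer (largestPReducedOf p M : Set G) := by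
  obtain ⟨hY, hTC, hsupN, hMC⟩ := frakM_facts hM hTM
  refine le_antisymm ?_ hsupN
  set Y := largestPReducedOf p M
  set N := normalizer (Y : Set G)
  have hN : N ∈ charPSubgroups p G := mem_charPSubgroups_of_parabolic hpar
    ((hTM.trans le_sup_left).trans hsupN) fun h =>
      yl_ne_bot hM.1 hTM (le_bot_iff.1 (h ▸ H74.le_pCoreOf le_normalizer le_rfl
        (isPGroup_of_elementary hY.2.2.1)))
  exact (hM.2.1.2 N hN hsupN).le

/-- The structure of a member of `ℌ_G(O_p(M))`. -/
theorem frakH_structure (hpar : IsOfParabolicCharacteristic p G) {M : Subgroup G}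
    (hM : IsInFrakM p M) {T : Sylow p G} (hTM : (T : Subgroup G) ≤ M)
    (hasym : ¬ IsSymmetricIn (largestPReducedOf p M)) {H : Subgroup G} (hH : IsInFrakH p M H) :
    IsWeaklyClosedSubgroup p (pCoreOf p M) ∧
      pCoreOf p H ≤ normalizer (pCoreOf p M : Set G) ∧
      normalizer (pCoreOf p M : Set G) ≤ normalizer (largestPReducedOf p M : Set G) ∧
      ⁅(pResidual p ↥H).map H.subtype, largestPReducedOf p M⁆ = (pResidual p ↥H).map H.subtype ∧
      (pResidual p ↥H).map H.subtype ⊔ pCoreOf p M = H ∧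
      (pResidual p ↥H).map H.subtype ⊔ largestPReducedOf p M =
        (⨆ h : ↥H, (largestPReducedOf p M).map (MulAut.conj (h : G)).toMonoidHom) ∧
      ∀ N : Subgroup G, pCoreOf p M ≤ N → N ≤ H → H ≤ normalizer (N : Set G) → N = H := by
  obtain ⟨hY, hTC, hsupN, hMC⟩ := frakM_facts hM hTM
  obtain ⟨-, hPH, hYH, hmin⟩ := hH
  set Y := largestPReducedOf p M
  set P := pCoreOf p M
  set R := (pResidual p ↥H).map H.subtype with hRdef
  have hPp : IsPGroup p P := H74.pCoreOf_isPGroup M
  have hwc : IsWeaklyClosedSubgroup p P :=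
    wc_of_forall_normalizer hPp fun R hR hPR =>
      (asymmetric_normalizer_le_pCore hpar hM hTM hasym hR hPR).2
  have hYP : Y ≤ P := reducedIn_le_pCoreOf hY
  have hRH : R ≤ H := map_subtype_le _
  have hHR : H ≤ normalizer (R : Set G) := le_normalizer.trans (normalizer_le_normalizer_resid H)
  have hNPY : normalizer (P : Set G) ≤ normalizer (Y : Set G) :=
    (asymmetric_normalizer_le hpar hM hTM hasym hPp le_rfl
      ((H74.pCoreOf_le M).trans le_sup_left)).trans hsupN
  have hPY : P ≤ normalizer (Y : Set G) := le_normalizer.trans hNPY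
  have hcont : ∀ X N : Subgroup G, P ≤ X → X ≤ H → Y ≤ N → N ≤ X → H ≤ normalizer (N : Set G) →
      X = H := by
    intro X N hPX hXH hYN hNX hN
    by_contra hne
    have h1 := hmin X hPX (lt_of_le_of_ne hXH hne)
    refine hYH ((le_inf (h1 : Y ≤ pCoreOf p X) hYN).trans ?_)
    have h2 : pCoreOf p X ⊓ N ≤ pCoreOf p N := H74.le_pCoreOf inf_le_right
      (normalizer_inf_le (hNX.trans (H74.le_normalizer_pCoreOf X)) le_normalizer)
      ((H74.pCoreOf_isPGroup X).to_le inf_le_left)
    exact h2.trans (H74.le_pCoreOf ((H74.pCoreOf_le N).trans (hNX.trans hXH))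
      (hN.trans (normalizer_le_normalizer_pCoreOf N)) (H74.pCoreOf_isPGroup N))
  -- `H = R P`
  have hRP : R ⊔ P = H := by
    refine le_antisymm (sup_le hRH hPH) ?_
    have hRHn : (R.subgroupOf H).Normal := (normal_subgroupOf_iff_le_normalizer hRH).2 hHR
    by_contra hne
    set X := R ⊔ P
    have hXH : X < H := lt_of_le_of_ne (sup_le hRH hPH) fun h => hne h.ge
    have h1 : Y ≤ pCoreOf p X := hmin X le_sup_right hXH
    refine hYH (h1.trans ?_)
    -- `X` is subnormal in `H`
    have hsn : (X.subgroupOf H).IsSubnormal := by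
      have hq : IsPGroup p (↥H ⧸ pResidual p ↥H) := H22.isPGroup_quotient_pResidual
      have : Group.IsNilpotent (↥H ⧸ pResidual p ↥H) := hq.isNilpotent
      have h3 := (isSubnormal_of_isNilpotent
        ((X.subgroupOf H).map (QuotientGroup.mk' (pResidual p ↥H)))).comap
        (QuotientGroup.mk' (pResidual p ↥H))
      rwa [comap_map_eq, QuotientGroup.ker_mk', sup_eq_left.2] at h3
      intro x hx
      exact mem_sup_left (S := R) ⟨x, hx, rfl⟩
    have h4 := H72.pCoreOf_le_pCore_of_isSubnormal (p := p) hsn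
    rintro x hx
    have hx' : x ∈ (pCoreOf p (X.subgroupOf H)).map H.subtype := by
      have e := H72.pCoreOf_map_equiv (subgroupOfEquivOfLe hXH.le).symm p ⊤
      obtain ⟨⟨y, hy⟩, hyc, rfl⟩ := hx
      refine ⟨⟨y, hXH.le hy⟩, ⟨(subgroupOfEquivOfLe hXH.le).symm ⟨y, hy⟩, ?_, rfl⟩, rfl⟩
      rw [← H74.pCore_map_mulEquiv (subgroupOfEquivOfLe hXH.le).symm]
      exact ⟨_, hyc, rfl⟩
    exact Subgroup.map_mono h4 hx'
  have hnc : ∀ N : Subgroup G, P ≤ N → N ≤ H → H ≤ normalizer (N : Set G) → N = H :=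
    fun N h1 h2 h3 => hcont N N h1 h2 (hYP.trans h1) le_rfl h3
  set J := ⁅R, Y⁆ with hJ
  have hYH' : Y ≤ H := hYP.trans hPH
  have hJR : J ≤ R := by
    rw [hJ, commutator_comm]; exact commutator_le_of_le_normalizer (hYH'.trans hHR)
  have hHJ : H ≤ normalizer (J : Set G) := by
    rw [← hRP]
    refine sup_le (normalizer_commutator_ge_left _ _) fun x hx => ?_
    rw [← H50.map_conj_eq_iff, hJ, Subgroup.map_commutator, H50.map_conj_eq_iff.2 (hHR (hPH hx)),
      H50.map_conj_eq_iff.2 (hPY hx)]
  have hHJY : H ≤ normalizer ((J ⊔ Y : Subgroup G) : Set G) := by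
    rw [← hRP]
    refine sup_le ?_ (H72.le_normalizer_sup (hPH.trans hHJ) hPY)
    apply le_normalizer_of_commutator_le
    refine commutator_le.2 fun r hr z hz => ?_
    have hz' : z ∈ ((J ⊔ Y : Subgroup G) : Set G) := hz
    rw [coe_mul_of_right_le_normalizer_left _ _ (hYH'.trans hHJ)] at hz'
    obtain ⟨j, hj, y, hy, rfl⟩ := hz'
    have e : ⁅r, j * y⁆ = (r * j * r⁻¹) * ⁅r, y⁆ * j⁻¹ := by
      simp only [commutatorElement_def]; group
    rw [e]
    exact mem_sup_left (mul_mem (mul_mem ((mem_normalizer_iff.1 (hHJ (hRH hr)) j).1 hj)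
      (commutator_mem_commutator hr hy)) (inv_mem hj))
  have hJP : J ⊔ P = H :=
    hcont (J ⊔ P) (J ⊔ Y) le_sup_right (sup_le (hJR.trans hRH) hPH) le_sup_right
      (sup_le_sup_left hYP J) hHJY
  have hRJ : J = R := le_antisymm hJR
    (resid_le_of_sup (hPH.trans hHJ) hPp ((map_subtype_le _).trans hJP.ge))
  have hncl : R ⊔ Y = ⨆ h : ↥H, Y.map (MulAut.conj (h : G)).toMonoidHom := by
    refine le_antisymm ?_ (iSup_le fun h => ?_)
    · set W := ⨆ h : ↥H, Y.map (MulAut.conj (h : G)).toMonoidHom with hW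
      have hYW : Y ≤ W := (H50.map_conj_eq_iff.2 (one_mem _)).ge.trans
        (le_iSup (fun h : ↥H => Y.map (MulAut.conj (h : G)).toMonoidHom) 1)
      refine sup_le ?_ hYW
      rw [← hRJ, hJ, commutator_le]
      intro r hr y hy
      have h1 : r * y * r⁻¹ ∈ W :=
        le_iSup (fun h : ↥H => Y.map (MulAut.conj (h : G)).toMonoidHom) ⟨r, hRH hr⟩ ⟨y, hy, rfl⟩
      rw [commutatorElement_def]
      exact mul_mem h1 (inv_mem (hYW hy))
    · rw [← hRJ]
      exact (Subgroup.map_mono le_sup_right).trans (H50.map_conj_eq_iff.2 (hHJY h.2)).le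
  exact ⟨hwc, wc_le_normalizer_of_normalized hwc (H74.pCoreOf_isPGroup H)
    (hPH.trans (H74.le_normalizer_pCoreOf H)), hNPY, hRJ, hRP, hncl, hnc⟩

/-- Adjoining a `p`-group normalized by `H` gives a `p`-irreducible group. -/
theorem frakH_sup_isPIrreducible (hpar : IsOfParabolicCharacteristic p G) {M : Subgroup G}
    (hM : IsInFrakM p M) {T : Sylow p G} (hTM : (T : Subgroup G) ≤ M)
    (hasym : ¬ IsSymmetricIn (largestPReducedOf p M)) {H : Subgroup G} (hH : IsInFrakH p M H)
    {Q : Subgroup G} (hQp : IsPGroup p Q) (hHQ : H ≤ normalizer (Q : Set G)) :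
    Q ≤ pCoreOf p (H ⊔ Q) ∧ pCoreOf p (H ⊔ Q) ≤ normalizer (pCoreOf p M : Set G) ∧
      (H.subgroupOf (H ⊔ Q)).Normal ∧
      (pResidual p ↥H).map H.subtype = (pResidual p ↥(H ⊔ Q)).map (H ⊔ Q).subtype ∧
      IsPIrreducible p ↥(H ⊔ Q) := by
  obtain ⟨hwc, -, hNPY, hRY, hRP, hncl, hnc⟩ := frakH_structure hpar hM hTM hasym hH
  obtain ⟨-, hPH, hYH, hmin⟩ := hH
  set Y := largestPReducedOf p M
  set P := pCoreOf p M
  set R := (pResidual p ↥H).map H.subtype
  set K := H ⊔ Q
  set U := pCoreOf p K
  have hQU : Q ≤ U := H74.le_pCoreOf le_sup_right (sup_le hHQ le_normalizer) hQp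
  have hUP : U ≤ normalizer (P : Set G) :=
    wc_le_normalizer_of_normalized hwc (H74.pCoreOf_isPGroup K)
      ((hPH.trans le_sup_left).trans (H74.le_normalizer_pCoreOf K))
  have hQH : Q ≤ normalizer (H : Set G) := by
    set N := ⨆ h : ↥H, P.map (MulAut.conj (h : G)).toMonoidHom
    have hN : N = H := by
      refine hnc N ((H50.map_conj_eq_iff.2 (one_mem _)).ge.trans
        (le_iSup (fun h : ↥H => P.map (MulAut.conj (h : G)).toMonoidHom) 1)) ?_ ?_
      · exact iSup_le fun h =>
          (Subgroup.map_mono hPH).trans (H50.map_conj_eq_iff.2 (le_normalizer h.2)).le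
      · intro z hz
        refine H50.map_conj_eq_iff.1 (eq_of_le_of_card_ge ?_
          (Subgroup.card_map_of_injective (MulAut.conj z).injective).ge)
        rw [Subgroup.map_iSup]
        refine iSup_le fun h => ?_
        rw [H50.map_conj_map]
        exact le_iSup (fun h : ↥H => P.map (MulAut.conj (h : G)).toMonoidHom) (⟨z, hz⟩ * h)
    intro q hq
    refine H50.map_conj_eq_iff.1 (eq_of_le_of_card_ge ?_
      (Subgroup.card_map_of_injective (MulAut.conj q).injective).ge)
    conv_lhs => rw [← hN, Subgroup.map_iSup]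
    refine iSup_le fun h => ?_
    have h1 : (h : G)⁻¹ * q * h ∈ Q := by
      simpa using (mem_normalizer_iff.1 (hHQ (inv_mem h.2)) q).1 hq
    rw [H50.map_conj_map, show q * (h : G) = h * ((h : G)⁻¹ * q * h) by group, ← H50.map_conj_map,
      H50.map_conj_eq_iff.2 (hUP (hQU h1))]
    exact (le_iSup (fun h : ↥H => P.map (MulAut.conj (h : G)).toMonoidHom) h).trans hN.le
  have hKH : K ≤ normalizer (H : Set G) := sup_le le_normalizer hQH
  have hR' : R = (pResidual p ↥K).map K.subtype := by
    refine le_antisymm (resid_mono le_sup_left) ?_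
    have h1 : (pResidual p ↥K).map K.subtype ≤ H :=
      resid_le_of_sup hQH hQp (map_subtype_le _)
    exact resid_le_of_coprime fun x hx hc => mem_resid (h1 (mem_resid hx hc)) hc
  refine ⟨hQU, hUP, (normal_subgroupOf_iff_le_normalizer le_sup_left).2 hKH, hR', ?_, ?_⟩
  · intro hcl
    apply hYH
    set Ph := P.subgroupOf K
    have h1 : P ≤ U := by
      rw [← map_subgroupOf_eq_of_le (hPH.trans le_sup_left : P ≤ K)]
      exact Subgroup.map_mono (pClosed_iff_forall.1 hcl _ (H74.pCoreOf_isPGroup M).comap_subtype)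
    exact (reducedIn_le_pCoreOf (yl_reduced (charP_of_mem_charPSubgroups hM.1))).trans
      ((le_inf h1 hPH).trans (H74.le_pCoreOf inf_le_right
        (normalizer_inf_le (le_sup_left.trans (H74.le_normalizer_pCoreOf K)) le_normalizer)
        ((H74.pCoreOf_isPGroup K).to_le inf_le_left)))
  · intro N hN hNcl
    by_contra hne
    apply hNcl
    set N₁ := N.map K.subtype with hN₁
    have hKN₁ : K ≤ normalizer (N₁ : Set G) := by
      refine (normal_subgroupOf_iff_le_normalizer (map_subtype_le _)).1 ?_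
      rwa [show N₁.subgroupOf K = N from comap_map_eq_self_of_injective K.subtype_injective _]
    have hRN₁ : ¬ R ≤ N₁ := by
      intro h
      apply hne
      intro x hx
      obtain ⟨y, hy, e⟩ := h (hR'.ge ⟨x, hx, rfl⟩)
      rwa [show y = x from Subtype.ext e] at hy
    set W := (N₁ ⊔ U) ⊓ H with hW
    have hUN₁ : U ≤ normalizer (N₁ : Set G) := (H74.pCoreOf_le K).trans hKN₁
    have hKW : K ≤ normalizer (W : Set G) :=
      normalizer_inf_le (H72.le_normalizer_sup hKN₁ (H74.le_normalizer_pCoreOf K)) hKH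
    have hRW : ¬ R ≤ W := fun h =>
      hRN₁ (resid_le_of_sup hUN₁ (H74.pCoreOf_isPGroup K) (h.trans inf_le_left))
    have hPW : P ≤ normalizer (W : Set G) := (hPH.trans le_sup_left).trans hKW
    set X := W ⊔ P
    have hX : X < H := lt_of_le_of_ne (sup_le inf_le_right hPH) fun h =>
      hRW (resid_le_of_sup hPW (H74.pCoreOf_isPGroup M) ((map_subtype_le _).trans h.ge))
    have hWU : pCoreOf p W ≤ U := H74.le_pCoreOf
      ((H74.pCoreOf_le W).trans (inf_le_right.trans le_sup_left))
      (hKW.trans (normalizer_le_normalizer_pCoreOf W)) (H74.pCoreOf_isPGroup W)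
    have hYX : Y ≤ pCoreOf p X := hmin X le_sup_right hX
    have hYW : ⁅Y, W⁆ ≤ U := by
      refine le_trans ?_ hWU
      refine le_trans (le_inf ?_ ?_) (H74.le_pCoreOf (N := pCoreOf p X ⊓ W) inf_le_right
        (normalizer_inf_le (le_sup_left.trans (H74.le_normalizer_pCoreOf X)) le_normalizer)
        ((H74.pCoreOf_isPGroup X).to_le inf_le_left))
      · refine (commutator_mono hYX le_rfl).trans ?_
        rw [commutator_comm]
        exact commutator_le_of_le_normalizer (le_sup_left.trans (H74.le_normalizer_pCoreOf X))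
      · exact commutator_le_of_le_normalizer
          (((reducedIn_le_pCoreOf (yl_reduced (charP_of_mem_charPSubgroups hM.1))).trans hPH).trans
            (le_sup_left.trans hKW))
    have hRWU : ⁅R, W⁆ ≤ U := by
      refine (commutator_mono ((le_sup_left : R ≤ R ⊔ Y).trans hncl.le) le_rfl).trans ?_
      refine commutator_iSup_le ((hncl.ge.trans (sup_le ((map_subtype_le _).trans le_sup_left)
        ?_)).trans (H74.le_normalizer_pCoreOf K)) fun h => ?_
      · exact (reducedIn_le_pCoreOf (yl_reduced (charP_of_mem_charPSubgroups hM.1))).trans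
          (hPH.trans le_sup_left)
      · have h1 := Subgroup.map_mono (f := (MulAut.conj (h : G)).toMonoidHom) hYW
        rw [Subgroup.map_commutator, H50.map_conj_eq_iff.2 (hKW (le_sup_left (b := Q) h.2)),
          H50.map_conj_eq_iff.2 (H74.le_normalizer_pCoreOf K (le_sup_left (b := Q) h.2))] at h1
        exact h1
    -- every `p`-subgroup of `W` lies in `U`
    have hWp : ∀ Z : Subgroup G, Z ≤ W → IsPGroup p Z → Z ≤ U := by
      intro Z hZW hZ
      obtain ⟨S, hS⟩ := (hZ.comap_subtype : IsPGroup p (Z.subgroupOf W)).exists_le_sylow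
      set S₁ := (S : Subgroup W).map W.subtype ⊔ (U ⊓ W) with hS₁
      have hSW : (S : Subgroup W).map W.subtype ≤ W := map_subtype_le _
      have hWn : W ≤ normalizer ((U ⊓ W : Subgroup G) : Set G) :=
        normalizer_inf_le ((inf_le_right.trans le_sup_left).trans (H74.le_normalizer_pCoreOf K))
          le_normalizer
      have hJ : (pResidual p ↥W).map W.subtype ≤ normalizer (S₁ : Set G) := by
        refine resid_le_of_coprime fun x hx hc => ?_
        have hxR : x ∈ R := mem_resid (hx : x ∈ W).2 hc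
        refine H50.map_conj_eq_iff.1 (eq_of_le_of_card_ge ?_
          (Subgroup.card_map_of_injective (MulAut.conj x).injective).ge)
        rw [hS₁, Subgroup.map_sup, H50.map_conj_eq_iff.2 (hWn hx)]
        refine sup_le ?_ le_sup_right
        rintro _ ⟨s, hs, rfl⟩
        have e : (MulAut.conj x).toMonoidHom s = ⁅x, s⁆ * s := by simp [commutatorElement_def]
        rw [e]
        refine mul_mem (mem_sup_right (Subgroup.mem_inf.2
          ⟨hRWU (commutator_mem_commutator hxR (hSW hs)), ?_⟩)) (mem_sup_left hs)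
        rw [commutatorElement_def]
        exact W.mul_mem (W.mul_mem (W.mul_mem hx (hSW hs)) (W.inv_mem hx)) (W.inv_mem (hSW hs))
      have hS₁p : IsPGroup p S₁ := by
        rw [hS₁, sup_comm]
        exact IsPGroup.to_sup_of_normal_left' ((H74.pCoreOf_isPGroup K).to_le inf_le_left)
          (S.2.map _) (hSW.trans hWn)
      have hgen : W ≤ normalizer (S₁ : Set G) := by
        calc W = (⊤ : Subgroup W).map W.subtype := by rw [← MonoidHom.range_eq_map, range_subtype]
          _ ≤ _ := by
            rw [← H22.pResidual_sup_sylow S, Subgroup.map_sup]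
            exact sup_le hJ (le_sup_left.trans le_normalizer)
      have h2 : S₁ ≤ pCoreOf p W := H74.le_pCoreOf (sup_le hSW inf_le_right) hgen hS₁p
      refine le_trans ?_ (h2.trans hWU)
      exact fun z hz => mem_sup_left ⟨⟨z, hZW hz⟩, hS hz, rfl⟩
    rw [pClosed_subgroup_iff]
    intro Z hZN hZ
    have hN₁p : (pCoreOf p N).map K.subtype = pCoreOf p N₁ := by
      rw [hN₁, pCoreOf, pCoreOf, Subgroup.map_map, ← H74.pCore_map_mulEquiv
        (equivMapOfInjective N K.subtype K.subtype_injective), Subgroup.map_map]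
      congr 1
    set Z₁ := Z.map K.subtype
    have hZ₁U : Z₁ ≤ U := by
      set Z₂ := (Z₁ ⊔ U) ⊓ H
      have hZK : Z₁ ≤ K := map_subtype_le _
      have hZp : IsPGroup p ↥(Z₁ ⊔ U) := by
        rw [sup_comm]
        exact IsPGroup.to_sup_of_normal_left' (H74.pCoreOf_isPGroup K) (hZ.map _)
          (hZK.trans (H74.le_normalizer_pCoreOf K))
      have h3 : Z₂ ≤ U := hWp Z₂ (inf_le_inf_right H (sup_le_sup_right (Subgroup.map_mono hZN) U))
        (hZp.to_le inf_le_left)
      intro z hz
      have hz' : z ∈ ((H ⊔ Q : Subgroup G) : Set G) := hZK hz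
      rw [coe_mul_of_right_le_normalizer_left _ _ hQH] at hz'
      obtain ⟨h, hh, q, hq, rfl⟩ := hz'
      have hhZ : h ∈ Z₁ ⊔ U := by
        simpa using mul_mem (mem_sup_left (T := U) hz) (inv_mem (mem_sup_right (S := Z₁) (hQU hq)))
      exact mul_mem (h3 (Subgroup.mem_inf.2 ⟨hhZ, hh⟩)) (hQU hq)
    have h4 : Z₁ ≤ (pCoreOf p N).map K.subtype := by
      rw [hN₁p]
      refine le_trans (le_inf hZ₁U (Subgroup.map_mono hZN)) ?_
      exact H74.le_pCoreOf inf_le_right
        (normalizer_inf_le ((map_subtype_le _).trans (H74.le_normalizer_pCoreOf K)) le_normalizer)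
        ((H74.pCoreOf_isPGroup K).to_le inf_le_left)
    exact (map_le_map_iff_of_injective K.subtype_injective).1 h4

end Cfsg.Agent.H73
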