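import Cfsg.Agent.H73.PClosed
import Cfsg.Agent.H73.StronglyEmbedded
import Cfsg.Agent.H24.PGroupBasic

/-!
`Y`-minimal groups: the unique maximal subgroup over `Y` and its normal subgroups.
-/

set_option autoImplicit false

namespace Cfsg.Agent.H73

open Subgroup

variable {L : Type*} [Group L] {p : ℕ} {L₀ Y : Subgroup L}

/-- A proper subgroup containing `Y` lies in the maximal subgroup over `Y`. -/
theorem le_of_minimalOver [Finite L] (hmin : IsMinimalOver Y) (hL₀ : IsCoatom L₀) (hY : Y ≤ L₀)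
    {X : Subgroup L} (hX : Y ≤ X) (hne : X ≠ ⊤) : X ≤ L₀ := by
  obtain ⟨M, hM, huniq⟩ := hmin.2
  obtain ⟨M', hM', hle⟩ := (eq_top_or_exists_le_coatom X).resolve_left hne
  rw [huniq L₀ ⟨hL₀, hY⟩, ← huniq M' ⟨hM', hX.trans hle⟩]
  exact hle

/-- The maximal subgroup over `Y` is self-normalizing. -/
theorem normalizer_eq_of_minimalOver (hmin : IsMinimalOver Y) (hL₀ : IsCoatom L₀) (hY : Y ≤ L₀) :
    normalizer (L₀ : Set L) = L₀ := by
  refine (hL₀.le_iff.1 le_normalizer).resolve_left fun h => ?_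
  have : L₀.Normal := normalizer_eq_top_iff.1 h
  exact hL₀.1 (top_le_iff.1 (hmin.1 ▸ normalClosure_le_normal (SetLike.coe_subset_coe.2 hY)))

/-- `Y` and a conjugate outside the maximal subgroup generate. -/
theorem sup_conj_eq_top_of_minimalOver [Finite L] (hmin : IsMinimalOver Y) (hL₀ : IsCoatom L₀)
    (hY : Y ≤ L₀) {g : L} (hg : g ∉ L₀) : Y ⊔ Y.map (MulAut.conj g).toMonoidHom = ⊤ := by
  by_contra h
  have hle := le_of_minimalOver hmin hL₀ hY le_sup_left h
  apply hg
  rw [← normalizer_eq_of_minimalOver hmin hL₀ hY]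
  have hco : IsCoatom (L₀.map (MulAut.conj g⁻¹).toMonoidHom) :=
    ((MulAut.conj g⁻¹).mapSubgroup.isCoatom_iff L₀).2 hL₀
  have hY' : Y ≤ L₀.map (MulAut.conj g⁻¹).toMonoidHom := fun y hy =>
    ⟨g * y * g⁻¹, hle (mem_sup_right ⟨y, hy, rfl⟩), by simp [mul_assoc]⟩
  obtain ⟨M, hM, huniq⟩ := hmin.2
  have := (huniq _ ⟨hco, hY'⟩).trans (huniq L₀ ⟨hL₀, hY⟩).symm
  exact inv_mem_iff.1 (mem_normalizer_iff_map_conj_eq.2 this)

/-- A subgroup centralized by `Y` and by a conjugate outside `L₀` is central. -/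
theorem mem_center_of_minimalOver [Finite L] (hmin : IsMinimalOver Y) (hL₀ : IsCoatom L₀) (hY : Y ≤ L₀)
    {g : L} (hg : g ∉ L₀) {x : L} (h1 : ∀ y ∈ Y, y * x = x * y)
    (h2 : ∀ y ∈ Y.map (MulAut.conj g).toMonoidHom, y * x = x * y) : x ∈ center L := by
  refine mem_center_iff.2 fun z => ?_
  have : (⊤ : Subgroup L) ≤ centralizer ({x} : Set L) := by
    rw [← sup_conj_eq_top_of_minimalOver hmin hL₀ hY hg]
    exact sup_le (fun y hy => mem_centralizer_singleton_iff.2 (h1 y hy))
      (fun y hy => mem_centralizer_singleton_iff.2 (h2 y hy))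
  exact mem_centralizer_singleton_iff.1 (this (mem_top z))

/-- For abelian `Y`, `Y ∩ Y^g = Y ∩ Z(L)` off `L₀`. -/
theorem inf_conj_eq_inf_center [Finite L] (hmin : IsMinimalOver Y) (hL₀ : IsCoatom L₀) (hY : Y ≤ L₀)
    (hab : IsMulCommutative Y) {g : L} (hg : g ∉ L₀) :
    Y ⊓ Y.map (MulAut.conj g).toMonoidHom = Y ⊓ center L := by
  apply le_antisymm
  · rintro x ⟨hx, hx'⟩
    refine ⟨hx, mem_center_of_minimalOver hmin hL₀ hY hg
      (fun y hy => congrArg Subtype.val (hab.is_comm.comm ⟨y, hy⟩ ⟨x, hx⟩)) ?_⟩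
    rintro _ ⟨y, hy, rfl⟩
    obtain ⟨x', hx'', rfl⟩ := hx'
    rw [← map_mul, ← map_mul]
    exact congrArg _ (congrArg Subtype.val (hab.is_comm.comm ⟨y, hy⟩ ⟨x', hx''⟩))
  · rintro x ⟨hx, hxc⟩
    exact ⟨hx, x, hx, by simp [(mem_center_iff.1 hxc g)]⟩

/-- If `M N = L` with `N` normal, then `|L : M|` divides `|N|`. -/
theorem index_dvd_card_of_sup [Finite L] {M N : Subgroup L} [N.Normal] (h : M ⊔ N = ⊤) :
    M.index ∣ Nat.card N := by
  refine ⟨(N.subgroupOf M).map M.subtype |> fun K : Subgroup L => Nat.card K, ?_⟩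
  have h1 : N.index = N.relIndex M := by rw [← relIndex_sup_right, h, relIndex_top_right]
  have h2 := M.card_mul_index
  have h3 := N.card_mul_index
  have h4 := (N.subgroupOf M).card_mul_index
  change _ * N.relIndex M = _ at h4
  rw [h1] at h3
  dsimp only
  rw [card_map_of_injective M.subtype_injective]
  refine Nat.eq_of_mul_eq_mul_right (m := N.relIndex M) (Nat.pos_of_ne_zero ?_) ?_
  · exact Subgroup.FiniteIndex.index_ne_zero
  · rw [h3, mul_assoc, h4, mul_comm]
    exact h2.symm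

variable [Finite L] [Fact p.Prime]

/-- The normalizer of a Sylow subgroup of `L₀` over `Y` lies in `L₀`. -/
theorem normalizer_sylow_le (hmin : IsMinimalOver Y) (hL₀ : IsCoatom L₀) (T : Sylow p L₀)
    (hYT : Y ≤ (T : Subgroup L₀).map L₀.subtype) :
    normalizer (((T : Subgroup L₀).map L₀.subtype : Subgroup L) : Set L) ≤ L₀ := by
  refine le_of_minimalOver hmin hL₀ (hYT.trans (map_subtype_le _)) (hYT.trans le_normalizer) fun h => ?_
  have : ((T : Subgroup L₀).map L₀.subtype).Normal := normalizer_eq_top_iff.1 h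
  exact hL₀.1 (top_le_iff.1 (hmin.1 ▸ (normalClosure_le_normal (SetLike.coe_subset_coe.2 hYT)).trans
    (map_subtype_le _)))

/-- A Sylow subgroup of `L₀` over `Y` is a Sylow subgroup of `L`. -/
theorem exists_sylow_eq (hmin : IsMinimalOver Y) (hL₀ : IsCoatom L₀) (T : Sylow p L₀)
    (hYT : Y ≤ (T : Subgroup L₀).map L₀.subtype) :
    ∃ P : Sylow p L, (P : Subgroup L) = (T : Subgroup L₀).map L₀.subtype := by
  obtain ⟨P, hP⟩ := (T.2.map L₀.subtype).exists_le_sylow
  exact ⟨P, sylow_eq_of_normalizer_le T (normalizer_sylow_le hmin hL₀ T hYT) hP⟩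

/-- Normal subgroups below `L₀` meet Sylow subgroups in `O_p`. -/
theorem sylow_inf_le_pCore (hmin : IsMinimalOver Y) (hL₀ : IsCoatom L₀) {P : Sylow p L}
    (hYP : Y ≤ (P : Subgroup L)) (hPL : (P : Subgroup L) ≤ L₀) (N : Subgroup L) [N.Normal] (hN : N ≤ L₀) :
    (P : Subgroup L) ⊓ N ≤ pCore p L := by
  refine H19.le_pCore (normalizer_eq_top_iff.1 ?_) (P.2.to_le inf_le_left)
  by_contra h
  have hPn : (P : Subgroup L) ≤ normalizer (((P : Subgroup L) ⊓ N : Subgroup L) : Set L) :=
    le_trans (le_inf le_normalizer le_normalizer_of_normal) inf_normalizer_le_normalizer_inf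
  have h1 := le_of_minimalOver hmin hL₀ (hYP.trans hPL) (hYP.trans hPn) h
  have hP : IsPGroup p (((P : Subgroup L) ⊓ N).subgroupOf N) :=
    (P.2.to_le inf_le_left).comap_of_injective _ N.subtype_injective
  have hidx : ¬ p ∣ (((P : Subgroup L) ⊓ N).subgroupOf N).index := by
    rw [← relIndex, inf_relIndex_right]
    exact H22.sylow_not_dvd_relIndex_normal P N
  have hfr := Sylow.normalizer_sup_eq_top (hP.toSylow hidx)
  have e : ((hP.toSylow hidx : Sylow p N) : Subgroup N).map N.subtype = (P : Subgroup L) ⊓ N :=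
    map_subgroupOf_eq_of_le inf_le_right
  rw [e] at hfr
  exact hL₀.1 (top_le_iff.1 (hfr ▸ sup_le h1 hN))

/-- With `O_p(L) = 1`, normal subgroups below `L₀` are nilpotent of order prime to `p`. -/
theorem nilpotent_coprime_of_minimalOver (hmin : IsMinimalOver Y) (hL₀ : IsCoatom L₀) {P : Sylow p L}
    (hYP : Y ≤ (P : Subgroup L)) (hPL : (P : Subgroup L) ≤ L₀) (hcore : pCore p L = ⊥)
    (N : Subgroup L) [N.Normal] (hN : N ≤ L₀) :
    ¬ p ∣ Nat.card N ∧ Group.IsNilpotent N := by
  have hdvd : ¬ p ∣ Nat.card N := H22.not_dvd_card_of_sylow_inf_eq_bot P N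
    (le_bot_iff.1 (hcore ▸ sylow_inf_le_pCore hmin hL₀ hYP hPL N hN))
  refine ⟨hdvd, (Group.isNilpotent_of_finite_tfae.out 3 0 rfl rfl).1 fun q hq Q => ?_⟩
  set Q' := (Q : Subgroup N).map N.subtype with hQ'
  have hfr : normalizer (Q' : Set L) ⊔ N = ⊤ := Sylow.normalizer_sup_eq_top Q
  have hidx : ¬ p ∣ (normalizer (Q' : Set L)).index := by
    intro h
    apply hdvd
    refine h.trans ?_
    exact index_dvd_card_of_sup hfr
  obtain ⟨R⟩ := (inferInstance : Nonempty (Sylow p (normalizer (Q' : Set L))))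
  obtain ⟨P₁, hP₁⟩ := (R.2.map (normalizer (Q' : Set L)).subtype).exists_le_sylow
  obtain ⟨g, hg⟩ := MulAction.exists_smul_eq L P₁ P
  have hP₁le : (P₁ : Subgroup L) = (R : Subgroup _).map (normalizer (Q' : Set L)).subtype := by
    refine (Subgroup.eq_of_le_of_card_ge hP₁ (le_of_eq ?_)).symm
    rw [card_map_of_injective (subtype_injective _), P₁.card_eq_multiplicity, R.card_eq_multiplicity]
    congr 1
    rw [← (normalizer (Q' : Set L)).card_mul_index, Nat.factorization_mul Nat.card_pos.ne'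
      (Subgroup.FiniteIndex.index_ne_zero), Finsupp.add_apply, Nat.factorization_eq_zero_of_not_dvd hidx, add_zero]
  have hPN : (P : Subgroup L) ≤ normalizer ((Q'.map (MulAut.conj g).toMonoidHom : Subgroup L) : Set L) := by
    rw [← hg]
    rintro _ ⟨x, hx, rfl⟩
    rw [mem_normalizer_conj_iff]
    have hx' : x ∈ normalizer (Q' : Set L) := by
      obtain ⟨y, -, rfl⟩ := hP₁le ▸ hx
      exact y.2
    simpa [mul_assoc] using hx'
  have hQ'n : (Q'.map (MulAut.conj g).toMonoidHom).Normal := by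
    rw [← normalizer_eq_top_iff]
    by_contra h
    have h1 := le_of_minimalOver hmin hL₀ (hYP.trans hPL) (hYP.trans hPN) h
    refine hL₀.1 (top_le_iff.1 fun x _ => ?_)
    have hsup : normalizer ((Q'.map (MulAut.conj g).toMonoidHom : Subgroup L) : Set L) ⊔ N = ⊤ := by
      have h2 : (normalizer (Q' : Set L)).map (MulAut.conj g).toMonoidHom =
          normalizer ((Q'.map (MulAut.conj g).toMonoidHom : Subgroup L) : Set L) := by
        ext z
        rw [mem_normalizer_conj_iff, mem_map_equiv, MulAut.conj_symm_apply]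
      have h3 := congrArg (Subgroup.map (MulAut.conj g).toMonoidHom) hfr
      rw [Subgroup.map_sup, h2, Subgroup.map_top_of_surjective _ (MulAut.conj g).surjective,
        show N.map (MulAut.conj g).toMonoidHom = N from
          mem_normalizer_iff_map_conj_eq.1 (le_normalizer_of_normal (K := ⊤) (mem_top g))] at h3
      exact h3
    exact sup_le h1 hN (hsup.symm ▸ mem_top x)
  have hQn : Q'.Normal := by
    have h4 := hQ'n.map (MulAut.conj g⁻¹).toMonoidHom (MulAut.conj g⁻¹).surjective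
    rw [Subgroup.map_map] at h4
    have e : (MulAut.conj g⁻¹).toMonoidHom.comp (MulAut.conj g).toMonoidHom = MonoidHom.id L := by
      ext z; simp [mul_assoc]
    rwa [e, Subgroup.map_id] at h4
  have h5 : Q'.subgroupOf N = (Q : Subgroup N) := comap_map_eq_self_of_injective N.subtype_injective _
  rw [← h5]
  exact hQn.subgroupOf N

/-- Minimality passes to quotients by normal subgroups below `L₀`. -/
theorem minimalOver_map {K : Type*} [Group K] (f : L →* K) (hf : Function.Surjective f)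
    (hmin : IsMinimalOver Y) (hL₀ : IsCoatom L₀) (hY : Y ≤ L₀) (hker : f.ker ≤ L₀) :
    IsMinimalOver (Y.map f) ∧ IsCoatom (L₀.map f) := by
  have hco : IsCoatom (L₀.map f) := by
    refine ⟨fun h => hL₀.1 (by rw [← comap_map_eq_self hker, h, comap_top]), fun X hX => ?_⟩
    have h1 : L₀ < X.comap f := by
      rw [← comap_map_eq_self hker]; exact (comap_lt_comap_of_surjective hf).2 hX
    rw [← map_comap_eq_self_of_surjective hf X, hL₀.2 _ h1, map_top_of_surjective f hf]
  refine ⟨⟨?_, L₀.map f, ⟨hco, map_mono hY⟩, ?_⟩, hco⟩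
  · refine top_le_iff.1 ?_
    rw [← map_top_of_surjective f hf, ← hmin.1, map_le_iff_le_comap]
    have : (normalClosure ((Y.map f : Subgroup K) : Set K)).Normal := inferInstance
    exact normalClosure_le_normal fun x hx => subset_normalClosure ⟨x, hx, rfl⟩
  · rintro X ⟨hX, hYX⟩
    have h1 : X.comap f ≠ ⊤ := fun h => hX.1 (by
      rw [← map_comap_eq_self_of_surjective hf X, h, map_top_of_surjective f hf])
    have h2 := le_of_minimalOver hmin hL₀ hY (map_le_iff_le_comap.1 hYX) h1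
    have h3 : X ≤ L₀.map f := by
      rw [← map_comap_eq_self_of_surjective hf X]; exact map_mono h2
    exact ((hX.le_iff.1 h3).resolve_left hco.1).symm

/-- A normal subgroup below `L₀` lies in the Frattini subgroup when `O_p(L) = 1`. -/
theorem le_frattini_of_minimalOver (hmin : IsMinimalOver Y) (hL₀ : IsCoatom L₀) {P : Sylow p L}
    (hYP : Y ≤ (P : Subgroup L)) (hPL : (P : Subgroup L) ≤ L₀) (hcore : pCore p L = ⊥)
    (N : Subgroup L) [N.Normal] (hN : N ≤ L₀) : N ≤ frattini L := by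
  simp only [frattini, Order.radical, le_iInf_iff]
  intro M hM
  by_contra hNM
  have hsup : M ⊔ N = ⊤ := hM.2 _ (lt_of_le_not_ge le_sup_left fun h => hNM (le_sup_right.trans h))
  have hdvd := (nilpotent_coprime_of_minimalOver hmin hL₀ hYP hPL hcore N hN).1
  have hidx : ¬ p ∣ M.index := fun h => hdvd (h.trans (index_dvd_card_of_sup hsup))
  obtain ⟨R⟩ := (inferInstance : Nonempty (Sylow p M))
  obtain ⟨P₁, hP₁⟩ := (R.2.map M.subtype).exists_le_sylow
  have hP₁M : (P₁ : Subgroup L) ≤ M := by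
    rw [← Subgroup.eq_of_le_of_card_ge hP₁ (le_of_eq ?_)]
    · exact map_subtype_le _
    rw [card_map_of_injective M.subtype_injective, P₁.card_eq_multiplicity, R.card_eq_multiplicity]
    congr 1
    rw [← M.card_mul_index, Nat.factorization_mul Nat.card_pos.ne'
      (Subgroup.FiniteIndex.index_ne_zero), Finsupp.add_apply, Nat.factorization_eq_zero_of_not_dvd hidx, add_zero]
  obtain ⟨g, hg⟩ := MulAction.exists_smul_eq L P₁ P
  have hco : IsCoatom (M.map (MulAut.conj g).toMonoidHom) :=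
    ((MulAut.conj g).mapSubgroup.isCoatom_iff M).2 hM
  have hPM : (P : Subgroup L) ≤ M.map (MulAut.conj g).toMonoidHom := by
    rw [← hg]
    rintro _ ⟨x, hx, rfl⟩
    exact ⟨x, hP₁M hx, rfl⟩
  obtain ⟨M₀, hM₀, huniq⟩ := hmin.2
  have heq := (huniq _ ⟨hco, hYP.trans hPM⟩).trans (huniq L₀ ⟨hL₀, hYP.trans hPL⟩).symm
  refine hNM fun n hn => ?_
  have h1 : g * n * g⁻¹ ∈ M.map (MulAut.conj g).toMonoidHom :=
    heq.ge (hN (Subgroup.Normal.conj_mem inferInstance n hn g))
  obtain ⟨m, hm, hmn⟩ := h1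
  have : m = n := (MulAut.conj g).injective (by simpa using hmn)
  exact this ▸ hm

end Cfsg.Agent.H73
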