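import Cfsg.Agent.H73.NormalElemUnique
import Cfsg.Agent.H73.BasicProperty
import Cfsg.Agent.H73.YMinimal

/-!
Members of `𝔏_G(Y_M)`: the coatom over `Y`, and the image of `Y` in `L / O_p(L)`.
-/

set_option autoImplicit false

namespace Cfsg.Agent.H73

open Subgroup
open scoped Pointwise

variable {G : Type*} [Group G] {p : ℕ} {M L : Subgroup G}

theorem isElementaryAbelian_subgroupOf {V : Subgroup G} (hV : IsElementaryAbelian p V) (K : Subgroup G) :
    IsElementaryAbelian p (V.subgroupOf K) := by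
  obtain ⟨hc, hp⟩ := hV
  refine ⟨⟨⟨fun a b => ?_⟩⟩, fun a ha => Subtype.ext (by simpa using hp _ ha)⟩
  apply Subtype.ext
  apply Subtype.ext
  show (a.1 : G) * b.1 = b.1 * a.1
  exact congrArg Subtype.val (hc.is_comm.comm ⟨(a.1 : G), a.2⟩ ⟨(b.1 : G), b.2⟩)

/-- `Y_M` inside a member of `𝔏_G(Y_M)`. -/
abbrev frakLY (p : ℕ) (M L : Subgroup G) : Subgroup ↥L := (largestPReducedOf p M).subgroupOf L

/-- The image of `Y_M` in `L / O_p(L)`. -/
def frakLBar [(pCore p ↥L).Normal] (p' : ℕ) (M' : Subgroup G) : Subgroup (↥L ⧸ pCore p ↥L) :=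
  (frakLY p' M' L).map (QuotientGroup.mk' (pCore p ↥L))

theorem pCoreOf_subgroupOf : (pCoreOf p L).subgroupOf L = pCore p ↥L :=
  comap_map_eq_self_of_injective L.subtype_injective _

theorem frakL_normalizer_eq (hL : IsInFrakL p M L) :
    normalizer (frakLY p M L : Set ↥L) =
      (L ⊓ normalizer (largestPReducedOf p M : Set G)).subgroupOf L := by
  rw [inf_subgroupOf_left]
  exact (subgroupOf_normalizer_eq hL.1).symm

theorem frakL_coatom (hL : IsInFrakL p M L) : IsCoatom (normalizer (frakLY p M L : Set ↥L)) := by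
  obtain ⟨hYL, -, -, -, -, ⟨hlt, hmax⟩, -⟩ := hL
  have hN : normalizer (frakLY p M L : Set ↥L) =
      (normalizer (largestPReducedOf p M : Set G)).subgroupOf L :=
    (subgroupOf_normalizer_eq hYL).symm
  rw [hN]
  refine ⟨fun h => hlt.not_ge (le_inf le_rfl fun x hx => ?_), fun X hX => ?_⟩
  · have : (⟨x, hx⟩ : ↥L) ∈ (normalizer (largestPReducedOf p M : Set G)).subgroupOf L := h ▸ mem_top _
    exact this
  · by_contra hne
    have h1 : X.map L.subtype < L := by
      refine lt_of_le_of_ne (map_subtype_le X) fun h => hne ?_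
      refine map_injective L.subtype_injective (h.trans ?_)
      rw [← MonoidHom.range_eq_map, range_subtype]
    have h2 := hmax (X.map L.subtype) (fun y hy => ⟨⟨y, hYL hy⟩, hX.le ?_, rfl⟩) h1
    · refine hX.not_ge fun x hx => ?_
      exact (h2 ⟨x, hx, rfl⟩).2
    · exact Subgroup.le_normalizer (H := largestPReducedOf p M) hy

theorem frakL_ne_top (hL : IsInFrakL p M L) : pCore p ↥L ≠ ⊤ := by
  intro h
  have h1 : ((⊤ : Subgroup ↥L)).map L.subtype ≤ normalizer (largestPReducedOf p M : Set G) :=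
    h ▸ hL.2.2.1
  rw [← MonoidHom.range_eq_map, range_subtype] at h1
  exact hL.2.2.2.2.2.1.1.not_ge (le_inf le_rfl h1)

theorem frakL_not_le (hL : IsInFrakL p M L) : ¬ frakLY p M L ≤ pCore p ↥L := by
  intro h
  haveI := H19.pCore_normal p ↥L
  exact frakL_ne_top hL (top_le_iff.1 (hL.2.2.2.1.1 ▸ normalClosure_le_normal (SetLike.coe_subset_coe.2 h)))

theorem card_frakLBar [(pCore p ↥L).Normal] (hL : IsInFrakL p M L) :
    Nat.card (frakLBar (L := L) (p := p) p M) =
      (largestPReducedOf p M ⊓ pCoreOf p L).relIndex (largestPReducedOf p M) := by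
  rw [frakLBar, ← relIndex_ker, QuotientGroup.ker_mk', ← pCoreOf_subgroupOf,
    relIndex_subgroupOf hL.1, inf_relIndex_left]

theorem frakLBar_ne_bot [(pCore p ↥L).Normal] (hL : IsInFrakL p M L) :
    frakLBar (L := L) (p := p) p M ≠ ⊥ := by
  rw [Ne, frakLBar, Subgroup.map_eq_bot_iff, QuotientGroup.ker_mk']
  exact frakL_not_le hL

theorem normalizer_frakLBar [Finite G] [(pCore p ↥L).Normal] (hL : IsInFrakL p M L) :
    normalizer (frakLBar (L := L) (p := p) p M : Set (↥L ⧸ pCore p ↥L)) =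
      (normalizer (frakLY p M L : Set ↥L)).map (QuotientGroup.mk' (pCore p ↥L)) := by
  refine le_antisymm ?_ (le_normalizer_map _)
  intro x hx
  obtain ⟨z, rfl⟩ := QuotientGroup.mk'_surjective _ x
  set π := QuotientGroup.mk' (pCore p ↥L)
  set P := (normalizer (frakLBar (L := L) (p := p) p M : Set (↥L ⧸ pCore p ↥L))).comap π with hP
  have hco := frakL_coatom hL
  have hYP : frakLY p M L ≤ P := map_le_iff_le_comap.1 Subgroup.le_normalizer
  rcases eq_or_ne P ⊤ with htop | hne
  · exfalso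
    have hn : (frakLBar (L := L) (p := p) p M).Normal := by
      refine normalizer_eq_top_iff.1 (top_le_iff.1 fun w _ => ?_)
      obtain ⟨u, rfl⟩ := QuotientGroup.mk'_surjective _ w
      have : u ∈ P := htop ▸ mem_top u
      exact this
    have hn' := hn.comap π
    have htop' : (frakLBar (L := L) (p := p) p M).comap π = ⊤ := by
      rw [← top_le_iff, ← hL.2.2.2.1.1]
      exact normalClosure_le_normal (SetLike.coe_subset_coe.2 (le_comap_map _ _))
    rw [frakLBar, comap_map_eq, QuotientGroup.ker_mk'] at htop'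
    refine hco.1 (top_le_iff.1 (htop' ▸ sup_le Subgroup.le_normalizer ?_))
    rw [frakL_normalizer_eq hL]
    intro a ha
    refine ⟨a.2, hL.2.2.1 ⟨a, ha, rfl⟩⟩
  · exact ⟨z, le_of_minimalOver hL.2.2.2.1 hco Subgroup.le_normalizer hYP hne hx, rfl⟩

theorem frakLBar_sup_conj [Finite G] [(pCore p ↥L).Normal] (hL : IsInFrakL p M L) :
    ∃ g : ↥L ⧸ pCore p ↥L, frakLBar (L := L) (p := p) p M ⊔
      (frakLBar (L := L) (p := p) p M).map (MulAut.conj g).toMonoidHom = ⊤ := by
  have hco := frakL_coatom hL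
  obtain ⟨g, -, hg⟩ := SetLike.exists_of_lt hco.1.lt_top
  refine ⟨QuotientGroup.mk' _ g, top_le_iff.1 ?_⟩
  rw [← map_top_of_surjective _ (QuotientGroup.mk'_surjective (pCore p ↥L)),
    ← sup_conj_eq_top_of_minimalOver hL.2.2.2.1 hco Subgroup.le_normalizer hg, Subgroup.map_sup, frakLBar,
    map_map, map_map]
  refine sup_le le_sup_left (le_sup_of_le_right (le_of_eq ?_))
  congr 1

theorem normalElemUnique_frakLBar [Finite G] [Fact p.Prime] [(pCore p ↥L).Normal]
    (hel : IsElementaryAbelian p (largestPReducedOf p M)) (hL : IsInFrakL p M L) :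
    NormalElemUnique p (frakLBar (L := L) (p := p) p M) := by
  set Yb := frakLBar (L := L) (p := p) p M with hYb
  have hYe : IsElementaryAbelian p Yb := by
    exact isElementaryAbelian_map (isElementaryAbelian_subgroupOf hel L) _
  have hcard := card_frakLBar hL
  have hne := frakLBar_ne_bot hL
  obtain ⟨g, hg⟩ := frakLBar_sup_conj hL
  rcases hL.2.2.2.2.2.2 with ⟨F, _, _, hF, ⟨e⟩⟩ | ⟨hp2, F, _, _, m, hFc, hF, ⟨e⟩⟩ |
      ⟨hp2, r, hr, hr2, ⟨e⟩⟩
  · refine NormalElemUnique.of_equiv e (normalElemUnique_sl2 (isElementaryAbelian_map hYe _) ?_)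
    rw [card_map_of_injective e.injective, hcard, hF]
  · subst hp2
    rcases Nat.eq_zero_or_pos m with rfl | hm
    · exact normalElemUnique_two_conj (by rw [hcard, ← hF, hFc]; norm_num) hg
    · have H := H7.SzHyp.of_fintype hm hFc
      let e' := e.trans H.lieEquiv.symm
      refine NormalElemUnique.of_equiv e' (normalElemUnique_sz H (isElementaryAbelian_map hYe _) ?_)
      rw [card_map_of_injective e'.injective, hcard, ← hF, hFc]
  · subst hp2
    refine normalElemUnique_two_conj ?_ hg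
    obtain ⟨k, hk⟩ := (isPGroup_of_elementaryAbelian hYe).exists_card_eq
    have hd : Nat.card Yb ∣ 2 * r :=
      DihedralGroup.nat_card (n := r) ▸ Nat.card_congr e.toEquiv ▸ card_subgroup_dvd_card Yb
    have h1 : 1 < Nat.card Yb := one_lt_card_iff_ne_bot _ |>.2 hne
    rw [hk] at hd h1 ⊢
    rcases k with _ | _ | k
    · simp at h1
    · rfl
    · exfalso
      have h4 : 2 * 2 ∣ 2 * r := (Dvd.intro (2 ^ k) (by ring)).trans hd
      have := Nat.dvd_of_mul_dvd_mul_left two_pos h4
      exact hr2 ((Nat.prime_dvd_prime_iff_eq Nat.prime_two hr).1 this).symm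

end Cfsg.Agent.H73
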