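import Cfsg.Agent.H73.RootProduct
import Cfsg.Agent.H73.FrakL
import Cfsg.Agent.S2837

/-!
Fixed points on `O_p(L) / C_Y(L)` of root products.
-/

set_option autoImplicit false

namespace Cfsg.Agent.H73

open Subgroup
open scoped Pointwise commutatorElement

/-- The configuration `(A, Y, Z)` inside a group with a `Y`-minimal structure. -/
structure RootAction {K : Type*} [Group K] (A Y Z : Subgroup K) : Prop where
  normal : A.Normal
  abel : IsMulCommutative Y
  le_normalizer : A ≤ normalizer (Y : Set K)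
  coatom : IsCoatom (normalizer (Y : Set K))
  minimal : IsMinimalOver Y
  closure_eq : A = normalClosure ((A ⊓ Y : Subgroup K) : Set K)
  z_eq : Z = Y ⊓ center K
  z_le : Z ≤ A
  inf_center : A ⊓ center K = Z
  comm_le : ⁅A, A⁆ ≤ Z

/-- `s` fixes `v` modulo `Z`. -/
def FixMod {K : Type*} [Group K] (Z : Subgroup K) (s v : K) : Prop := s * v * s⁻¹ * v⁻¹ ∈ Z

/-- `s` acts without fixed points on `A / Z`. -/
def FreeMod {K : Type*} [Group K] (A Z : Subgroup K) (s : K) : Prop :=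
  ∀ v ∈ A, FixMod Z s v → v ∈ Z

namespace RootAction

variable {K : Type*} [Group K] {A Y Z : Subgroup K} (d : RootAction A Y Z)
include d

theorem central {z : K} (hz : z ∈ Z) (x : K) : x * z = z * x :=
  mem_center_iff.1 ((d.z_eq ▸ hz : z ∈ Y ⊓ center K)).2 x

theorem z_le_conj (g : K) : Z ≤ Y.map (MulAut.conj g).toMonoidHom := fun z hz => by
  have hzY : z ∈ Y := ((d.z_eq ▸ hz : z ∈ Y ⊓ center K)).1
  refine ⟨z, hzY, ?_⟩
  simp [d.central hz g]

theorem conj_z {z : K} (hz : z ∈ Z) (x : K) : x * z * x⁻¹ ∈ Z := by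
  rw [d.central hz x, mul_inv_cancel_right]; exact hz

theorem conj_normalizer (g : K) :
    A ≤ normalizer ((Y.map (MulAut.conj g).toMonoidHom : Subgroup K) : Set K) := fun x hx => by
  rw [mem_normalizer_conj_iff]
  exact d.le_normalizer (by simpa using d.normal.conj_mem x hx g⁻¹)

/-- `[Y^g, A] ≤ A ∩ Y^g`. -/
theorem key {g v y : K} (hv : v ∈ A) (hy : y ∈ Y.map (MulAut.conj g).toMonoidHom) :
    y * v * y⁻¹ * v⁻¹ ∈ A ⊓ Y.map (MulAut.conj g).toMonoidHom := by
  refine Subgroup.mem_inf.2 ⟨mul_mem (d.normal.conj_mem v hv y) (inv_mem hv), ?_⟩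
  have := mul_mem hy ((mem_normalizer_iff.1 (d.conj_normalizer g hv) _).1 (inv_mem hy))
  simpa [mul_assoc] using this

theorem key' {v y : K} (hv : v ∈ A) (hy : y ∈ Y) : y * v * y⁻¹ * v⁻¹ ∈ A ⊓ Y := by
  refine Subgroup.mem_inf.2 ⟨mul_mem (d.normal.conj_mem v hv y) (inv_mem hv), ?_⟩
  have := mul_mem hy ((mem_normalizer_iff.1 (d.le_normalizer hv) _).1 (inv_mem hy))
  simpa [mul_assoc] using this

theorem sup_eq [Finite K] {g : K} (hg : g ∉ normalizer (Y : Set K)) :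
    A ≤ (A ⊓ Y) ⊔ (A ⊓ Y.map (MulAut.conj g).toMonoidHom) := by
  set Y' := Y.map (MulAut.conj g).toMonoidHom with hY'
  set W := (A ⊓ Y) ⊔ (A ⊓ Y') with hWdef
  have hcomm : ∀ a ∈ Y, ∀ b ∈ Y, a * b = b * a := fun a ha b hb =>
    congrArg Subtype.val (d.abel.is_comm.comm ⟨a, ha⟩ ⟨b, hb⟩)
  have hY'a : ∀ a ∈ Y', ∀ b ∈ Y', a * b = b * a := by
    rintro _ ⟨a, ha, rfl⟩ _ ⟨b, hb, rfl⟩; rw [← map_mul, ← map_mul, hcomm a ha b hb]
  have hW : W.Normal := by
    refine normalizer_eq_top_iff.1 (top_le_iff.1 ?_)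
    rw [← sup_conj_eq_top_of_minimalOver d.minimal d.coatom Subgroup.le_normalizer hg, sup_le_iff]
    constructor <;> rw [Subgroup.le_normalizer_iff] <;> intro y hy x hx <;>
      refine (show W ≤ W.comap (MulAut.conj y).toMonoidHom from sup_le ?_ ?_) hx <;> intro b hb
    · show y * b * y⁻¹ ∈ W
      rw [hcomm y hy b hb.2, mul_inv_cancel_right]; exact mem_sup_left hb
    · show y * b * y⁻¹ ∈ W
      rw [show y * b * y⁻¹ = (y * b * y⁻¹ * b⁻¹) * b by group]
      exact mul_mem (mem_sup_left (d.key' hb.1 hy)) (mem_sup_right hb)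
    · show y * b * y⁻¹ ∈ W
      rw [show y * b * y⁻¹ = (y * b * y⁻¹ * b⁻¹) * b by group]
      exact mul_mem (mem_sup_right (d.key hb.1 hy)) (mem_sup_left hb)
    · show y * b * y⁻¹ ∈ W
      rw [hY'a y hy b hb.2, mul_inv_cancel_right]; exact mem_sup_right hb
  calc A = normalClosure ((A ⊓ Y : Subgroup K) : Set K) := d.closure_eq
    _ ≤ W := normalClosure_le_normal (SetLike.coe_subset_coe.2 le_sup_left)

/-- An element of `A ∩ Y^g` fixed modulo `Z` by an element outside `N(Y^g)` lies in `Z`. -/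
theorem trivial_of_fixed [Finite K] {g y w : K}
    (hy : y ∉ normalizer ((Y.map (MulAut.conj g).toMonoidHom : Subgroup K) : Set K))
    (hw : w ∈ A ⊓ Y.map (MulAut.conj g).toMonoidHom) (hf : FixMod Z y w) : w ∈ Z := by
  set Y' := Y.map (MulAut.conj g).toMonoidHom with hY'
  have hmul : ∀ a b : K, b * w * b⁻¹ * w⁻¹ ∈ Z →
      a * b * w * (a * b)⁻¹ * w⁻¹ = (a * w * a⁻¹ * w⁻¹) * (b * w * b⁻¹ * w⁻¹) := by
    intro a b hb
    calc a * b * w * (a * b)⁻¹ * w⁻¹
        = a * (b * w * b⁻¹ * w⁻¹) * (w * a⁻¹ * w⁻¹) := by group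
      _ = (b * w * b⁻¹ * w⁻¹) * a * (w * a⁻¹ * w⁻¹) := by rw [d.central hb a]
      _ = (b * w * b⁻¹ * w⁻¹) * (a * w * a⁻¹ * w⁻¹) := by group
      _ = _ := (d.central hb _).symm
  let H : Subgroup K :=
    { carrier := {x | x * w * x⁻¹ * w⁻¹ ∈ Z}
      one_mem' := by simp
      mul_mem' := fun {a b} ha hb => by
        show a * b * w * (a * b)⁻¹ * w⁻¹ ∈ Z
        rw [hmul a b hb]; exact mul_mem ha hb
      inv_mem' := fun {a} ha => by
        show a⁻¹ * w * a⁻¹⁻¹ * w⁻¹ ∈ Z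
        have h := d.conj_z (inv_mem (show a * w * a⁻¹ * w⁻¹ ∈ Z from ha)) a⁻¹
        convert h using 1
        group }
  have hY'H : Y' ≤ H := by
    intro x hx
    show x * w * x⁻¹ * w⁻¹ ∈ Z
    obtain ⟨a, ha, rfl⟩ := hx
    obtain ⟨b, hb, rfl⟩ := hw.2
    have hab : a * b = b * a := congrArg Subtype.val (d.abel.is_comm.comm ⟨a, ha⟩ ⟨b, hb⟩)
    rw [← map_mul, hab, map_mul, mul_inv_cancel_right, mul_inv_cancel]
    exact one_mem _
  have htop : H = ⊤ := by
    by_contra hne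
    have hne' : H.map (MulAut.conj g⁻¹).toMonoidHom ≠ ⊤ := fun h => hne (by
      apply map_injective (f := (MulAut.conj g⁻¹).toMonoidHom) (MulAut.conj g⁻¹).injective
      rw [h, map_top_of_surjective _ (MulAut.conj g⁻¹).surjective])
    have hle := le_of_minimalOver d.minimal d.coatom Subgroup.le_normalizer (fun a ha => ?_) hne'
      (show g⁻¹ * y * g ∈ _ from ⟨y, hf, by simp⟩)
    · apply hy
      rw [mem_normalizer_conj_iff]
      simpa using hle
    · exact ⟨g * a * g⁻¹, hY'H ⟨a, ha, rfl⟩, by simp [mul_assoc]⟩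
  have hH : ∀ x : K, x * w * x⁻¹ * w⁻¹ ∈ Z := fun x => (htop ▸ mem_top x : x ∈ H)
  let φ : K →* ↥Z := MonoidHom.mk' (fun x => ⟨x * w * x⁻¹ * w⁻¹, hH x⟩)
    fun a b => Subtype.ext (hmul a b (hH b))
  have hY : Y ≤ φ.ker := by
    intro a ha
    have h1 : φ (g * a * g⁻¹) = 1 := by
      apply Subtype.ext
      show (g * a * g⁻¹) * w * (g * a * g⁻¹)⁻¹ * w⁻¹ = 1
      obtain ⟨b, hb, rfl⟩ := hw.2
      simp only [MulEquiv.coe_toMonoidHom, MulAut.conj_apply]
      have hab : a * b = b * a := congrArg Subtype.val (d.abel.is_comm.comm ⟨a, ha⟩ ⟨b, hb⟩)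
      rw [show g * a * g⁻¹ * (g * b * g⁻¹) * (g * a * g⁻¹)⁻¹ * (g * b * g⁻¹)⁻¹ =
        g * (a * b) * (b * a)⁻¹ * g⁻¹ by group, hab]
      group
    rw [map_mul, map_mul, map_inv] at h1
    rw [MonoidHom.mem_ker]
    exact conj_eq_one_iff.1 h1
  have hker : φ.ker = ⊤ :=
    top_le_iff.1 (d.minimal.1 ▸ normalClosure_le_normal (SetLike.coe_subset_coe.2 hY))
  rw [← d.inf_center]
  refine ⟨hw.1, mem_center_iff.2 fun x => ?_⟩
  have hx : x ∈ φ.ker := hker ▸ mem_top x
  have : x * w * x⁻¹ * w⁻¹ = 1 := congrArg Subtype.val (MonoidHom.mem_ker.1 hx)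
  rw [mul_inv_eq_one, mul_inv_eq_iff_eq_mul] at this
  exact this

/-- A root product has no fixed points on `A / Z`. -/
theorem free_mul [Finite K] {g y y' : K} (hy : y ∈ Y)
    (hy' : y' ∈ Y.map (MulAut.conj g).toMonoidHom)
    (h1 : y ∉ normalizer ((Y.map (MulAut.conj g).toMonoidHom : Subgroup K) : Set K))
    (h2 : y' ∉ normalizer (Y : Set K)) : FreeMod A Z (y * y') := by
  intro v hv hfix
  have hcomm : ∀ a ∈ Y, ∀ b ∈ Y, a * b = b * a := fun a ha b hb =>
    congrArg Subtype.val (d.abel.is_comm.comm ⟨a, ha⟩ ⟨b, hb⟩)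
  have hg : g ∉ normalizer (Y : Set K) := fun h => by
    have e : Y.map (MulAut.conj g).toMonoidHom = Y := mem_normalizer_iff_map_conj_eq.1 h
    rw [e] at h1
    exact h1 (Subgroup.le_normalizer hy)
  set z := y * y' * v * (y * y')⁻¹ * v⁻¹ with hz
  have hzZ : z ∈ Z := hfix
  set e := y⁻¹ * v * y * v⁻¹ with he
  set f := y' * v * y'⁻¹ * v⁻¹ with hf
  have hez : f = z * e := by
    rw [he, hf, show z * (y⁻¹ * v * y * v⁻¹) = z * y⁻¹ * (v * y * v⁻¹) by group,
      ← d.central hzZ y⁻¹, hz]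
    group
  have he1 : e ∈ A ⊓ Y := by simpa [he] using d.key' hv (inv_mem hy)
  have hf1 : f ∈ A ⊓ Y.map (MulAut.conj g).toMonoidHom := d.key hv hy'
  have heZ : e ∈ Z := by
    rw [d.z_eq, ← inf_conj_eq_inf_center d.minimal d.coatom Subgroup.le_normalizer d.abel hg]
    refine Subgroup.mem_inf.2 ⟨he1.2, ?_⟩
    rw [show e = z⁻¹ * f by rw [hez, inv_mul_cancel_left]]
    exact mul_mem (inv_mem (d.z_le_conj g hzZ)) hf1.2
  have hfZ : f ∈ Z := hez ▸ mul_mem hzZ heZ
  haveI := d.normal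
  have hset := coe_mul_of_left_le_normalizer_right (A ⊓ Y) (A ⊓ Y.map (MulAut.conj g).toMonoidHom)
    ((inf_le_left : A ⊓ Y ≤ A).trans
      (le_trans (le_inf Subgroup.le_normalizer_of_normal (d.conj_normalizer g))
        inf_normalizer_le_normalizer_inf))
  have hvm : v ∈ ((A ⊓ Y : Subgroup K) : Set K) * ((A ⊓ Y.map (MulAut.conj g).toMonoidHom : Subgroup K) : Set K) := by
    rw [← hset]; exact d.sup_eq hg hv
  obtain ⟨w, hw, w', hw', rfl⟩ := Set.mem_mul.1 hvm
  have hwy : y⁻¹ * w * y = w := by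
    rw [mul_assoc, hcomm w hw.2 y hy, inv_mul_cancel_left]
  have hw'Z : w' ∈ Z := by
    refine d.trivial_of_fixed (y := y⁻¹) (fun h => h1 (inv_mem_iff.1 h)) hw' ?_
    have : y⁻¹ * w' * y⁻¹⁻¹ * w'⁻¹ = w⁻¹ * e * w := by
      rw [he, show y⁻¹ * (w * w') * y * (w * w')⁻¹ = (y⁻¹ * w * y) * (y⁻¹ * w' * y * w'⁻¹) * w⁻¹ by group,
        hwy]
      group
    show _ ∈ Z
    rw [this]
    simpa using d.conj_z heZ w⁻¹
  have hwZ : w ∈ Z := by
    have hone : Y.map (MulAut.conj (1 : K)).toMonoidHom = Y := by ext; simp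
    refine d.trivial_of_fixed (g := 1) (y := y') (by rwa [hone]) (by rwa [hone]) ?_
    have : y' * w * y'⁻¹ * w⁻¹ = f := by
      rw [hf, show y' * (w * w') * y'⁻¹ * (w * w')⁻¹ =
        y' * w * y'⁻¹ * ((y' * w' * y'⁻¹) * w'⁻¹) * w⁻¹ by group, d.central hw'Z y']
      group
    show _ ∈ Z
    rw [this]
    exact hfZ
  exact mul_mem hwZ hw'Z

theorem free_conj {s c : K} (h : FreeMod A Z (c * s * c⁻¹)) : FreeMod A Z s := by
  intro v hv hf
  have h1 := h (c * v * c⁻¹) (d.normal.conj_mem v hv c) (by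
    have := d.conj_z hf c
    show _ ∈ Z
    convert this using 1
    group)
  simpa [mul_assoc] using d.conj_z h1 c⁻¹

theorem free_mul_core {s a : K} (ha : a ∈ A) (h : FreeMod A Z s) : FreeMod A Z (s * a) := by
  intro v hv hf
  refine h v hv ?_
  have hav : a * v * a⁻¹ * v⁻¹ ∈ Z := d.comm_le (commutator_mem_commutator ha hv)
  have : s * v * s⁻¹ * v⁻¹ =
      (s * (a * v * a⁻¹ * v⁻¹)⁻¹ * s⁻¹) * (s * a * v * (s * a)⁻¹ * v⁻¹) := by group
  show _ ∈ Z
  rw [this]
  exact mul_mem (d.conj_z (inv_mem hav) s) hf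

/-- The common square of two free elements with free product is free. -/
theorem free_of_squares {g g' : K} {s : K} (hg : g * g * s⁻¹ ∈ A) (hg' : g' * g' * s⁻¹ ∈ A)
    (h1 : FreeMod A Z g) (h2 : FreeMod A Z g') (h3 : FreeMod A Z (g * g')) : FreeMod A Z s := by
  intro v hv hf
  have key : ∀ x : K, x * x * s⁻¹ ∈ A → FreeMod A Z x → ∃ u ∈ Z, x * v * x⁻¹ = v⁻¹ * u := by
    intro x hx hfree
    have hxx : x * x * v * (x * x)⁻¹ * v⁻¹ ∈ Z := by
      have ha : x * x * s⁻¹ * (s * v * s⁻¹) * (x * x * s⁻¹)⁻¹ * (s * v * s⁻¹)⁻¹ ∈ Z :=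
        d.comm_le (commutator_mem_commutator hx (d.normal.conj_mem v hv s))
      have : x * x * v * (x * x)⁻¹ * v⁻¹ =
          (x * x * s⁻¹ * (s * v * s⁻¹) * (x * x * s⁻¹)⁻¹ * (s * v * s⁻¹)⁻¹) * (s * v * s⁻¹ * v⁻¹) := by
        group
      rw [this]
      exact mul_mem ha hf
    have hu : v * (x * v * x⁻¹) ∈ Z := by
      refine hfree _ (mul_mem hv (d.normal.conj_mem v hv x)) ?_
      have hc : x * v * x⁻¹ * v * (x * v * x⁻¹)⁻¹ * v⁻¹ ∈ Z :=
        d.comm_le (commutator_mem_commutator (d.normal.conj_mem v hv x) hv)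
      have : x * (v * (x * v * x⁻¹)) * x⁻¹ * (v * (x * v * x⁻¹))⁻¹ =
          (x * v * x⁻¹ * (x * x * v * (x * x)⁻¹ * v⁻¹) * (x * v * x⁻¹)⁻¹) *
            (x * v * x⁻¹ * v * (x * v * x⁻¹)⁻¹ * v⁻¹) := by group
      show _ ∈ Z
      rw [this]
      exact mul_mem (d.conj_z hxx _) hc
    exact ⟨_, hu, by group⟩
  obtain ⟨u, hu, e1⟩ := key g hg h1
  obtain ⟨u', hu', e2⟩ := key g' hg' h2
  refine h3 v hv ?_
  show _ ∈ Z
  have : g * g' * v * (g * g')⁻¹ * v⁻¹ = u⁻¹ * (v * u' * v⁻¹) := by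
    rw [show g * g' * v * (g * g')⁻¹ = g * (g' * v * g'⁻¹) * g⁻¹ by group, e2,
      show g * (v⁻¹ * u') * g⁻¹ = (g * v * g⁻¹)⁻¹ * (g * u' * g⁻¹) by group, e1,
      d.central hu' g]
    group
  rw [this]
  exact mul_mem (inv_mem hu) (d.conj_z hu' v)

theorem free_of_rootProduct [Finite K] [A.Normal] {s : K}
    (h : RootProduct (Y.map (QuotientGroup.mk' A)) (QuotientGroup.mk' A s)) : FreeMod A Z s := by
  obtain ⟨c, g, yb, yb', h1, h2, h3, h4, h5⟩ := h
  obtain ⟨c, rfl⟩ := QuotientGroup.mk'_surjective A c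
  obtain ⟨g, rfl⟩ := QuotientGroup.mk'_surjective A g
  have hmap : (Y.map (QuotientGroup.mk' A)).map (MulAut.conj (QuotientGroup.mk' A g)).toMonoidHom =
      (Y.map (MulAut.conj g).toMonoidHom).map (QuotientGroup.mk' A) := by
    rw [map_map, map_map]
    congr 1
  obtain ⟨y, hy, rfl⟩ := h1
  rw [hmap] at h2 h3
  obtain ⟨y', hy', rfl⟩ := h2
  have hf := d.free_mul hy hy' (fun h => h3 (le_normalizer_map _ (mem_map_of_mem _ h)))
    (fun h => h4 (le_normalizer_map _ (mem_map_of_mem _ h)))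
  have ha : (y * y')⁻¹ * (c * s * c⁻¹) ∈ A := by
    rw [← QuotientGroup.eq_one_iff, ← QuotientGroup.mk'_apply, map_mul, map_inv, map_mul, map_mul,
      map_mul, map_inv, h5, inv_mul_cancel]
  refine d.free_conj (c := c) ?_
  rw [show c * s * c⁻¹ = y * y' * ((y * y')⁻¹ * (c * s * c⁻¹)) by group]
  exact d.free_mul_core ha hf

theorem free_of_rootGood [Finite K] [A.Normal] {s : K}
    (h : RootGood (Y.map (QuotientGroup.mk' A)) (QuotientGroup.mk' A s)) : FreeMod A Z s := by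
  rcases h with h | ⟨g, g', hg, hg', h1, h2, h3⟩
  · exact d.free_of_rootProduct h
  · obtain ⟨g, rfl⟩ := QuotientGroup.mk'_surjective A g
    obtain ⟨g', rfl⟩ := QuotientGroup.mk'_surjective A g'
    rw [← map_mul] at hg hg' h3
    refine d.free_of_squares ?_ ?_ (d.free_of_rootProduct h1) (d.free_of_rootProduct h2)
      (d.free_of_rootProduct h3)
    · rw [← QuotientGroup.eq_one_iff, ← QuotientGroup.mk'_apply, map_mul, map_inv, hg, mul_inv_cancel]
    · rw [← QuotientGroup.eq_one_iff, ← QuotientGroup.mk'_apply, map_mul, map_inv, hg', mul_inv_cancel]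

end RootAction

variable {G : Type*} [Group G] {p : ℕ} {M L : Subgroup G}

theorem rootGenerated_frakLBar [Finite G] [Fact p.Prime] [(pCore p ↥L).Normal]
    (hel : IsElementaryAbelian p (largestPReducedOf p M)) (hL : IsInFrakL p M L) :
    RootGenerated p (frakLBar (L := L) (p := p) p M) := by
  set Yb := frakLBar (L := L) (p := p) p M with hYb
  have hYe : IsElementaryAbelian p Yb :=
    isElementaryAbelian_map (isElementaryAbelian_subgroupOf hel L) _
  have hcard := card_frakLBar hL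
  have hne := frakLBar_ne_bot hL
  obtain ⟨g, hg⟩ := frakLBar_sup_conj hL
  rcases hL.2.2.2.2.2.2 with ⟨F, _, _, hF, ⟨e⟩⟩ | ⟨hp2, F, _, _, m, hFc, hF, ⟨e⟩⟩ |
      ⟨hp2, r, hr, hr2, ⟨e⟩⟩
  · refine RootGenerated.of_equiv e (rootGenerated_sl2 (isElementaryAbelian_map hYe _) ?_)
    rw [card_map_of_injective e.injective, hcard, hF]
  · subst hp2
    rcases Nat.eq_zero_or_pos m with rfl | hm
    · exact rootGenerated_two_conj (by rw [hcard, ← hF, hFc]; norm_num) hg
    · have H := H7.SzHyp.of_fintype hm hFc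
      let e' := e.trans H.lieEquiv.symm
      refine RootGenerated.of_equiv e' (rootGenerated_sz H (isElementaryAbelian_map hYe _) ?_)
      rw [card_map_of_injective e'.injective, hcard, ← hF, hFc]
  · subst hp2
    refine rootGenerated_two_conj ?_ hg
    obtain ⟨k, hk⟩ := (isPGroup_of_elementaryAbelian hYe).exists_card_eq
    have hd : Nat.card Yb ∣ 2 * r :=
      DihedralGroup.nat_card (n := r) ▸ Nat.card_congr e.toEquiv ▸ card_subgroup_dvd_card Yb
    have h1 : 1 < Nat.card Yb := one_lt_card_iff_ne_bot _ |>.2 hne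
    rw [hk] at hd h1 ⊢
    rcases k with _ | _ | k
    · simp at h1
    · rfl
    · exfalso
      have h4 : 2 * 2 ∣ 2 * r := (Dvd.intro (2 ^ k) (by ring)).trans hd
      have := Nat.dvd_of_mul_dvd_mul_left two_pos h4
      exact hr2 ((Nat.prime_dvd_prime_iff_eq Nat.prime_two hr).1 this).symm

theorem rootAction_frakL [Finite G] [Fact p.Prime]
    (hel : IsElementaryAbelian p (largestPReducedOf p M)) (hL : IsInFrakL p M L) :
    RootAction (pCore p ↥L) (frakLY p M L) (frakLY p M L ⊓ center ↥L) := by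
  have hco := frakL_coatom hL
  have hY := isElementaryAbelian_subgroupOf hel L
  have hA : pCore p ↥L =
      normalClosure ((pCore p ↥L ⊓ frakLY p M L : Subgroup ↥L) : Set ↥L) := by
    apply map_injective L.subtype_injective
    conv_lhs => rw [show (pCore p ↥L).map L.subtype = pCoreOf p L from rfl, hL.2.1]
    congr 2
    rw [inf_comm (a := pCore p ↥L)]
    ext x
    simp [← pCoreOf_subgroupOf, mem_subgroupOf]
  have hOY : pCore p ↥L ≤ normalizer (frakLY p M L : Set ↥L) := by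
    rw [frakL_normalizer_eq hL]
    exact fun x hx => ⟨x.2, hL.2.2.1 ⟨x, hx, rfl⟩⟩
  obtain ⟨g, -, hg⟩ := SetLike.exists_of_lt hco.1.lt_top
  obtain ⟨-, e1, -, hle, -, -, hAc⟩ := S2837.result hL.2.2.2.2.1 _ hco _ Subgroup.le_normalizer hY
    hL.2.2.2.1 hOY (pCore p ↥L) hA g hg
  exact
    { normal := H19.pCore_normal p ↥L
      abel := hY.1
      le_normalizer := hOY
      coatom := hco
      minimal := hL.2.2.2.1
      closure_eq := hA
      z_eq := rfl
      z_le := hAc ▸ inf_le_left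
      inf_center := hAc
      comm_le := e1 ▸ hle }

end Cfsg.Agent.H73
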