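import Cfsg.Agent.H73.YMinimal
import Cfsg.Agent.H50.CentralizerCharP
import Cfsg.Agent.H73.WeaklyClosed

/-!
The `L`-lemma for groups minimal over a Sylow subgroup.
-/

set_option autoImplicit false

namespace Cfsg.Agent.H73

open Subgroup
open scoped Pointwise

variable {H : Type*} [Group H] [Finite H] {p : ℕ} [Fact p.Prime]

/-- A `p`-subgroup `Q` such that `A Q` is in a unique conjugate of `M`, and `N(Q)` is not in it. -/
theorem exists_unique_member_pair (T : Sylow p H) (hmin : IsMinimalOver (T : Subgroup H))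
    {M : Subgroup H} (hM : IsCoatom M) (hTM : (T : Subgroup H) ≤ M) {A : Subgroup H}
    (hAT : A ≤ (T : Subgroup H)) (hA : ¬ A ≤ pCore p H) :
    ∃ (Q : Subgroup H) (g : H), IsPGroup p Q ∧ pCore p H ≤ Q ∧ A ≤ normalizer (Q : Set H) ∧
      A ⊔ Q ≤ M.map (MulAut.conj g).toMonoidHom ∧
      (∀ g' : H, A ⊔ Q ≤ M.map (MulAut.conj g').toMonoidHom →
        M.map (MulAut.conj g').toMonoidHom = M.map (MulAut.conj g).toMonoidHom) ∧
      ¬ normalizer (Q : Set H) ≤ M.map (MulAut.conj g).toMonoidHom := by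
  classical
  haveI hOn := H19.pCore_normal p H
  set O := pCore p H with hO
  have hOp : IsPGroup p O := H19.pCore_isPGroup p
  have hOg : ∀ g : H, O.map (MulAut.conj g).toMonoidHom = O := fun g =>
    H50.map_conj_eq_iff.2 ((Subgroup.le_normalizer_of_normal : (⊤ : Subgroup H) ≤ _) (mem_top g))
  have hsyl : ∀ P : Subgroup H, IsPGroup p P →
      ∃ g : H, P ≤ (T : Subgroup H).map (MulAut.conj g).toMonoidHom := by
    intro P hP
    obtain ⟨R, hR⟩ := hP.exists_le_sylow
    obtain ⟨g, hg⟩ := MulAction.exists_smul_eq H T R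
    exact ⟨g, hR.trans (by rw [← hg, Sylow.coe_subgroup_smul]; rfl)⟩
  have huniqT : ∀ g g' : H, (T : Subgroup H).map (MulAut.conj g).toMonoidHom ≤
      M.map (MulAut.conj g').toMonoidHom →
      M.map (MulAut.conj g').toMonoidHom = M.map (MulAut.conj g).toMonoidHom := by
    intro g g' h
    rw [map_conj_le_iff, H50.map_conj_map] at h
    obtain ⟨M0, hM0, huniq⟩ := hmin.2
    have e : M.map (MulAut.conj (g⁻¹ * g')).toMonoidHom = M :=
      (huniq _ ⟨((MulAut.conj (g⁻¹ * g')).mapSubgroup.isCoatom_iff M).2 hM, h⟩).trans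
        (huniq M ⟨hM, hTM⟩).symm
    conv_rhs => rw [← e]
    rw [H50.map_conj_map, mul_inv_cancel_left]
  -- the family of shared subgroups generated by conjugates of `A`
  let good : Subgroup H → Prop := fun Q => O ≤ Q ∧ IsPGroup p Q ∧
    Q ≤ (O ⊔ ⨆ g : {g : H // A.map (MulAut.conj g).toMonoidHom ≤ Q}, A.map (MulAut.conj (g : H)).toMonoidHom) ∧
    ∃ g g' : H, Q ≤ M.map (MulAut.conj g).toMonoidHom ∧ Q ≤ M.map (MulAut.conj g').toMonoidHom ∧
      M.map (MulAut.conj g).toMonoidHom ≠ M.map (MulAut.conj g').toMonoidHom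
  have hOM : O ≤ M := (H19.pCore_le_sylow T).trans hTM
  have hid : (MulAut.conj (1 : H)).toMonoidHom = MonoidHom.id H := by ext; simp
  by_cases hone : ∀ g' : H, A ⊔ O ≤ M.map (MulAut.conj g').toMonoidHom →
      M.map (MulAut.conj g').toMonoidHom = M
  · refine ⟨O, 1, hOp, le_rfl, Subgroup.le_normalizer_of_normal, ?_, ?_, ?_⟩
    · rw [hid, Subgroup.map_id]; exact sup_le (hAT.trans hTM) hOM
    · intro g' hg'; rw [hid, Subgroup.map_id]; exact hone g' hg'
    · rw [hid, Subgroup.map_id, Subgroup.normalizer_eq_top_iff.2 hOn]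
      exact fun h => hM.1 (top_le_iff.1 h)
  push_neg at hone
  obtain ⟨g', hg', hne'⟩ := hone
  have hAO : IsPGroup p (A ⊔ O : Subgroup H) := (T.2.to_le hAT).to_sup_of_normal_right hOp
  have hgood0 : good (A ⊔ O) := by
    refine ⟨le_sup_right, hAO, sup_le (le_sup_of_le_right ?_) le_sup_left, 1, g',
      by rw [hid, Subgroup.map_id]; exact sup_le (hAT.trans hTM) hOM, hg', ?_⟩
    · refine le_trans ?_ (le_iSup (fun g : {g : H // A.map (MulAut.conj g).toMonoidHom ≤ A ⊔ O} =>
        A.map (MulAut.conj (g : H)).toMonoidHom) ⟨1, ?_⟩)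
      · rw [hid, Subgroup.map_id]
      · rw [hid, Subgroup.map_id]; exact le_sup_left
    · rw [hid, Subgroup.map_id]; exact fun h => hne' h.symm
  haveI : Fintype (Subgroup H) := Fintype.ofFinite _
  obtain ⟨Q, hQ, hQmax⟩ := Finset.exists_max_image (Finset.univ.filter good) (fun Q => Nat.card Q)
    ⟨_, Finset.mem_filter.2 ⟨Finset.mem_univ _, hgood0⟩⟩
  obtain ⟨hOQ, hQp, hQgen, g1, g2, hQ1, hQ2, hne⟩ := (Finset.mem_filter.1 hQ).2
  -- a larger conjugate-generated subgroup lies in a unique member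
  have hbig : ∀ z : H, A.map (MulAut.conj z).toMonoidHom ≤ normalizer (Q : Set H) →
      ¬ A.map (MulAut.conj z).toMonoidHom ≤ Q →
      ∀ a b : H, Q ⊔ A.map (MulAut.conj z).toMonoidHom ≤ M.map (MulAut.conj a).toMonoidHom →
        Q ⊔ A.map (MulAut.conj z).toMonoidHom ≤ M.map (MulAut.conj b).toMonoidHom →
        M.map (MulAut.conj a).toMonoidHom = M.map (MulAut.conj b).toMonoidHom := by
    intro z hzn hzQ a b ha hb
    by_contra hab
    set Q' := Q ⊔ A.map (MulAut.conj z).toMonoidHom
    have hgood' : good Q' := by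
      refine ⟨hOQ.trans le_sup_left, hQp.to_sup_of_normal_left' ((T.2.to_le hAT).map _) hzn,
        sup_le (hQgen.trans (sup_le_sup_left ?_ _)) (le_sup_of_le_right ?_), a, b, ha, hb, hab⟩
      · exact iSup_le fun g => le_iSup (fun g : {g : H // A.map (MulAut.conj g).toMonoidHom ≤ Q'} =>
          A.map (MulAut.conj (g : H)).toMonoidHom) ⟨g.1, g.2.trans le_sup_left⟩
      · exact le_iSup (fun g : {g : H // A.map (MulAut.conj g).toMonoidHom ≤ Q'} =>
          A.map (MulAut.conj (g : H)).toMonoidHom) ⟨z, le_sup_right⟩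
    have h1 := hQmax Q' (Finset.mem_filter.2 ⟨Finset.mem_univ _, hgood'⟩)
    exact hzQ (le_sup_right.trans (eq_of_le_of_card_ge le_sup_left h1).ge)
  -- a Sylow subgroup of a member over `Q` normalizes `Q`, or a conjugate of `A` normalizes but avoids `Q`
  have hstep : ∀ g : H, Q ≤ M.map (MulAut.conj g).toMonoidHom →
      (∃ a : H, (T : Subgroup H).map (MulAut.conj a).toMonoidHom ≤ normalizer (Q : Set H) ∧
        M.map (MulAut.conj a).toMonoidHom = M.map (MulAut.conj g).toMonoidHom) ∨
      ∃ z : H, A.map (MulAut.conj z).toMonoidHom ≤ normalizer (Q : Set H) ∧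
        ¬ A.map (MulAut.conj z).toMonoidHom ≤ Q ∧
        A.map (MulAut.conj z).toMonoidHom ≤ M.map (MulAut.conj g).toMonoidHom := by
    intro g hQg
    set M' := M.map (MulAut.conj g).toMonoidHom
    set T' := (T : Subgroup H).map (MulAut.conj g).toMonoidHom
    have hT'M : T' ≤ M' := Subgroup.map_mono hTM
    obtain ⟨P, hP⟩ := ((hQp.comap_of_injective M'.subtype M'.subtype_injective) :
      IsPGroup p (Q.subgroupOf M')).exists_le_sylow
    obtain ⟨R, hR⟩ : ∃ R : Sylow p H, (R : Subgroup H) = T' := ⟨g • T, Sylow.coe_subgroup_smul⟩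
    obtain ⟨m, hm⟩ := MulAction.exists_smul_eq M' (R.subtype (hR ▸ hT'M)) P
    have hQS : Q ≤ (T : Subgroup H).map (MulAut.conj ((m : H) * g)).toMonoidHom := by
      intro x hx
      have h1 : (⟨x, hQg hx⟩ : M') ∈ (P : Subgroup M') := hP hx
      rw [← hm, Sylow.coe_subgroup_smul] at h1
      obtain ⟨y, hy, hye⟩ := h1
      have hy' : (y : H) ∈ T' := hR.le hy
      rw [← H50.map_conj_map]
      exact ⟨(y : H), hy', congrArg Subtype.val hye⟩
    have hMm : M.map (MulAut.conj ((m : H) * g)).toMonoidHom = M' := by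
      rw [← H50.map_conj_map]
      exact H50.map_conj_eq_iff.2 (Subgroup.le_normalizer m.2)
    set S := (T : Subgroup H).map (MulAut.conj ((m : H) * g)).toMonoidHom
    have hSM : S ≤ M' := hMm ▸ Subgroup.map_mono hTM
    by_cases hSN : S ≤ normalizer (Q : Set H)
    · exact Or.inl ⟨_, hSN, hMm⟩
    refine Or.inr ?_
    by_contra hcon
    push_neg at hcon
    apply hSN
    set R' := S ⊓ normalizer (Q : Set H) with hR'
    have hQR : Q ≤ R' := le_inf hQS Subgroup.le_normalizer
    have hall : ∀ z : H, A.map (MulAut.conj z).toMonoidHom ≤ R' →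
        A.map (MulAut.conj z).toMonoidHom ≤ Q := fun z hz => by
      by_contra hzQ
      exact hcon z (hz.trans inf_le_right) hzQ ((hz.trans inf_le_left).trans hSM)
    have hnR : S ⊓ normalizer (R' : Set H) ≤ R' := by
      refine le_inf inf_le_left ?_
      rintro x ⟨-, hx⟩
      refine H50.map_conj_eq_iff.1 (eq_of_le_of_card_ge ?_
        (Subgroup.card_map_of_injective (MulAut.conj x).injective).ge)
      refine (Subgroup.map_mono hQgen).trans ?_
      rw [Subgroup.map_sup, Subgroup.map_iSup, hOg x]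
      refine sup_le hOQ (iSup_le fun z => ?_)
      rw [H50.map_conj_map]
      refine hall _ ?_
      rw [← H50.map_conj_map]
      exact (Subgroup.map_mono (z.2.trans hQR)).trans (H50.map_conj_eq_iff.2 hx).le
    by_contra hSN'
    haveI : Group.IsNilpotent S := (T.2.map _).isNilpotent
    have hlt : R'.subgroupOf S < ⊤ := lt_top_iff_ne_top.2 fun h =>
      hSN' ((subgroupOf_eq_top.1 h).trans inf_le_right)
    have hnc := normalizerCondition_of_isNilpotent (R'.subgroupOf S) hlt
    obtain ⟨x, hx, hxn⟩ := SetLike.exists_of_lt hnc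
    refine hxn (hnR ⟨x.2, ?_⟩)
    rw [← subgroupOf_normalizer_eq (inf_le_left : R' ≤ S)] at hx
    exact hx
  -- one of the two members has a conjugate of `A` outside `Q`
  have hcase : ∀ ga gb : H, Q ≤ M.map (MulAut.conj ga).toMonoidHom → Q ≤ M.map (MulAut.conj gb).toMonoidHom →
      M.map (MulAut.conj ga).toMonoidHom ≠ M.map (MulAut.conj gb).toMonoidHom →
      ∀ z : H, A.map (MulAut.conj z).toMonoidHom ≤ normalizer (Q : Set H) →
        ¬ A.map (MulAut.conj z).toMonoidHom ≤ Q →
        A.map (MulAut.conj z).toMonoidHom ≤ M.map (MulAut.conj ga).toMonoidHom →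
      ∃ (Q : Subgroup H) (g : H), IsPGroup p Q ∧ O ≤ Q ∧ A ≤ normalizer (Q : Set H) ∧
        A ⊔ Q ≤ M.map (MulAut.conj g).toMonoidHom ∧
        (∀ g' : H, A ⊔ Q ≤ M.map (MulAut.conj g').toMonoidHom →
          M.map (MulAut.conj g').toMonoidHom = M.map (MulAut.conj g).toMonoidHom) ∧
        ¬ normalizer (Q : Set H) ≤ M.map (MulAut.conj g).toMonoidHom := by
    intro ga gb hQa hQb hab z hzn hzQ hza
    have hN : ¬ normalizer (Q : Set H) ≤ M.map (MulAut.conj ga).toMonoidHom := by
      intro hle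
      rcases hstep gb hQb with ⟨a, ha, hab'⟩ | ⟨w, hwn, hwQ, hwb⟩
      · exact hab ((huniqT a ga (ha.trans hle)).trans hab')
      · exact hab (hbig w hwn hwQ ga gb (sup_le hQa (hwn.trans hle)) (sup_le hQb hwb))
    refine ⟨Q.map (MulAut.conj z⁻¹).toMonoidHom, z⁻¹ * ga, hQp.map _, ?_, ?_, ?_, fun g' hg' => ?_, ?_⟩
    · rw [← hOg z⁻¹]; exact Subgroup.map_mono hOQ
    · have := (Subgroup.map_mono (f := (MulAut.conj z⁻¹).toMonoidHom) hzn).trans (le_normalizer_map _)
      rwa [H50.map_conj_map, inv_mul_cancel, hid, Subgroup.map_id] at this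
    · have := Subgroup.map_mono (f := (MulAut.conj z⁻¹).toMonoidHom) (sup_le hza hQa)
      rwa [Subgroup.map_sup, H50.map_conj_map, H50.map_conj_map, inv_mul_cancel, hid, Subgroup.map_id] at this
    · have := Subgroup.map_mono (f := (MulAut.conj z).toMonoidHom) hg'
      rw [Subgroup.map_sup, H50.map_conj_map, H50.map_conj_map, mul_inv_cancel, hid, Subgroup.map_id,
        sup_comm] at this
      have h2 := hbig z hzn hzQ ga (z * g') (sup_le hQa hza) this
      rw [← H50.map_conj_map M z⁻¹ ga, h2, H50.map_conj_map, inv_mul_cancel_left]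
    · intro h
      apply hN
      intro x hx
      have : z⁻¹ * x * z ∈ normalizer ((Q.map (MulAut.conj z⁻¹).toMonoidHom : Subgroup H) : Set H) := by
        rw [mem_normalizer_conj_iff]
        simpa [mul_assoc] using hx
      have h2 := h this
      rw [← H50.map_conj_map] at h2
      obtain ⟨y, hy, hye⟩ := h2
      simp only [MulEquiv.coe_toMonoidHom, MulAut.conj_apply, inv_inv] at hye
      rw [mul_left_inj, mul_right_inj] at hye
      rwa [← hye]
  rcases hstep g1 hQ1 with ⟨a, ha, hag⟩ | ⟨z, h1, h2, h3⟩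
  · rcases hstep g2 hQ2 with ⟨b, hb, hbg⟩ | ⟨z, h1, h2, h3⟩
    · exfalso
      rcases eq_or_ne (normalizer (Q : Set H)) ⊤ with htop | htop
      · haveI : Q.Normal := normalizer_eq_top_iff.1 htop
        have hQO : Q ≤ O := H19.le_pCore inferInstance hQp
        refine hA ?_
        have h1 := hQmax _ (Finset.mem_filter.2 ⟨Finset.mem_univ _, hgood0⟩)
        have : O = A ⊔ O := eq_of_le_of_card_ge le_sup_right
          (h1.trans (Nat.le_of_dvd Nat.card_pos (card_dvd_of_le hQO)))
        exact this ▸ le_sup_left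
      · obtain ⟨M', hM', hle⟩ := (eq_top_or_exists_le_coatom _).resolve_left htop
        obtain ⟨M0, hM0, huniq⟩ := hmin.2
        have key : ∀ a : H, (T : Subgroup H).map (MulAut.conj a).toMonoidHom ≤ M' →
            M.map (MulAut.conj a).toMonoidHom = M' := by
          intro a ha
          have h := huniq (M'.map (MulAut.conj a⁻¹).toMonoidHom)
            ⟨((MulAut.conj a⁻¹).mapSubgroup.isCoatom_iff M').2 hM', map_conj_le_iff.1 ha⟩
          rw [← huniq M ⟨hM, hTM⟩] at h
          rw [← h, H50.map_conj_map, mul_inv_cancel, hid, Subgroup.map_id]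
        exact hne (hag.symm.trans ((key a (ha.trans hle)).trans ((key b (hb.trans hle)).symm.trans hbg)))
    · exact hcase g2 g1 hQ2 hQ1 hne.symm z h1 h2 h3
  · exact hcase g1 g2 hQ1 hQ2 hne z h1 h2 h3

end Cfsg.Agent.H73
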