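import Mathlib.GroupTheory.Index
import Cfsg.Prelude.Def_Transfer

/-!
Counting the elements of order four of an extraspecial 2-group of plus type.
-/

set_option autoImplicit false

namespace Cfsg.Agent.H73

open scoped commutatorElement

variable {E : Type*} [Group E]

/-- In a group whose commutators are central, commutation with a fixed element is multiplicative. -/
theorem commutatorElement_mul_of_central (hc : ∀ a b : E, ⁅a, b⁆ ∈ Subgroup.center E) (x a b : E) :
    ⁅x, a * b⁆ = ⁅x, a⁆ * ⁅x, b⁆ := by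
  have h := Subgroup.mem_center_iff.1 (hc x b) a
  simp only [commutatorElement_def] at h ⊢
  calc x * (a * b) * x⁻¹ * (a * b)⁻¹ = x * a * x⁻¹ * ((x * b * x⁻¹ * b⁻¹) * a⁻¹) := by group
    _ = x * a * x⁻¹ * (a⁻¹ * (x * b * x⁻¹ * b⁻¹)) := by
      congr 1
      calc x * b * x⁻¹ * b⁻¹ * a⁻¹ = a⁻¹ * (a * (x * b * x⁻¹ * b⁻¹)) * a⁻¹ := by group
        _ = a⁻¹ * ((x * b * x⁻¹ * b⁻¹) * a) * a⁻¹ := by rw [h]
        _ = a⁻¹ * (x * b * x⁻¹ * b⁻¹) := by group
    _ = x * a * x⁻¹ * a⁻¹ * (x * b * x⁻¹ * b⁻¹) := by group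

/-- If the commutators lie in a centre of order two, `|C(D)| * |D| ≤ 2 * |E|`. -/
theorem card_centralizer_mul_card_le [Finite E] (hc : ∀ a b : E, ⁅a, b⁆ ∈ Subgroup.center E)
    (hz : Nat.card (Subgroup.center E) = 2) (D : Subgroup E) :
    Nat.card (Subgroup.centralizer (D : Set E)) * Nat.card D ≤ 2 * Nat.card E := by
  induction hn : Nat.card E - Nat.card D using Nat.strong_induction_on generalizing D with
  | _ n ih =>
    by_cases hD : D = ⊤
    · subst hD
      rw [Subgroup.coe_top, Subgroup.centralizer_univ, hz, Subgroup.card_top]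
    · obtain ⟨x, hx⟩ : ∃ x, x ∉ D := by
        by_contra h
        push Not at h
        exact hD ((Subgroup.eq_top_iff' D).2 h)
      have hlt : D < D ⊔ Subgroup.zpowers x :=
        lt_of_le_not_ge le_sup_left fun h => hx (h (Subgroup.mem_sup_right (Subgroup.mem_zpowers x)))
      set D' := D ⊔ Subgroup.zpowers x with hD'
      have h2 : 2 * Nat.card D ≤ Nat.card D' := by
        have hdvd := Subgroup.card_dvd_of_le hlt.le
        obtain ⟨k, hk⟩ := hdvd
        have : Nat.card D ≠ Nat.card D' := fun h =>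
          hlt.ne (Subgroup.eq_of_le_of_card_ge hlt.le h.ge)
        rcases k with _ | _ | k
        · exact absurd (hk.trans (Nat.mul_zero _)) Nat.card_pos.ne'
        · exact absurd (by simpa using hk.symm) this
        · rw [hk]; nlinarith
      have hpos : 0 < Nat.card D := Nat.card_pos
      have hle' : Nat.card D' ≤ Nat.card E := Subgroup.card_le_card_group D'
      have IH := ih (Nat.card E - Nat.card D') (by omega) D' rfl
      have hidx : Nat.card (Subgroup.centralizer (D : Set E)) ≤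
          2 * Nat.card (Subgroup.centralizer (D' : Set E)) := by
        set C := Subgroup.centralizer (D : Set E)
        let f : C →* Subgroup.center E :=
          MonoidHom.mk' (fun c => ⟨⁅x, (c : E)⁆, hc _ _⟩)
            (fun a b => Subtype.ext (commutatorElement_mul_of_central hc x _ _))
        have h1 := Subgroup.card_eq_card_quotient_mul_card_subgroup f.ker
        have h3 : Nat.card (C ⧸ f.ker) ≤ 2 := by
          rw [Nat.card_congr (QuotientGroup.quotientKerEquivRange f).toEquiv, ← hz]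
          exact Subgroup.card_le_card_group _
        have h4 : Nat.card f.ker ≤ Nat.card (Subgroup.centralizer (D' : Set E)) := by
          refine Nat.card_le_card_of_injective (fun c => ⟨(c : C), ?_⟩)
            (fun a b h => Subtype.ext (Subtype.ext (congrArg Subtype.val h :)))
          have hcx : (x : E) * (c : C) = (c : C) * x :=
            commutatorElement_eq_one_iff_mul_comm.1 (congrArg Subtype.val c.2)
          have hle : D' ≤ Subgroup.centralizer ({((c : C) : E)} : Set E) :=
            sup_le (fun d hd => Subgroup.mem_centralizer_singleton_iff.2 ((c : C).2 d hd))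
              (Subgroup.zpowers_le.2 (Subgroup.mem_centralizer_singleton_iff.2 hcx))
          exact Subgroup.mem_centralizer_iff.2 fun d hd =>
            Subgroup.mem_centralizer_singleton_iff.1 (hle hd)
        rw [h1]
        exact Nat.mul_le_mul h3 h4
      calc Nat.card (Subgroup.centralizer (D : Set E)) * Nat.card D
          ≤ 2 * Nat.card (Subgroup.centralizer (D' : Set E)) * Nat.card D := by gcongr
        _ = Nat.card (Subgroup.centralizer (D' : Set E)) * (2 * Nat.card D) := by ring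
        _ ≤ Nat.card (Subgroup.centralizer (D' : Set E)) * Nat.card D' := by gcongr
        _ ≤ _ := IH

/-- An extraspecial 2-group of plus type of order `2^(2m+1)` has `2^(2m) - 2^m` elements of order 4. -/
theorem card_orderOf_eq_four [Finite E] (m : ℕ) (hE : IsExtraspecial 2 E)
    (hcard : Nat.card E = 2 ^ (2 * m + 1))
    (hplus : ∃ A : Subgroup E, IsElementaryAbelian 2 A ∧ Nat.card A = 2 ^ (m + 1)) :
    Nat.card {x : E // orderOf x = 4} = 2 ^ (2 * m) - 2 ^ m := by
  classical
  obtain ⟨⟨hp, hfr, hcom⟩, hz⟩ := hE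
  have hc : ∀ a b : E, ⁅a, b⁆ ∈ Subgroup.center E := fun a b =>
    hcom ▸ Subgroup.commutator_mem_commutator trivial trivial
  obtain ⟨A, ⟨hAc, hA2⟩, hA⟩ := hplus
  have hcomm : ∀ a ∈ A, ∀ b ∈ A, a * b = b * a := fun a ha b hb =>
    congrArg Subtype.val (hAc.is_comm.comm ⟨a, ha⟩ ⟨b, hb⟩)
  -- squares are central of order at most two
  have hsq : ∀ x : E, x ^ 2 ∈ Subgroup.center E := fun x => by
    rw [← hfr]
    simp only [frattini, Order.radical, Subgroup.mem_iInf]
    intro M hM
    obtain ⟨k, hk⟩ := IsPGroup.iff_card.1 (hp.to_subgroup M)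
    obtain ⟨n, hn⟩ := IsPGroup.iff_card.1 hp
    have hlt : k < n := by
      rw [← Nat.pow_lt_pow_iff_right (le_refl 2), ← hk, ← hn]
      exact lt_of_le_of_ne (Subgroup.card_le_card_group M) fun h =>
        hM.1 (Subgroup.eq_top_of_card_eq M h)
    obtain ⟨K, hK, hMK⟩ := Sylow.exists_subgroup_card_pow_succ (p := 2)
      (hn ▸ pow_dvd_pow 2 hlt) hk
    have hK' : K = ⊤ := by
      refine hM.2 K (lt_of_le_of_ne hMK fun h => ?_)
      rw [← h, hk] at hK
      exact absurd (Nat.pow_right_injective (le_refl 2) hK) (by omega)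
    have hidx : M.index = 2 := by
      have h := M.card_mul_index
      rw [hK', Subgroup.card_top] at hK
      rw [hK, hk, pow_succ] at h
      exact Nat.eq_of_mul_eq_mul_left (by positivity) h
    exact Subgroup.sq_mem_of_index_two hidx x
  have hz2 : ∀ w ∈ Subgroup.center E, w ^ 2 = 1 := fun w hw => by
    have h := pow_card_eq_one' (G := Subgroup.center E) (x := ⟨w, hw⟩)
    rw [hz] at h
    simpa using congrArg Subtype.val h
  have hzuniq : ∀ w ∈ Subgroup.center E, ∀ v ∈ Subgroup.center E, w ≠ 1 → v ≠ 1 → w = v := by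
    intro w hw v hv hw1 hv1
    obtain ⟨a, b, hab, huniv⟩ := Nat.card_eq_two_iff.1 hz
    have hh : ∀ u : Subgroup.center E, u = a ∨ u = b := fun u => by
      have := huniv ▸ Set.mem_univ u; simpa using this
    by_contra hne
    have d1 : (⟨w, hw⟩ : Subgroup.center E) ≠ 1 := fun h => hw1 (congrArg Subtype.val h)
    have d2 : (⟨v, hv⟩ : Subgroup.center E) ≠ 1 := fun h => hv1 (congrArg Subtype.val h)
    have d3 : (⟨w, hw⟩ : Subgroup.center E) ≠ ⟨v, hv⟩ := fun h => hne (congrArg Subtype.val h)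
    rcases hh 1 with h1 | h1 <;> rcases hh ⟨w, hw⟩ with h2 | h2 <;> rcases hh ⟨v, hv⟩ with h3 | h3 <;>
      simp_all
  -- `A` is its own centralizer
  have hCA : Subgroup.centralizer (A : Set E) = A := by
    refine (Subgroup.eq_of_le_of_card_ge (fun a ha => Subgroup.mem_centralizer_iff.2
      fun b hb => hcomm b hb a ha) ?_).symm
    have := card_centralizer_mul_card_le hc hz A
    rw [hA, hcard] at this
    have h2 : 2 * 2 ^ (2 * m + 1) = 2 ^ (m + 1) * 2 ^ (m + 1) := by
      rw [← pow_succ', ← pow_add]; ring_nf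
    rw [hA]
    exact Nat.le_of_mul_le_mul_right (h2 ▸ this) (by positivity)
  have hord : ∀ x : E, orderOf x = 4 ↔ x ^ 2 ≠ 1 := fun x => by
    constructor
    · intro h h'
      have := orderOf_dvd_of_pow_eq_one h'
      rw [h] at this
      norm_num at this
    · intro h
      have h4 : x ^ 4 = 1 := by
        rw [show (4 : ℕ) = 2 * 2 from rfl, pow_mul]; exact hz2 _ (hsq x)
      exact orderOf_eq_prime_pow (p := 2) (n := 1) (by simpa using h) (by simpa using h4)
  have hnotA : ∀ x : E, x ^ 2 ≠ 1 → x ∉ A := fun x h h' => h (hA2 x h')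
  -- the involutive swap
  let S : E → Set E := fun x => {a | a ∈ A ∧ ⁅x, a⁆ ≠ 1}
  have hSne : ∀ x, x ∉ A → (S x).Nonempty := fun x hx => by
    by_contra h
    refine hx (hCA ▸ Subgroup.mem_centralizer_iff.2 fun a ha => ?_)
    by_contra h'
    exact h ⟨a, ha, fun he => h' (commutatorElement_eq_one_iff_mul_comm.1 he).symm⟩
  let g : Set E → E := fun s => if h : s.Nonempty then h.choose else 1
  have hg : ∀ x, x ∉ A → g (S x) ∈ A ∧ ⁅x, g (S x)⁆ ≠ 1 := fun x hx => by
    simp only [g, dif_pos (hSne x hx)]; exact (hSne x hx).choose_spec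
  have hSinv : ∀ x, ∀ b ∈ A, S (x * b) = S x := fun x b hb => by
    ext a
    refine and_congr_right fun ha => not_congr ?_
    rw [commutatorElement_eq_one_iff_mul_comm, commutatorElement_eq_one_iff_mul_comm,
      mul_assoc x b a, hcomm b hb a ha, ← mul_assoc, ← mul_assoc]
    exact mul_right_cancel_iff
  have hmulA : ∀ x, ∀ b ∈ A, x ∉ A → x * b ∉ A := fun x b hb hx h =>
    hx ((A.mul_mem_cancel_right hb).1 h)
  have hsqmul : ∀ x a : E, a ∈ A → (x * a) ^ 2 = x ^ 2 * ⁅x, a⁆ := fun x a ha => by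
    have h1 : ⁅a, x⁆ * (⁅x, a⁆) = 1 := by rw [← commutatorElement_inv, inv_mul_cancel]
    have h2 : ⁅x, a⁆ = ⁅a, x⁆ := by
      calc ⁅x, a⁆ = (⁅a, x⁆ * ⁅a, x⁆) * ⁅x, a⁆ := by rw [← pow_two, hz2 _ (hc a x), one_mul]
        _ = ⁅a, x⁆ := by rw [mul_assoc, h1, mul_one]
    have h3 := Subgroup.mem_center_iff.1 (hc a x) x
    have haa : a * a = 1 := by rw [← pow_two]; exact hA2 a ha
    rw [h2]
    calc (x * a) ^ 2 = x * ((⁅a, x⁆) * x) * (a * a) := by
          rw [pow_two, commutatorElement_def]; group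
      _ = x * x * ⁅a, x⁆ := by rw [haa, mul_one, ← h3, mul_assoc]
      _ = x ^ 2 * ⁅a, x⁆ := by rw [pow_two]
  let e : {x : E // x ∉ A ∧ x ^ 2 ≠ 1} ≃ {x : E // x ∉ A ∧ x ^ 2 = 1} :=
    { toFun := fun x => ⟨x.1 * g (S x.1), hmulA _ _ (hg _ x.2.1).1 x.2.1, by
        rw [hsqmul _ _ (hg _ x.2.1).1,
          hzuniq _ (hc x.1 (g (S x.1))) _ (hsq x.1) (hg _ x.2.1).2 x.2.2, ← pow_two]
        exact hz2 _ (hsq _)⟩
      invFun := fun x => ⟨x.1 * g (S x.1), hmulA _ _ (hg _ x.2.1).1 x.2.1, by
        rw [hsqmul _ _ (hg _ x.2.1).1, x.2.2, one_mul]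
        exact (hg _ x.2.1).2⟩
      left_inv := fun x => Subtype.ext (by
        simp only [hSinv _ _ (hg _ x.2.1).1, mul_assoc, ← pow_two, hA2 _ (hg _ x.2.1).1, mul_one])
      right_inv := fun x => Subtype.ext (by
        simp only [hSinv _ _ (hg _ x.2.1).1, mul_assoc, ← pow_two, hA2 _ (hg _ x.2.1).1, mul_one]) }
  have h4 : Nat.card {x : E // orderOf x = 4} = Nat.card {x : E // x ∉ A ∧ x ^ 2 ≠ 1} :=
    Nat.card_congr (Equiv.subtypeEquivRight fun x => by
      rw [hord]; exact ⟨fun h => ⟨hnotA x h, h⟩, fun h => h.2⟩)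
  have hsum : Nat.card {x : E // x ∉ A} =
      Nat.card {x : E // x ∉ A ∧ x ^ 2 ≠ 1} + Nat.card {x : E // x ∉ A ∧ x ^ 2 = 1} := by
    have := Fintype.ofFinite E
    simp only [Nat.card_eq_fintype_card, Fintype.card_subtype]
    rw [← Finset.card_union_of_disjoint]
    · congr 1; ext x; simp; tauto
    · simp [Finset.disjoint_filter]; tauto
  have hall : Nat.card {x : E // x ∉ A} = 2 ^ (2 * m + 1) - 2 ^ (m + 1) := by
    have := Fintype.ofFinite E
    rw [← hcard, ← hA]
    simp only [Nat.card_eq_fintype_card]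
    rw [Fintype.card_subtype_compl]
  rw [Nat.card_congr e] at hsum h4
  rw [h4]
  have h5 : 2 ^ (2 * m + 1) = 2 * 2 ^ (2 * m) := pow_succ' 2 _
  have h6 : 2 ^ (m + 1) = 2 * 2 ^ m := pow_succ' 2 _
  omega

end Cfsg.Agent.H73
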