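import Cfsg.Agent.H73.PClosed
import Cfsg.Agent.H73.WeakClosureResidual
import Cfsg.Agent.H51.Quasisimple
import Cfsg.Agent.H51.PConstrained
import Cfsg.Agent.H72.PReduced

/-!
A normal subgroup generated by conjugates of a `p`-subgroup covers a quasisimple `O^p`.
-/

set_option autoImplicit false

namespace Cfsg.Agent.H73

open Subgroup
open scoped commutatorElement Pointwise

section Top

variable {X : Type*} [Group X] [Finite X] {p : ℕ} [Fact p.Prime]

/-- `p`-subgroups centralizing a quasisimple `O^p(X)` are trivial when `O_p(X) = 1`. -/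
theorem eq_bot_of_centralizes_residual (hO : pCore p X = ⊥) {P : Subgroup X} (hP : IsPGroup p P)
    (hPR : P ≤ centralizer (pResidual p X : Set X)) : P = ⊥ := by
  set D := centralizer (pResidual p X : Set X)
  haveI : D.Normal := H72.centralizer_normal inferInstance
  obtain ⟨T, hT⟩ := (hP.comap_of_injective D.subtype D.subtype_injective :
    IsPGroup p (P.subgroupOf D)).exists_le_sylow
  have hn : (T : Subgroup D).Normal := by
    refine normalizer_eq_top_iff.1 (top_le_iff.1 ?_)
    rw [← H22.pResidual_sup_sylow T]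
    refine sup_le ?_ Subgroup.le_normalizer
    rw [pResidual, closure_le]
    intro x hx
    refine centralizer_le_normalizer _ (mem_centralizer_iff.2 fun t _ => Subtype.ext ?_)
    exact (mem_centralizer_iff.1 t.2 (x : X)
      (H22.mem_pResidual_of_coprime (by rw [Subgroup.orderOf_coe]; exact hx))).symm
  have h1 : pCoreOf p D ≤ ⊥ := by rw [pCoreOf_normal, hO, inf_bot_eq]
  refine le_bot_iff.1 (le_trans ?_ h1)
  rw [← map_subgroupOf_eq_of_le hPR]
  exact Subgroup.map_mono (hT.trans (H19.le_pCore hn T.2))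

/-- A subgroup commuting with the quasisimple `O^p(X)` up to centre commutes with it. -/
theorem le_centralizer_of_commutator_central (hR : IsQuasisimple ↥(pResidual p X)) {N : Subgroup X}
    (h : ⁅pResidual p X, N⁆ ≤ centralizer (pResidual p X : Set X)) :
    N ≤ centralizer (pResidual p X : Set X) := by
  haveI := hR.1
  rw [← commutator_eq_bot_iff_le_centralizer, commutator_comm]
  refine H51.commutator_eq_bot_of_perfect ?_
  rw [commutator_comm N, commutator_eq_bot_iff_le_centralizer]
  exact h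

/-- A normal subgroup of the quasisimple `O^p(X)` is everything or central. -/
theorem eq_or_le_centralizer (hR : IsQuasisimple ↥(pResidual p X)) {V : Subgroup X}
    (hV : V ≤ pResidual p X) (hn : pResidual p X ≤ normalizer (V : Set X)) :
    V = pResidual p X ∨ V ≤ centralizer (pResidual p X : Set X) := by
  haveI : (V.subgroupOf (pResidual p X)).Normal := (normal_subgroupOf_iff_le_normalizer hV).2 hn
  rcases H51.quasisimple_eq_top_or_le_center_of_normal hR (V.subgroupOf (pResidual p X))
    with h | h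
  · exact Or.inl (le_antisymm hV (subgroupOf_eq_top.1 h))
  · refine Or.inr fun v hv => mem_centralizer_iff.2 fun r hr => ?_
    exact congrArg Subtype.val (mem_center_iff.1 (h (show (⟨v, hV hv⟩ : pResidual p X) ∈ _ from hv)) ⟨r, hr⟩)

/-- The normal closure of a nontrivial `p`-subgroup contains `O^p(X)`. -/
theorem residual_le_normalClosure (hO : pCore p X = ⊥) (hR : IsQuasisimple ↥(pResidual p X))
    {P : Subgroup X} (hP : IsPGroup p P) (hP1 : P ≠ ⊥) :
    pResidual p X ≤ normalClosure (P : Set X) := by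
  set N := normalClosure (P : Set X)
  rcases eq_or_le_centralizer hR (V := N ⊓ pResidual p X) inf_le_right le_normalizer_of_normal with h | h
  · exact h ▸ inf_le_left
  · refine absurd (eq_bot_of_centralizes_residual hO hP (Subgroup.le_normalClosure.trans ?_)) hP1
    refine le_centralizer_of_commutator_central hR (le_trans ?_ h)
    exact le_inf (commutator_le_right _ _) (commutator_le_left _ _)

end Top

section Lift

variable {K : Type*} [Group K] [Finite K] {p : ℕ} [Fact p.Prime] {C Q R : Subgroup K}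

/-- The hypotheses: `C` normal with quasisimple `O^p(K/C)` and `O_p(K/C) = 1`, a `p`-subgroup `Q`
outside `C` normalized by `C`, and `R = O^p(⟨Q^K⟩)` with `⟨Q^K⟩ = R Q`. -/
structure QSection (p : ℕ) (C Q R : Subgroup K) [C.Normal] : Prop where
  core : pCore p (K ⧸ C) = ⊥
  quasi : IsQuasisimple ↥(pResidual p (K ⧸ C))
  pgroup : IsPGroup p Q
  not_le : ¬ Q ≤ C
  norm : C ≤ normalizer (Q : Set K)
  normal : R.Normal
  resid : ∀ x ∈ R ⊔ Q, (orderOf x).Coprime p → x ∈ R
  gen : (pResidual p ↥R).map R.subtype = R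
  sup_eq : normalClosure (Q : Set K) = R ⊔ Q

namespace QSection

variable [C.Normal] (d : QSection p C Q R)
include d

theorem map_eq : R.map (QuotientGroup.mk' C) = pResidual p (K ⧸ C) := by
  set π := QuotientGroup.mk' C
  refine le_antisymm ?_ ?_
  · rw [map_le_iff_le_comap, ← d.gen]
    refine resid_le_of_coprime fun x _ hx => ?_
    exact H22.mem_pResidual_of_coprime (hx.coprime_dvd_left (orderOf_map_dvd π x))
  · have hne : Q.map π ≠ ⊥ := by
      rw [Ne, Subgroup.map_eq_bot_iff, QuotientGroup.ker_mk']; exact d.not_le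
    have h := residual_le_normalClosure d.core d.quasi (d.pgroup.map π) hne
    rw [pResidual, closure_le]
    intro x hx
    have hx' := h (H22.mem_pResidual_of_coprime hx)
    rw [show ((Q.map π : Subgroup (K ⧸ C)) : Set (K ⧸ C)) = π '' (Q : Set K) from rfl,
      ← Subgroup.map_normalClosure _ _ (QuotientGroup.mk'_surjective C), d.sup_eq] at hx'
    obtain ⟨w, hw, rfl⟩ := hx'
    obtain ⟨k, hk⟩ := H22.exists_pow_mem_pResidual (p := p) (G := ↥(R ⊔ Q)) ⟨w, hw⟩
    have hwR : w ^ (p ^ k) ∈ R :=
      resid_le_of_coprime d.resid (mem_map_of_mem (R ⊔ Q).subtype hk)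
    obtain ⟨j, hj⟩ := exists_pow_eq_self_of_coprime (x := π w) (n := p ^ k)
      ((Nat.Coprime.symm hx).pow_left k)
    rw [← hj, ← map_pow]
    exact pow_mem (mem_map_of_mem _ hwR) j

theorem sup_eq_residual : pResidual p K ⊔ C = R ⊔ C := by
  have h := H22.map_pResidual_of_surjective (p := p) (QuotientGroup.mk' C) (QuotientGroup.mk'_surjective C)
  rw [← d.map_eq] at h
  have h2 := congrArg (Subgroup.comap (QuotientGroup.mk' C)) h
  rwa [comap_map_eq, comap_map_eq, QuotientGroup.ker_mk'] at h2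

/-- `[C, ⟨Q^K⟩] ≤ C ∩ O_p(K)`. -/
theorem commutator_le_core : ⁅C, R ⊔ Q⁆ ≤ C ⊓ pCore p K := by
  haveI := H19.pCore_normal p K
  set P0 := C ⊓ pCore p K
  set π := QuotientGroup.mk' P0
  have hQC : Q ⊓ C ≤ P0 :=
    (H74.le_pCoreOf inf_le_right (normalizer_inf_le d.norm Subgroup.le_normalizer)
      (d.pgroup.to_le inf_le_left)).trans (pCoreOf_normal (p := p) C).le
  haveI : (centralizer ((C.map π : Subgroup (K ⧸ P0)) : Set (K ⧸ P0))).Normal :=
    H72.centralizer_normal (Subgroup.Normal.map inferInstance π (QuotientGroup.mk'_surjective _))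
  have hle : R ⊔ Q ≤ (centralizer ((C.map π : Subgroup (K ⧸ P0)) : Set (K ⧸ P0))).comap π := by
    rw [← d.sup_eq]
    refine normalClosure_le_normal fun q hq => ?_
    rw [SetLike.mem_coe, mem_comap, mem_centralizer_iff]
    rintro _ ⟨c, hc, rfl⟩
    rw [← commutatorElement_eq_one_iff_mul_comm, ← map_commutatorElement]
    refine (QuotientGroup.eq_one_iff _).2 (hQC (Subgroup.mem_inf.2 ⟨?_, ?_⟩))
    · exact commutator_le_of_le_normalizer d.norm (commutator_mem_commutator hc hq)
    · exact commutator_le_left C ⊤ (commutator_mem_commutator hc (mem_top q))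
  rw [commutator_le]
  intro c hc w hw
  rw [← QuotientGroup.eq_one_iff, ← QuotientGroup.mk'_apply, map_commutatorElement,
    commutatorElement_eq_one_iff_mul_comm]
  exact mem_centralizer_iff.1 (hle hw) _ ⟨c, hc, rfl⟩

theorem core_isPGroup : IsPGroup p (C ⊓ pCore p K : Subgroup K) :=
  (H19.pCore_isPGroup p).to_le inf_le_right

/-- `R` is perfect. -/
theorem perfect : ⁅R, R⁆ = R := by
  haveI := H19.pCore_normal p K
  haveI := d.normal
  haveI := d.quasi.1
  refine le_antisymm (commutator_le_left R R) ?_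
  set D := ⁅R, R⁆ ⊔ (R ⊓ (C ⊓ pCore p K)) with hD
  have hDn : D.Normal := inferInstance
  -- `R ≤ D C`
  have hRD : R ≤ D ⊔ C := by
    have h1 : (⁅R, R⁆).map (QuotientGroup.mk' C) = pResidual p (K ⧸ C) := by
      rw [Subgroup.map_commutator, d.map_eq, commutator_eq_self]
    have h2 : R.map (QuotientGroup.mk' C) ≤ D.map (QuotientGroup.mk' C) := by
      rw [d.map_eq, ← h1]; exact Subgroup.map_mono le_sup_left
    have h3 := (map_le_iff_le_comap.1 h2)
    rwa [comap_map_eq, QuotientGroup.ker_mk'] at h3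
  -- modulo `D` the subgroup `R` is central in `R Q`
  set f := QuotientGroup.mk' D
  have hcen : ∀ w ∈ R ⊔ Q, ∀ r ∈ R, f w * f r = f r * f w := by
    intro w hw r hr
    obtain ⟨a, ha, c, hc, rfl⟩ := mem_sup_of_normal_right.1 (hRD hr)
    have hcR : c ∈ R := by
      have haR : a ∈ R := (sup_le (commutator_le_left R R) inf_le_left : D ≤ R) ha
      simpa using mul_mem (inv_mem haR) hr
    have hfa : f a = 1 := (QuotientGroup.eq_one_iff a).2 ha
    have hcw : f ⁅c, w⁆ = 1 := (QuotientGroup.eq_one_iff _).2 (mem_sup_right (Subgroup.mem_inf.2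
      ⟨commutator_le_left R ⊤ (commutator_mem_commutator hcR (mem_top w)),
        d.commutator_le_core (commutator_mem_commutator hc hw)⟩))
    rw [map_commutatorElement, commutatorElement_eq_one_iff_mul_comm] at hcw
    rw [map_mul, hfa, one_mul, hcw]
  have hRcomm : ∀ x ∈ R.map f, ∀ y ∈ (R ⊔ Q).map f, Commute x y := by
    rintro _ ⟨r, hr, rfl⟩ _ ⟨w, hw, rfl⟩
    exact (hcen w hw r hr).symm
  let J : Subgroup (K ⧸ D) :=
    { carrier := {x | x ∈ R.map f ∧ ∃ k, x ^ (p ^ k) = 1}
      one_mem' := ⟨one_mem _, 0, by simp⟩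
      mul_mem' := by
        rintro x y ⟨hx, i, hi⟩ ⟨hy, j, hj⟩
        refine ⟨mul_mem hx hy, i + j, ?_⟩
        rw [(hRcomm x hx y (Subgroup.map_mono le_sup_left hy)).mul_pow, pow_add, pow_mul, hi, one_pow,
          mul_comm (p ^ i), pow_mul, hj, one_pow, one_mul]
      inv_mem' := by
        rintro x ⟨hx, i, hi⟩
        exact ⟨inv_mem hx, i, by rw [inv_pow, hi, inv_one]⟩ }
  have hJp : IsPGroup p J := by
    rintro ⟨x, -, k, hk⟩
    exact ⟨k, Subtype.ext hk⟩
  have hQJ : Q.map f ≤ normalizer (J : Set (K ⧸ D)) := by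
    rintro _ ⟨q, hq, rfl⟩
    refine centralizer_le_normalizer _ (mem_centralizer_iff.2 fun x hx => ?_)
    exact (hRcomm x hx.1 _ ⟨q, mem_sup_right hq, rfl⟩).eq
  have hP : IsPGroup p (Q.map f ⊔ J : Subgroup (K ⧸ D)) :=
    (d.pgroup.map f).to_sup_of_normal_right' hJp hQJ
  have hWP : (R ⊔ Q).map f ≤ Q.map f ⊔ J := by
    rw [map_le_iff_le_comap]
    conv_lhs => rw [← d.sup_eq]
    refine (closure_le _).2 fun a ha => ?_
    obtain ⟨q, hq, k, rfl⟩ : ∃ q ∈ Q, ∃ k : K, k * q * k⁻¹ = a := by
      simp only [Group.conjugatesOfSet, Set.mem_iUnion] at ha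
      obtain ⟨q, hq, hc⟩ := ha
      obtain ⟨k, hk⟩ := isConj_iff.1 (hc : IsConj q a)
      exact ⟨q, hq, k, hk⟩
    have ha' : k * q * k⁻¹ ∈ R ⊔ Q :=
      d.sup_eq ▸ normalClosure_normal.conj_mem q (Subgroup.le_normalClosure hq) k
    obtain ⟨r, hr, q', hq', heq⟩ := mem_sup_of_normal_left.1 ha'
    rw [SetLike.mem_coe, mem_comap, ← heq, map_mul]
    refine mul_mem (mem_sup_right ⟨⟨r, hr, rfl⟩, ?_⟩) (mem_sup_left ⟨q', hq', rfl⟩)
    obtain ⟨i, hi⟩ := d.pgroup ⟨q, hq⟩
    obtain ⟨j, hj⟩ := d.pgroup ⟨q', hq'⟩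
    have hi' : q ^ (p ^ i) = 1 := congrArg Subtype.val hi
    have hj' : q' ^ (p ^ j) = 1 := congrArg Subtype.val hj
    refine ⟨i + j, ?_⟩
    have h1 : (f r * f q') ^ (p ^ (i + j)) = 1 := by
      rw [← map_mul, heq, ← map_pow, conj_pow, pow_add, pow_mul, hi', one_pow, mul_one,
        mul_inv_cancel, map_one]
    rw [(hRcomm _ ⟨r, hr, rfl⟩ _ ⟨q', mem_sup_right hq', rfl⟩).mul_pow] at h1
    rw [show (f q') ^ (p ^ (i + j)) = 1 by
      rw [← map_pow, pow_add, mul_comm, pow_mul, hj', one_pow, map_one], mul_one] at h1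
    exact h1
  have hRD' : R ≤ D := by
    rw [← d.gen]
    refine resid_le_of_coprime fun x hx hxc => ?_
    rw [← QuotientGroup.eq_one_iff]
    refine orderOf_eq_one_iff.1 ?_
    obtain ⟨i, hi⟩ := hP ⟨f x, hWP ⟨x, mem_sup_left hx, rfl⟩⟩
    exact Nat.eq_one_of_dvd_coprimes (Nat.Coprime.pow_right i hxc) (orderOf_map_dvd f x)
      (orderOf_dvd_of_pow_eq_one (congrArg Subtype.val hi))
  conv_lhs => rw [← d.gen]
  exact resid_le_of_coprime fun x hx hxc => mem_of_coprime_of_sup
    (le_normalizer_of_normal) (d.core_isPGroup.to_le inf_le_right) (hRD' hx) hxc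

theorem map_core_le (x : K) (hx : x ∈ R) (hp : x ∈ pCoreOf p R) : x ∈ C := by
  haveI := H19.pCore_normal p K
  haveI := d.normal
  rw [← QuotientGroup.eq_one_iff, ← QuotientGroup.mk'_apply, ← mem_bot, ← d.core]
  have h : (pCoreOf p R).map (QuotientGroup.mk' C) ≤ pCore p (K ⧸ C) := by
    refine H19.le_pCore ?_ ((H74.pCoreOf_isPGroup R).map _)
    rw [pCoreOf_normal]
    exact Subgroup.Normal.map inferInstance _ (QuotientGroup.mk'_surjective C)
  exact h ⟨x, hp, rfl⟩

/-- `R / (R ∩ C)` is quasisimple. -/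
theorem quasisimple_quotient_centralizer [(C.subgroupOf R).Normal] :
    IsQuasisimple (↥R ⧸ C.subgroupOf R) := by
  let g : ↥R →* K ⧸ C := (QuotientGroup.mk' C).comp R.subtype
  have hker : g.ker = C.subgroupOf R := by
    ext x
    exact QuotientGroup.eq_one_iff _
  have hrange : g.range = pResidual p (K ⧸ C) := by
    rw [MonoidHom.range_comp, range_subtype, d.map_eq]
  refine H51.quasisimple_of_equiv d.quasi ?_
  exact ((MulEquiv.subgroupCongr hrange).symm.trans (QuotientGroup.quotientKerEquivRange g).symm).trans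
    (QuotientGroup.quotientMulEquivOfEq hker)

/-- `R / O_p(R)` is quasisimple. -/
theorem quasisimple_quotient_core : IsQuasisimple (↥R ⧸ pCore p ↥R) := by
  haveI := H19.pCore_normal p ↥R
  haveI := d.normal
  let g : ↥R →* K ⧸ C := (QuotientGroup.mk' C).comp R.subtype
  have hle : pCore p ↥R ≤ g.ker := fun x hx =>
    (QuotientGroup.eq_one_iff _).2 (d.map_core_le x x.2 ⟨x, hx, rfl⟩)
  let h := QuotientGroup.lift (pCore p ↥R) g hle
  have hrange : h.range = pResidual p (K ⧸ C) := by
    refine le_antisymm ?_ ?_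
    · rintro _ ⟨z, rfl⟩
      obtain ⟨z, rfl⟩ := QuotientGroup.mk'_surjective _ z
      rw [← d.map_eq]
      exact ⟨z, z.2, rfl⟩
    · rw [← d.map_eq]
      rintro _ ⟨z, hz, rfl⟩
      exact ⟨QuotientGroup.mk' _ ⟨z, hz⟩, rfl⟩
  haveI : Group.IsPerfect (↥R ⧸ pCore p ↥R) := by
    haveI : Group.IsPerfect ↥R := by
      refine ⟨?_⟩
      apply map_injective R.subtype_injective
      rw [commutator_def, Subgroup.map_commutator, ← MonoidHom.range_eq_map, range_subtype]
      exact d.perfect
    infer_instance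
  refine H51.isQuasisimple_of_central_extension (f := h.rangeRestrict) h.rangeRestrict_surjective ?_ ?_
  · intro z hz
    obtain ⟨z, rfl⟩ := QuotientGroup.mk'_surjective _ z
    have hzC : (z : K) ∈ C := by
      have := congrArg Subtype.val (MonoidHom.mem_ker.1 hz)
      exact (QuotientGroup.eq_one_iff _).1 this
    refine mem_center_iff.2 fun w => ?_
    obtain ⟨w, rfl⟩ := QuotientGroup.mk'_surjective _ w
    symm
    rw [← commutatorElement_eq_one_iff_mul_comm, ← map_commutatorElement]
    refine (QuotientGroup.eq_one_iff _).2 ?_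
    have hmem : ((⁅z, w⁆ : ↥R) : K) ∈ pCoreOf p R := by
      rw [pCoreOf_normal]
      refine Subgroup.mem_inf.2 ⟨(⁅z, w⁆ : ↥R).2, ?_⟩
      exact (d.commutator_le_core (commutator_mem_commutator hzC (mem_sup_left w.2))).2
    obtain ⟨y, hy, hye⟩ := hmem
    rwa [← Subtype.ext hye]
  · exact H51.quasisimple_of_equiv d.quasi (MulEquiv.subgroupCongr hrange).symm

/-- `R = [R, Y]` for a `p`-subgroup `Y` outside `C`. -/
theorem commutator_eq {Y : Subgroup K} (hY : IsPGroup p Y) (hYC : ¬ Y ≤ C) : ⁅R, Y⁆ = R := by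
  haveI := d.normal
  haveI := H19.pCore_normal p K
  set π := QuotientGroup.mk' C
  refine le_antisymm (commutator_le_left R Y) ?_
  set W := ⁅R, Y⁆
  have hWR : W ≤ R := commutator_le_left R Y
  have hRW : R ≤ normalizer (W : Set K) := H74.le_normalizer_commutator_left R Y
  have hmapW : W.map π = ⁅pResidual p (K ⧸ C), Y.map π⁆ := by rw [Subgroup.map_commutator, d.map_eq]
  rcases eq_or_le_centralizer d.quasi (V := W.map π) (d.map_eq ▸ Subgroup.map_mono hWR) (by
      conv_lhs => rw [← d.map_eq]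
      exact (Subgroup.map_mono hRW).trans (le_normalizer_map π)) with h | h
  · -- `R = W (R ∩ C)` and `R` is perfect
    have hdec : R ≤ W ⊔ (R ⊓ (C ⊓ pCore p K)) := by
      conv_lhs => rw [← d.perfect]
      rw [commutator_le]
      intro a ha b hb
      have haπ : π a ∈ W.map π := by rw [h, ← d.map_eq]; exact ⟨a, ha, rfl⟩
      obtain ⟨w, hw, hwa⟩ := haπ
      have hc : w⁻¹ * a ∈ C := by
        rw [← QuotientGroup.eq_one_iff, ← QuotientGroup.mk'_apply, map_mul, map_inv, hwa, inv_mul_cancel]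
      have e : ⁅a, b⁆ = (w * ⁅w⁻¹ * a, b⁆ * w⁻¹) * ⁅w, b⁆ := by
        simp only [commutatorElement_def]; group
      rw [e]
      refine mul_mem (mem_sup_right ?_) (mem_sup_left ?_)
      · haveI : (R ⊓ (C ⊓ pCore p K)).Normal := inferInstance
        refine Subgroup.Normal.conj_mem inferInstance _ (Subgroup.mem_inf.2 ⟨?_, ?_⟩) w
        · exact commutator_le_right ⊤ R (commutator_mem_commutator (mem_top _) hb)
        · exact d.commutator_le_core (commutator_mem_commutator hc (mem_sup_left hb))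
      · exact commutator_le_of_le_normalizer hRW (commutator_comm W R ▸ commutator_mem_commutator hw hb)
    conv_lhs => rw [← d.gen]
    exact resid_le_of_coprime fun x hx hxc => mem_of_coprime_of_sup (inf_le_left.trans hRW)
      (d.core_isPGroup.to_le inf_le_right) (hdec hx) hxc
  · exfalso
    rw [hmapW] at h
    have := eq_bot_of_centralizes_residual d.core (hY.map π)
      (le_centralizer_of_commutator_central d.quasi h)
    rw [Subgroup.map_eq_bot_iff, QuotientGroup.ker_mk'] at this
    exact hYC this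

end QSection

end Lift

end Cfsg.Agent.H73
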