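import Cfsg.Agent.H73.WeakClosureResidual

/-!
Groups whose `O^p` is central modulo a normal `p`-subgroup are `p`-closed.
-/

set_option autoImplicit false

namespace Cfsg.Agent.H73

open Subgroup
open scoped commutatorElement

variable {G : Type*} [Group G] [Finite G] {p : ℕ} [Fact p.Prime]

/-- If `[O^p(N), N] ≤ U`, a `p`-group normalized by `N`, then all `p`-subgroups of `N` lie in `O_p(N)`. -/
theorem pgroup_le_pCoreOf_of_residual_central {N U : Subgroup G} (hNU : N ≤ normalizer (U : Set G))
    (hU : IsPGroup p U) (h : ⁅(pResidual p N).map N.subtype, N⁆ ≤ U) {Z : Subgroup G} (hZN : Z ≤ N)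
    (hZ : IsPGroup p Z) : Z ≤ pCoreOf p N := by
  obtain ⟨S, hS⟩ := (hZ.comap_subtype : IsPGroup p (Z.subgroupOf N)).exists_le_sylow
  set S₁ := (S : Subgroup N).map N.subtype ⊔ (U ⊓ N) with hS₁
  have hSN : (S : Subgroup N).map N.subtype ≤ N := map_subtype_le _
  have hNn : N ≤ normalizer ((U ⊓ N : Subgroup G) : Set G) := normalizer_inf_le hNU le_normalizer
  have hJ : (pResidual p N).map N.subtype ≤ normalizer (S₁ : Set G) := by
    refine resid_le_of_coprime fun x hx hc => ?_
    refine H50.map_conj_eq_iff.1 (eq_of_le_of_card_ge ?_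
      (Subgroup.card_map_of_injective (MulAut.conj x).injective).ge)
    rw [hS₁, Subgroup.map_sup, H50.map_conj_eq_iff.2 (hNn hx)]
    refine sup_le ?_ le_sup_right
    rintro _ ⟨s, hs, rfl⟩
    have e : (MulAut.conj x).toMonoidHom s = ⁅x, s⁆ * s := by simp [commutatorElement_def]
    rw [e]
    refine mul_mem (mem_sup_right (Subgroup.mem_inf.2
      ⟨h (commutator_mem_commutator (mem_resid hx hc) (hSN hs)), ?_⟩)) (mem_sup_left hs)
    rw [commutatorElement_def]
    exact N.mul_mem (N.mul_mem (N.mul_mem hx (hSN hs)) (N.inv_mem hx)) (N.inv_mem (hSN hs))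
  have hS₁p : IsPGroup p S₁ := by
    rw [hS₁, sup_comm]
    exact IsPGroup.to_sup_of_normal_left' (hU.to_le inf_le_left) (S.2.map _) (hSN.trans hNn)
  have hgen : N ≤ normalizer (S₁ : Set G) := by
    calc N = (⊤ : Subgroup N).map N.subtype := by rw [← MonoidHom.range_eq_map, range_subtype]
      _ ≤ _ := by
        rw [← H22.pResidual_sup_sylow S, Subgroup.map_sup]
        exact sup_le hJ (le_sup_left.trans le_normalizer)
  refine le_trans ?_ (H74.le_pCoreOf (sup_le hSN inf_le_right) hgen hS₁p)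
  exact fun z hz => mem_sup_left ⟨⟨z, hZN hz⟩, hS hz, rfl⟩

end Cfsg.Agent.H73
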