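import Cfsg.Agent.H72.PReduced
import Cfsg.Agent.H73.WeaklyClosed
import Cfsg.Agent.H73.PClosed

/-!
The largest `p`-reduced normal subgroup `Y_L` of a subgroup, inside the ambient group.
-/

set_option autoImplicit false

namespace Cfsg.Agent.H73

open Subgroup
open scoped commutatorElement Pointwise

variable {G : Type*} [Group G] {p : ℕ}

/-- `V` is a `p`-reduced normal subgroup of the subgroup `L`, computed in `G`. -/
def ReducedIn (p : ℕ) (L V : Subgroup G) : Prop :=
  V ≤ L ∧ L ≤ normalizer (V : Set G) ∧ IsElementaryAbelian p V ∧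
    ∀ D : Subgroup G, D ≤ L → L ≤ normalizer (D : Set G) →
      (∀ x ∈ D, ∃ k : ℕ, x ^ (p ^ k) ∈ centralizer (V : Set G)) → D ≤ centralizer (V : Set G)

/-- Centralizers in a subgroup. -/
theorem mem_centralizer_map_subtype_iff {L : Subgroup G} {W : Subgroup L} {x : L} :
    (x : G) ∈ centralizer ((W.map L.subtype : Subgroup G) : Set G) ↔ x ∈ centralizer (W : Set L) := by
  simp only [mem_centralizer_iff]
  constructor
  · exact fun h y hy => Subtype.ext (h y ⟨y, hy, rfl⟩)
  · rintro h _ ⟨y, hy, rfl⟩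
    exact congrArg Subtype.val (h y hy)

/-- An elementary abelian subgroup of a subgroup. -/
theorem isElementaryAbelian_map_iff {L : Subgroup G} {W : Subgroup L} :
    IsElementaryAbelian p (W.map L.subtype) ↔ IsElementaryAbelian p W := by
  constructor
  · rintro ⟨h1, h2⟩
    refine ⟨⟨⟨fun a b => ?_⟩⟩, fun a ha => Subtype.ext (by simpa using h2 _ ⟨a, ha, rfl⟩)⟩
    have h := congrArg Subtype.val
      (h1.is_comm.comm ⟨_, a, a.2, rfl⟩ ⟨_, b, b.2, rfl⟩)
    exact Subtype.ext (Subtype.ext h)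
  · rintro ⟨h1, h2⟩
    refine ⟨⟨⟨?_⟩⟩, ?_⟩
    · rintro ⟨_, a, ha, rfl⟩ ⟨_, b, hb, rfl⟩
      exact Subtype.ext (congrArg (fun t : W => ((t : L) : G)) (h1.is_comm.comm ⟨a, ha⟩ ⟨b, hb⟩))
    · rintro _ ⟨a, ha, rfl⟩
      rw [← map_pow, h2 a ha, map_one]

/-- The bridge between `IsPReducedNormal` in `↥L` and `ReducedIn`. -/
theorem reducedIn_map_iff {L : Subgroup G} {W : Subgroup L} :
    IsPReducedNormal p W ↔ ReducedIn p L (W.map L.subtype) := by
  rw [H72.isPReducedNormal_iff, ReducedIn, isElementaryAbelian_map_iff]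
  have hW : (W.map L.subtype).subgroupOf L = W :=
    comap_map_eq_self_of_injective L.subtype_injective _
  constructor
  · rintro ⟨h1, h2, h3⟩
    refine ⟨map_subtype_le _, (normal_subgroupOf_iff_le_normalizer (map_subtype_le _)).1 (by rwa [hW]),
      h2, fun D hD hLD hmod x hx => ?_⟩
    refine (mem_centralizer_map_subtype_iff (x := ⟨x, hD hx⟩)).2 (h3 (D.subgroupOf L) ?_ ?_ hx)
    · exact (normal_subgroupOf_iff_le_normalizer hD).2 hLD
    · rintro ⟨y, hyL⟩ hy
      obtain ⟨k, hk⟩ := hmod y hy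
      exact ⟨k, mem_centralizer_map_subtype_iff.1 hk⟩
  · rintro ⟨-, h1, h2, h3⟩
    refine ⟨hW ▸ (normal_subgroupOf_iff_le_normalizer (map_subtype_le _)).2 h1, h2,
      fun D hD hmod x hx => ?_⟩
    have hDn : (((D.map L.subtype).subgroupOf L)).Normal := by
      rwa [show (D.map L.subtype).subgroupOf L = D from
        comap_map_eq_self_of_injective L.subtype_injective _]
    refine mem_centralizer_map_subtype_iff.1 (h3 (D.map L.subtype) (map_subtype_le _)
      ((normal_subgroupOf_iff_le_normalizer (map_subtype_le _)).1 hDn) ?_ ⟨x, hx, rfl⟩)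
    rintro _ ⟨y, hy, rfl⟩
    obtain ⟨k, hk⟩ := hmod y hy
    exact ⟨k, by simpa using mem_centralizer_map_subtype_iff.2 hk⟩

/-- A `p`-reduced normal subgroup lies in `Y_L`. -/
theorem le_yl {L V : Subgroup G} (hV : ReducedIn p L V) : V ≤ largestPReducedOf p L := by
  rw [largestPReducedOf, ← map_subgroupOf_eq_of_le hV.1]
  refine Subgroup.map_mono (le_sSup (show V.subgroupOf L ∈ {W | IsPReducedNormal p W} from ?_))
  show IsPReducedNormal p (V.subgroupOf L)
  rwa [reducedIn_map_iff, map_subgroupOf_eq_of_le hV.1]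

variable [Finite G] [Fact p.Prime]

/-- `Y_L` is `p`-reduced when `L` has characteristic `p`. -/
theorem yl_reduced {L : Subgroup G} (hL : L ⊓ centralizer (pCoreOf p L : Set G) ≤ pCoreOf p L) :
    ReducedIn p L (largestPReducedOf p L) :=
  reducedIn_map_iff.1 (H72.largestPReduced_spec ((H74.charP_subgroup_iff L).2 hL)).1

omit [Finite G] [Fact p.Prime] in
/-- A member of `𝓛_G` has characteristic `p`. -/
theorem charP_of_mem_charPSubgroups {L : Subgroup G} (hL : L ∈ charPSubgroups p G) :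
    L ⊓ centralizer (pCoreOf p L : Set G) ≤ pCoreOf p L :=
  inf_le_right.trans hL.2

omit [Finite G] [Fact p.Prime] in
/-- A member of `𝓛_G` has a nontrivial `p`-core. -/
theorem pCoreOf_ne_bot {L : Subgroup G} (hL : L ∈ charPSubgroups p G) : pCoreOf p L ≠ ⊥ := fun h =>
  hL.1 ((map_eq_bot_iff_of_injective _ L.subtype_injective).1 h)

omit [Finite G] [Fact p.Prime] in
/-- An elementary abelian group centralizes itself. -/
theorem le_centralizer_of_elementary {V : Subgroup G} (hV : IsElementaryAbelian p V) :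
    V ≤ centralizer (V : Set G) := fun v hv =>
  mem_centralizer_iff.2 fun w hw => congrArg Subtype.val (hV.1.is_comm.comm ⟨w, hw⟩ ⟨v, hv⟩)

omit [Finite G] [Fact p.Prime] in
/-- An elementary abelian group is a `p`-group. -/
theorem isPGroup_of_elementary {V : Subgroup G} (hV : IsElementaryAbelian p V) : IsPGroup p V :=
  fun v => ⟨1, Subtype.ext (by simpa using hV.2 v v.2)⟩

/-- `O_p(L)` centralizes each `p`-reduced normal subgroup of `L`. -/
theorem reducedIn_pCoreOf_le_centralizer {L V : Subgroup G} (hV : ReducedIn p L V) :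
    pCoreOf p L ≤ centralizer (V : Set G) := by
  refine hV.2.2.2 _ (H74.pCoreOf_le L) (H74.le_normalizer_pCoreOf L) fun x hx => ?_
  obtain ⟨k, hk⟩ := H74.pCoreOf_isPGroup (p := p) L ⟨x, hx⟩
  exact ⟨k, by rw [show x ^ p ^ k = 1 from congrArg Subtype.val hk]; exact one_mem _⟩

/-- A `p`-reduced normal subgroup of `L` lies in `O_p(L)`. -/
theorem reducedIn_le_pCoreOf {L V : Subgroup G} (hV : ReducedIn p L V) : V ≤ pCoreOf p L :=
  H74.le_pCoreOf hV.1 hV.2.1 (isPGroup_of_elementary hV.2.2.1)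

/-- `O_p(L)` lies in each Sylow subgroup of `G` inside `L`. -/
theorem pCoreOf_le_sylow {L : Subgroup G} {T : Sylow p G} (hT : (T : Subgroup G) ≤ L) :
    pCoreOf p L ≤ (T : Subgroup G) := by
  rintro _ ⟨x, hx, rfl⟩
  exact H74.pCore_le_sylow (T.subtype hT) hx

/-- The intersection of a Sylow subgroup with a normal subgroup is a Sylow subgroup. -/
theorem exists_sylow_map_eq_inf {M K : Subgroup G} {T : Sylow p G} (hTM : (T : Subgroup G) ≤ M)
    (hKM : K ≤ M) (hMK : M ≤ normalizer (K : Set G)) :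
    ∃ P : Sylow p K, (P : Subgroup K).map K.subtype = (T : Subgroup G) ⊓ K := by
  obtain ⟨P, hP⟩ :=
    ((T.2.to_le inf_le_left).comap_subtype :
      IsPGroup p (((T : Subgroup G) ⊓ K).subgroupOf K)).exists_le_sylow
  have h1 : (T : Subgroup G) ⊓ K ≤ (P : Subgroup K).map K.subtype := by
    rw [← map_subgroupOf_eq_of_le (inf_le_right : (T : Subgroup G) ⊓ K ≤ K)]
    exact Subgroup.map_mono hP
  refine ⟨P, (eq_of_le_of_card_ge h1 ?_).symm⟩
  obtain ⟨S, hS⟩ := ((P.2.map K.subtype).comap_subtype :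
    IsPGroup p (((P : Subgroup K).map K.subtype).subgroupOf M)).exists_le_sylow
  obtain ⟨m, hm⟩ := MulAction.exists_smul_eq M S (T.subtype hTM)
  have h2 : ((P : Subgroup K).map K.subtype).map (MulAut.conj (m : G)).toMonoidHom ≤
      (T : Subgroup G) ⊓ K := by
    rintro _ ⟨x, hx, rfl⟩
    refine ⟨?_, (mem_normalizer_iff.1 (hMK m.2) x).1 (map_subtype_le _ hx)⟩
    have h3 : (MulAut.conj m) ⟨x, hKM (map_subtype_le _ hx)⟩ ∈
        ((T.subtype hTM : Sylow p M) : Subgroup M) := by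
      rw [← hm, Sylow.coe_subgroup_smul]
      exact ⟨⟨x, hKM (map_subtype_le _ hx)⟩, hS hx, rfl⟩
    exact h3
  calc Nat.card ((P : Subgroup K).map K.subtype)
      = Nat.card (((P : Subgroup K).map K.subtype).map (MulAut.conj (m : G)).toMonoidHom) :=
        (Subgroup.card_map_of_injective (MulAut.conj (m : G)).injective).symm
    _ ≤ _ := Nat.le_of_dvd Nat.card_pos (card_dvd_of_le h2)

/-- Frattini argument for `T ⊓ K`. -/
theorem le_inf_normalizer_sup {M K : Subgroup G} {T : Sylow p G} (hTM : (T : Subgroup G) ≤ M)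
    (hKM : K ≤ M) (hMK : M ≤ normalizer (K : Set G)) :
    M ≤ (M ⊓ normalizer ((((T : Subgroup G) ⊓ K : Subgroup G)) : Set G)) ⊔ K := by
  obtain ⟨P, hP⟩ := exists_sylow_map_eq_inf hTM hKM hMK
  intro m hm
  set T₀ := (T : Subgroup G) ⊓ K
  have hle : T₀.map (MulAut.conj m).toMonoidHom ≤ K := by
    rintro _ ⟨x, hx, rfl⟩
    exact (mem_normalizer_iff.1 (hMK hm) x).1 hx.2
  obtain ⟨P', hP'⟩ := (((T.2.to_le inf_le_left).map _).comap_subtype :
    IsPGroup p ((T₀.map (MulAut.conj m).toMonoidHom).subgroupOf K)).exists_le_sylow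
  obtain ⟨k, hk⟩ := MulAction.exists_smul_eq K P' P
  have h1 : T₀.map (MulAut.conj ((k : G) * m)).toMonoidHom ≤ T₀ := by
    rw [← H50.map_conj_map]
    rintro _ ⟨y, hy, rfl⟩
    have h2 : k * ⟨y, hle hy⟩ * k⁻¹ ∈ (P : Subgroup K) := by
      rw [← hk, Sylow.coe_subgroup_smul]
      exact ⟨⟨y, hle hy⟩, hP' hy, by simp⟩
    exact hP.le ⟨_, h2, by simp⟩
  have h3 : (k : G) * m ∈ normalizer (T₀ : Set G) :=
    H50.map_conj_eq_iff.1 (eq_of_le_of_card_ge h1
      (Subgroup.card_map_of_injective (MulAut.conj ((k : G) * m)).injective).ge)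
  have e : m = (k : G)⁻¹ * ((k : G) * m) := by group
  rw [e]
  exact mul_mem (mem_sup_right (inv_mem k.2))
    (mem_sup_left (Subgroup.mem_inf.2 ⟨mul_mem (hKM k.2) hm, h3⟩))

/-- `Y_L` only depends on `L C(Y)`: a `p`-reduced normal subgroup of `L` is one of every `X` with
`X C(V) = L C(V)` containing it. -/
theorem reducedIn_of_sup_eq {L X V : Subgroup G} (hV : ReducedIn p L V) (hVX : V ≤ X)
    (hsup : X ⊔ centralizer (V : Set G) = L ⊔ centralizer (V : Set G)) : ReducedIn p X V := by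
  set C := centralizer (V : Set G)
  have hN : X ≤ normalizer (V : Set G) :=
    le_sup_left.trans (hsup.trans_le (sup_le hV.2.1 (centralizer_le_normalizer _)))
  refine ⟨hVX, hN, hV.2.2.1, fun D hDX hXD hmod => ?_⟩
  have hLC : L ≤ normalizer (C : Set G) := hV.2.1.trans H74.normalizer_le_normalizer_centralizer
  have hXC : X ≤ normalizer (C : Set G) := hN.trans H74.normalizer_le_normalizer_centralizer
  have hDC : D ≤ normalizer (C : Set G) := hDX.trans hXC
  have hXDC : X ⊔ C ≤ normalizer ((D ⊔ C : Subgroup G) : Set G) :=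
    sup_le (H72.le_normalizer_sup hXD hXC) (le_sup_right.trans le_normalizer)
  have hL : L ⊓ (D ⊔ C) ≤ C := by
    refine hV.2.2.2 _ inf_le_left (normalizer_inf_le le_normalizer
      ((le_sup_left.trans hsup.ge).trans hXDC)) ?_
    rintro x ⟨-, hx⟩
    have hx' : x ∈ ((D ⊔ C : Subgroup G) : Set G) := hx
    rw [coe_mul_of_left_le_normalizer_right _ _ hDC] at hx'
    obtain ⟨d, hd, c, hc, rfl⟩ := hx'
    obtain ⟨k, hk⟩ := hmod d hd
    refine ⟨k, ?_⟩
    suffices h : ∀ n : ℕ, (d ^ n)⁻¹ * (d * c) ^ n ∈ C by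
      have := mul_mem hk (h (p ^ k))
      rw [mul_inv_cancel_left] at this
      exact this
    intro n
    induction n with
    | zero => simp
    | succ n ih =>
      have e : (d ^ (n + 1))⁻¹ * (d * c) ^ (n + 1) = ((d ^ n)⁻¹ * c * d ^ n) * ((d ^ n)⁻¹ * (d * c) ^ n) := by
        simp [pow_succ', mul_assoc]
      rw [e]
      refine mul_mem ?_ ih
      have := (mem_normalizer_iff.1 (inv_mem (hDC (pow_mem hd n))) c).1 hc
      simpa using this
  intro d hd
  have hd' : d ∈ ((L ⊔ C : Subgroup G) : Set G) := hsup ▸ mem_sup_left (hDX hd)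
  rw [coe_mul_of_left_le_normalizer_right _ _ hLC] at hd'
  obtain ⟨l, hl, c, hc, rfl⟩ := hd'
  have hlD : l ∈ D ⊔ C := by simpa using mul_mem (mem_sup_left (T := C) hd) (inv_mem (mem_sup_right (S := D) hc))
  exact mul_mem (hL ⟨hl, hlD⟩) hc

/-- Monotonicity: `Y_X ≤ Y_L` for subgroups `X ≤ L` containing a Sylow subgroup of `L`, `L` of characteristic `p`. -/
theorem yl_mono' {L X : Subgroup G} (P : Sylow p L) (hPX : (P : Subgroup L).map L.subtype ≤ X) (hXL : X ≤ L)
    (hL : L ⊓ centralizer (pCoreOf p L : Set G) ≤ pCoreOf p L) {V : Subgroup G}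
    (hV : ReducedIn p X V) : V ≤ largestPReducedOf p L := by
  set R := X.subgroupOf L
  have hR : R.map L.subtype = X := map_subgroupOf_eq_of_le hXL
  have hV' : ReducedIn p R (V.subgroupOf L) := by
    have hVL : V ≤ L := hV.1.trans hXL
    have hc : ∀ {x : L}, (x : G) ∈ centralizer (V : Set G) ↔
        x ∈ centralizer ((V.subgroupOf L : Subgroup L) : Set L) := fun {x} => by
      conv_lhs => rw [← map_subgroupOf_eq_of_le hVL]
      exact mem_centralizer_map_subtype_iff
    refine ⟨fun x hx => hV.1 hx, ?_, ?_, fun D hD hLD hmod x hx => ?_⟩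
    · intro x hx
      rw [mem_normalizer_iff]
      exact fun y => mem_normalizer_iff.1 (hV.2.1 hx) (y : G)
    · rw [← isElementaryAbelian_map_iff, map_subgroupOf_eq_of_le hVL]
      exact hV.2.2.1
    · refine hc.1 (hV.2.2.2 (D.map L.subtype) ((Subgroup.map_mono hD).trans hR.le) ?_ ?_ ⟨x, hx, rfl⟩)
      · rw [← hR]
        exact (Subgroup.map_mono hLD).trans (le_normalizer_map _)
      · rintro _ ⟨y, hy, rfl⟩
        obtain ⟨k, hk⟩ := hmod y hy
        exact ⟨k, by simpa using hc.2 hk⟩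
  rw [← map_subgroupOf_eq_of_le hV'.1, ← reducedIn_map_iff] at hV'
  have h := H72.isPReducedNormal_normalClosure ((H74.charP_subgroup_iff L).2 hL)
    P (R := R) (fun x hx => hPX ⟨x, hx, rfl⟩) hV'
  have h2 := (H72.largestPReduced_spec ((H74.charP_subgroup_iff L).2 hL)).2 _ h
  intro v hv
  exact ⟨⟨v, hXL (hV.1 hv)⟩,
    h2 (subset_normalClosure ⟨⟨⟨v, hXL (hV.1 hv)⟩, hV.1 hv⟩, hv, rfl⟩), rfl⟩

/-- Monotonicity for subgroups containing a Sylow subgroup of the whole group. -/
theorem yl_mono {L X : Subgroup G} {T : Sylow p G} (hTX : (T : Subgroup G) ≤ X) (hXL : X ≤ L)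
    (hL : L ⊓ centralizer (pCoreOf p L : Set G) ≤ pCoreOf p L) {V : Subgroup G}
    (hV : ReducedIn p X V) : V ≤ largestPReducedOf p L :=
  yl_mono' (T.subtype (hTX.trans hXL))
    (by rintro _ ⟨x, hx, rfl⟩; exact hTX hx) hXL hL hV

/-- An element of `T` centralizing `Y_L` and `T ⊓ C(Y_L)`, of exponent `p`, lies in `Y_L`. -/
theorem mem_yl_of_centralizes {L : Subgroup G}
    (hL : L ⊓ centralizer (pCoreOf p L : Set G) ≤ pCoreOf p L) {T : Sylow p G}
    (hTL : (T : Subgroup G) ≤ L) {y : G} (hy : y ∈ (T : Subgroup G))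
    (hyY : y ∈ centralizer (largestPReducedOf p L : Set G))
    (hyT : ∀ t ∈ (T : Subgroup G) ⊓ centralizer (largestPReducedOf p L : Set G), t * y = y * t)
    (hyp : y ^ p = 1) : y ∈ largestPReducedOf p L := by
  obtain ⟨hspec, hmax⟩ := H72.largestPReduced_spec ((H74.charP_subgroup_iff L).2 hL)
  have hs := (H72.largest_structure ((H74.charP_subgroup_iff L).2 hL) (T.subtype hTL) hspec hmax).2.2
  refine ⟨⟨y, hTL hy⟩, ?_, rfl⟩
  rw [SetLike.mem_coe, hs]
  refine Subgroup.subset_closure ⟨⟨⟨hy, mem_centralizer_map_subtype_iff.1 hyY⟩, ?_⟩,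
    Subtype.ext (by simpa using hyp)⟩
  refine mem_centralizer_iff.2 ?_
  rintro ⟨t, htL⟩ ⟨htT, htY⟩
  exact Subtype.ext (hyT t ⟨htT, mem_centralizer_map_subtype_iff.2 htY⟩)

/-- `Ω₁(Z(T)) ≤ Y_L` in element form. -/
theorem mem_yl_of_central {L : Subgroup G}
    (hL : L ⊓ centralizer (pCoreOf p L : Set G) ≤ pCoreOf p L) {T : Sylow p G}
    (hTL : (T : Subgroup G) ≤ L) {y : G} (hy : y ∈ (T : Subgroup G))
    (hyc : ∀ t ∈ (T : Subgroup G), t * y = y * t) (hyp : y ^ p = 1) : y ∈ largestPReducedOf p L :=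
  mem_yl_of_centralizes hL hTL hy
    (mem_centralizer_iff.2 fun z hz =>
      hyc z (pCoreOf_le_sylow hTL (reducedIn_le_pCoreOf (yl_reduced hL) hz)))
    (fun t ht => hyc t ht.1) hyp

/-- In parabolic characteristic `p` every overgroup of a Sylow subgroup with nontrivial `p`-core is in `𝓛`. -/
theorem mem_charPSubgroups_of_parabolic (hG : IsOfParabolicCharacteristic p G) {X : Subgroup G}
    {T : Sylow p G} (hTX : (T : Subgroup G) ≤ X) (hO : pCoreOf p X ≠ ⊥) : X ∈ charPSubgroups p G := by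
  set R := pCoreOf p X
  set N := normalizer (R : Set G)
  have hXN : X ≤ N := H74.le_normalizer_pCoreOf X
  have hc := (H74.charP_subgroup_iff N).1
    (hG R (H74.pCoreOf_isPGroup X) hO ⟨T, hTX.trans hXN⟩)
  have hUR : pCoreOf p N ≤ R := H74.le_pCoreOf ((pCoreOf_le_sylow (hTX.trans hXN)).trans hTX)
    (hXN.trans (H74.le_normalizer_pCoreOf N)) (H74.pCoreOf_isPGroup N)
  refine ⟨fun h => hO (by show (pCore p X).map X.subtype = ⊥; rw [h, Subgroup.map_bot]), ?_⟩
  have h1 : centralizer (R : Set G) ≤ N ⊓ centralizer (pCoreOf p N : Set G) :=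
    le_inf (centralizer_le_normalizer _) (centralizer_le hUR)
  exact h1.trans (hc.trans hUR)

end Cfsg.Agent.H73
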