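import Cfsg.Agent.H73.PClosed
import Cfsg.Agent.H73.WeakClosureResidual
import Cfsg.Agent.H73.YReduced
import Cfsg.Agent.S0542

/-!
Groups generated by a transitive family of subgroups, normal modulo `O_p`.
-/

set_option autoImplicit false

namespace Cfsg.Agent.H73

open Subgroup
open scoped commutatorElement Pointwise

variable {H : Type*} [Group H] [Finite H] {p : ℕ} [Fact p.Prime]

/-- The hypotheses on the family. -/
structure TransFamily (p : ℕ) (𝒦 : Set (Subgroup H)) : Prop where
  nonempty : 𝒦.Nonempty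
  inv : ∀ h : H, ∀ E ∈ 𝒦, E.map (MulAut.conj h).toMonoidHom ∈ 𝒦
  trans : ∀ E ∈ 𝒦, ∀ K ∈ 𝒦, ∃ h : H, K = E.map (MulAut.conj h).toMonoidHom
  res : pResidual p H ≤ sSup 𝒦
  normal : ∀ E ∈ 𝒦, sSup 𝒦 ⊔ pCore p H ≤ normalizer ((E ⊔ pCore p H : Subgroup H) : Set H)

namespace TransFamily

variable {𝒦 : Set (Subgroup H)} (d : TransFamily p 𝒦)
include d

omit [Finite H] [Fact p.Prime] in
theorem sSup_normal : (sSup 𝒦).Normal := by
  constructor
  intro n hn g
  suffices h : (sSup 𝒦).map (MulAut.conj g).toMonoidHom ≤ sSup 𝒦 from h ⟨n, hn, rfl⟩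
  rw [map_le_iff_le_comap]
  exact sSup_le fun E hE x hx => le_sSup (d.inv g E hE) ⟨x, hx, rfl⟩

theorem sup_sylow (T : Sylow p H) : sSup 𝒦 ⊔ (T : Subgroup H) = ⊤ :=
  top_le_iff.1 ((H22.pResidual_sup_sylow T).ge.trans (sup_le_sup_right d.res _))

theorem conj_sup (h : H) (E : Subgroup H) :
    (E ⊔ pCore p H).map (MulAut.conj h).toMonoidHom =
      E.map (MulAut.conj h).toMonoidHom ⊔ pCore p H := by
  haveI := H19.pCore_normal p H
  have hc : (pCore p H).map (MulAut.conj h).toMonoidHom = pCore p H :=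
    H50.map_conj_eq_iff.2 ((Subgroup.le_normalizer_of_normal : (⊤ : Subgroup H) ≤ _) (mem_top h))
  rw [Subgroup.map_sup, hc]

theorem conj_sup_of_mem {h : H} (hh : h ∈ sSup 𝒦) {E : Subgroup H} (hE : E ∈ 𝒦) :
    E.map (MulAut.conj h).toMonoidHom ⊔ pCore p H = E ⊔ pCore p H := by
  rw [← d.conj_sup, H50.map_conj_eq_iff.2 (d.normal E hE (mem_sup_left hh))]

theorem subnormal {E : Subgroup H} (hE : E ∈ 𝒦) : (E ⊔ pCore p H).IsSubnormal := by
  haveI := H19.pCore_normal p H
  haveI := d.sSup_normal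
  have hle : E ⊔ pCore p H ≤ sSup 𝒦 ⊔ pCore p H := sup_le_sup_right (le_sSup hE) _
  exact IsSubnormal.step _ _ hle (Normal.isSubnormal inferInstance)
    ((normal_subgroupOf_iff_le_normalizer hle).2 (d.normal E hE))

theorem pCoreOf_le {E : Subgroup H} (hE : E ∈ 𝒦) : pCoreOf p E ≤ pCore p H := by
  haveI := H19.pCore_normal p H
  set O := pCore p H
  have hp : IsPGroup p (pCoreOf p E ⊔ O : Subgroup H) :=
    (H74.pCoreOf_isPGroup E).to_sup_of_normal_right (H19.pCore_isPGroup p)
  have hn : E ⊔ O ≤ normalizer ((pCoreOf p E ⊔ O : Subgroup H) : Set H) :=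
    sup_le (H72.le_normalizer_sup (H74.le_normalizer_pCoreOf E) le_normalizer_of_normal)
      (le_sup_right.trans Subgroup.le_normalizer)
  have hle : pCoreOf p E ⊔ O ≤ E ⊔ O := sup_le_sup_right (map_subtype_le _) _
  exact le_sup_left.trans (H72.le_pCore_of_isSubnormal
    (IsSubnormal.step _ _ hle (d.subnormal hE) ((normal_subgroupOf_iff_le_normalizer hle).2 hn)) hp)

theorem not_dvd_relIndex {E : Subgroup H} (hE : E ∈ 𝒦) (T : Sylow p H) :
    ¬ p ∣ (T : Subgroup H).relIndex E := by
  haveI := H19.pCore_normal p H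
  set O := pCore p H
  set D := E ⊔ O
  have hO : O ≤ (T : Subgroup H) := H19.pCore_le_sylow T
  obtain ⟨Q, hQ⟩ := S0542.result p D (d.subnormal hE) T
  have h1 : ¬ p ∣ ((T : Subgroup H) ⊓ D).relIndex D := by
    rw [inf_relIndex_right, relIndex, ← hQ]
    exact Q.not_dvd_index
  have hTD : (T : Subgroup H) ⊓ D = ((T : Subgroup H) ⊓ E) ⊔ O := by
    refine le_antisymm ?_ (le_inf (sup_le inf_le_left hO) (sup_le_sup_right inf_le_right _))
    intro x hx
    obtain ⟨hxT, hxD⟩ := Subgroup.mem_inf.1 hx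
    obtain ⟨e, he, o, ho, rfl⟩ := mem_sup_of_normal_right.1 hxD
    exact mul_mem (mem_sup_left (Subgroup.mem_inf.2 ⟨by simpa using mul_mem hxT (inv_mem (hO ho)), he⟩)) (mem_sup_right ho)
  have hOTD : O ≤ (T : Subgroup H) ⊓ D := le_inf hO le_sup_right
  have e1 := relIndex_mul_relIndex O ((T : Subgroup H) ⊓ D) D hOTD inf_le_right
  have e2 : O.relIndex D = O.relIndex E := relIndex_sup_right E O
  have e3 : O.relIndex ((T : Subgroup H) ⊓ D) = O.relIndex ((T : Subgroup H) ⊓ E) := by
    rw [hTD, relIndex_sup_right]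
  have e4 := relIndex_mul_relIndex (O ⊓ E) ((T : Subgroup H) ⊓ E) E (le_inf (inf_le_left.trans hO) inf_le_right)
    inf_le_right
  have e5 : (O ⊓ E).relIndex ((T : Subgroup H) ⊓ E) = O.relIndex ((T : Subgroup H) ⊓ E) := by
    rw [← inf_relIndex_right (O ⊓ E), ← inf_relIndex_right O]
    congr 1
    rw [inf_assoc]
    congr 1
    exact inf_eq_right.2 inf_le_right
  rw [inf_relIndex_right, inf_relIndex_right, e5] at e4
  rw [e3, e2, ← e4] at e1
  have hpos : O.relIndex ((T : Subgroup H) ⊓ E) ≠ 0 := Subgroup.FiniteIndex.index_ne_zero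
  rw [Nat.eq_of_mul_eq_mul_left (Nat.pos_of_ne_zero hpos) e1] at h1
  exact h1

/-- The Sylow subgroup `T ∩ E` of `E`. -/
noncomputable def sylowIn {E : Subgroup H} (hE : E ∈ 𝒦) (T : Sylow p H) : Sylow p E :=
  ((T.2.to_le inf_le_left).comap_of_injective E.subtype E.subtype_injective :
    IsPGroup p (((T : Subgroup H) ⊓ E).subgroupOf E)).toSylow (by
      have h := d.not_dvd_relIndex hE T
      rwa [← inf_relIndex_right] at h)

theorem coe_sylowIn {E : Subgroup H} (hE : E ∈ 𝒦) (T : Sylow p H) :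
    ((d.sylowIn hE T : Sylow p E) : Subgroup E) = ((T : Subgroup H) ⊓ E).subgroupOf E := rfl

end TransFamily

section Minimal

/-- `U` is the largest proper subgroup of `D` containing `T ∩ D`. -/
def IsTopProper (T D U : Subgroup H) : Prop :=
  U < D ∧ T ⊓ D ≤ U ∧ ∀ X : Subgroup H, T ⊓ D ≤ X → X < D → X ≤ U

omit [Finite H] in
theorem IsTopProper.unique {T D U U' : Subgroup H} (h : IsTopProper T D U) (h' : IsTopProper T D U') :
    U = U' :=
  le_antisymm (h'.2.2 U h.2.1 h.1) (h.2.2 U' h'.2.1 h'.1)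

namespace TransFamily

variable {𝒦 : Set (Subgroup H)} (d : TransFamily p 𝒦)
include d

theorem exists_topProper (T : Sylow p H) {E : Subgroup H} (hE : E ∈ 𝒦)
    (hmin : ∀ P : Sylow p ↥E, IsMinimalOver (P : Subgroup ↥E)) :
    ∃ U, IsTopProper (T : Subgroup H) (E ⊔ pCore p H) U := by
  haveI := H19.pCore_normal p H
  set O := pCore p H
  have hO : O ≤ (T : Subgroup H) := H19.pCore_le_sylow T
  obtain ⟨-, M, ⟨hM, hTM⟩, huniq⟩ := hmin (d.sylowIn hE T)
  rw [d.coe_sylowIn] at hTM
  refine ⟨M.map E.subtype ⊔ O, ?_, ?_, fun X hTX hX => ?_⟩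
  · refine lt_of_le_of_ne (sup_le_sup_right (map_subtype_le _) _) fun h => hM.1 ?_
    rw [eq_top_iff]
    rintro ⟨e, he⟩ -
    obtain ⟨_, ⟨m, hm, rfl⟩, o, ho, heq⟩ := mem_sup_of_normal_right.1 (h.ge (mem_sup_left he))
    have hoE : o ∈ E := by
      rw [show o = (E.subtype m)⁻¹ * e by rw [← heq]; group]
      exact mul_mem (inv_mem m.2) he
    have : (⟨o, hoE⟩ : E) ∈ M := hTM (show o ∈ (T : Subgroup H) ⊓ E from ⟨hO ho, hoE⟩)
    convert mul_mem hm this using 1
    exact Subtype.ext heq.symm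
  · intro x hx
    obtain ⟨hxT, hxD⟩ := Subgroup.mem_inf.1 hx
    obtain ⟨e, he, o, ho, rfl⟩ := mem_sup_of_normal_right.1 hxD
    refine mul_mem (mem_sup_left ⟨⟨e, he⟩, hTM ?_, rfl⟩) (mem_sup_right ho)
    exact show e ∈ (T : Subgroup H) ⊓ E from Subgroup.mem_inf.2 ⟨by simpa using mul_mem hxT (inv_mem (hO ho)), he⟩
  · have hOX : O ≤ X := (le_inf hO le_sup_right).trans hTX
    have hne : X.subgroupOf E ≠ ⊤ := fun h => hX.not_ge (sup_le (subgroupOf_eq_top.1 h) hOX)
    obtain ⟨M', hM', hle⟩ := (eq_top_or_exists_le_coatom (X.subgroupOf E)).resolve_left hne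
    have hM'M : M' = M := huniq M' ⟨hM', le_trans (by
      rw [d.coe_sylowIn]
      intro z hz
      exact hTX ⟨(mem_inf.1 hz).1, mem_sup_left z.2⟩) hle⟩
    intro x hx
    obtain ⟨e, he, o, ho, rfl⟩ := mem_sup_of_normal_right.1 (hX.le hx)
    refine mul_mem (mem_sup_left ⟨⟨e, he⟩, hM'M ▸ hle ?_, rfl⟩) (mem_sup_right ho)
    exact show e ∈ X by simpa using mul_mem hx (inv_mem (hOX ho))

theorem isMinimalOver (hmin : ∀ E ∈ 𝒦, ∀ P : Sylow p ↥E, IsMinimalOver (P : Subgroup ↥E))
    (T : Sylow p H) : IsMinimalOver (T : Subgroup H) := by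
  classical
  haveI := H19.pCore_normal p H
  haveI := d.sSup_normal
  set O := pCore p H
  have hgen : normalClosure ((T : Subgroup H) : Set H) = ⊤ := by
    refine eq_top_of_pResidual_sylow T (d.res.trans (sSup_le fun E hE => ?_)) le_normalClosure
    obtain ⟨P⟩ := (inferInstance : Nonempty (Sylow p E))
    rw [← subgroupOf_eq_top, ← top_le_iff, ← (hmin E hE P).1]
    refine normalClosure_le_normal fun x hx => ?_
    obtain ⟨R, hR⟩ := (P.2.map E.subtype).exists_le_sylow
    obtain ⟨g, hg⟩ := MulAction.exists_smul_eq H T R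
    have hxR : (x : H) ∈ (R : Subgroup H) := hR ⟨x, hx, rfl⟩
    rw [← hg, Sylow.coe_subgroup_smul] at hxR
    obtain ⟨t, ht, hte⟩ := hxR
    show (x : H) ∈ normalClosure ((T : Subgroup H) : Set H)
    rw [← hte]
    exact (normalClosure_normal).conj_mem t (le_normalClosure ht) g
  obtain ⟨E₀, hE₀⟩ := d.nonempty
  obtain ⟨U₀, hU₀⟩ := d.exists_topProper T hE₀ (hmin E₀ hE₀)
  have hTne : (T : Subgroup H) ≠ ⊤ := fun h => hU₀.1.not_ge (by
    have := hU₀.2.1
    rwa [h, top_inf_eq] at this)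
  obtain ⟨M, hM, hTM⟩ := (eq_top_or_exists_le_coatom (T : Subgroup H)).resolve_left hTne
  refine ⟨hgen, M, ⟨hM, hTM⟩, ?_⟩
  -- the stabilizer of the largest proper subgroups over `T`
  let P : H → Prop := fun x => ∀ E ∈ 𝒦, ∀ U, IsTopProper (T : Subgroup H) (E ⊔ O) U →
    IsTopProper (T : Subgroup H) (E.map (MulAut.conj x).toMonoidHom ⊔ O)
      (U.map (MulAut.conj x).toMonoidHom)
  have hmul : ∀ a b, P a → P b → P (a * b) := by
    intro a b ha hb E hE U hU
    have := ha _ (d.inv b E hE) _ (hb E hE U hU)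
    rwa [H50.map_conj_map, H50.map_conj_map] at this
  have hid : (MulAut.conj (1 : H)).toMonoidHom = MonoidHom.id H := by ext; simp
  have hone : P 1 := by
    intro E hE U hU
    rwa [hid, Subgroup.map_id, Subgroup.map_id]
  let S : Subgroup H :=
    { carrier := {x | P x}
      mul_mem' := fun {a b} => hmul a b
      one_mem' := hone
      inv_mem' := fun {a} ha => by
        have hp : ∀ n : ℕ, P (a ^ n) := fun n => by
          induction n with
          | zero => rw [pow_zero]; exact hone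
          | succ n ih => rw [pow_succ]; exact hmul _ _ ih ha
        have h1 : a⁻¹ = a ^ (orderOf a - 1) := by
          rw [inv_eq_of_mul_eq_one_left]
          rw [← pow_succ, Nat.sub_add_cancel (orderOf_pos a), pow_orderOf_eq_one]
        show P a⁻¹
        rw [h1]; exact hp _ }
  have hcoatom : ∀ M : Subgroup H, IsCoatom M → (T : Subgroup H) ≤ M → M ≤ S := by
    intro M hM hTM
    have hOM : O ≤ M := (H19.pCore_le_sylow T).trans hTM
    have hproper : ∀ K ∈ 𝒦, ¬ K ⊔ O ≤ M := by
      intro K hK hKM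
      refine hM.1 (top_le_iff.1 ((d.sup_sylow T).ge.trans (sup_le (sSup_le fun K' hK' => ?_) hTM)))
      obtain ⟨h, rfl⟩ := d.trans K hK K' hK'
      have hh : h ∈ (((sSup 𝒦 ⊔ (T : Subgroup H) : Subgroup H)) : Set H) :=
        (d.sup_sylow T).symm ▸ mem_top h
      rw [sup_comm, mul_normal] at hh
      obtain ⟨t, ht, r, hr, rfl⟩ := hh
      refine le_sup_left.trans (b := (K.map (MulAut.conj (t * r)).toMonoidHom) ⊔ O) ?_
      rw [← H50.map_conj_map, ← d.conj_sup, d.conj_sup_of_mem hr hK]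
      exact (Subgroup.map_mono hKM).trans (H50.map_conj_eq_iff.2 (Subgroup.le_normalizer (hTM ht))).le
    intro m hm E hE U hU
    set c := (MulAut.conj m).toMonoidHom
    set c' := (MulAut.conj m⁻¹).toMonoidHom
    have hMm : M.map c = M := H50.map_conj_eq_iff.2 (Subgroup.le_normalizer hm)
    have hcc : ∀ X : Subgroup H, (X.map c').map c = X := fun X => by
      rw [H50.map_conj_map, mul_inv_cancel, hid, Subgroup.map_id]
    have hD : (E ⊔ O).map c = E.map c ⊔ O := d.conj_sup m E
    obtain ⟨U', hU'⟩ := d.exists_topProper T (d.inv m E hE) (hmin _ (d.inv m E hE))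
    have hinj : Function.Injective (Subgroup.map c) := map_injective (MulAut.conj m).injective
    have hlt : U.map c < E.map c ⊔ O := by
      rw [← hD]
      exact lt_of_le_of_ne (Subgroup.map_mono hU.1.le) fun h => hU.1.ne (hinj h)
    have h1 : M ⊓ (E.map c ⊔ O) ≤ U' := hU'.2.2 _ (inf_le_inf_right _ hTM)
      (lt_of_le_of_ne inf_le_right fun h => hproper _ (d.inv m E hE) (h ▸ inf_le_left))
    have h2 : ((T : Subgroup H) ⊓ (E ⊔ O)).map c ≤ U' := by
      refine le_trans (le_inf ((Subgroup.map_mono (inf_le_left.trans hTM)).trans hMm.le) ?_) h1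
      exact (Subgroup.map_mono inf_le_right).trans hD.le
    have h3 : U'.map c' ≤ U := by
      refine hU.2.2 _ ?_ ?_
      · intro x hx
        exact ⟨c x, h2 ⟨x, hx, rfl⟩, by simp [c, c', mul_assoc]⟩
      · refine lt_of_le_of_ne ?_ fun h => hU'.1.ne ?_
        · intro x hx
          have := Subgroup.map_mono (f := c') hU'.1.le hx
          rw [← hD, H50.map_conj_map, inv_mul_cancel, hid, Subgroup.map_id] at this
          exact this
        · rw [← hcc U', h, hD]
    have h4 : U' ≤ U.map c := (hcc U').ge.trans (Subgroup.map_mono h3)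
    exact ⟨hlt, hU'.2.1.trans h4, fun X hTX hX => (hU'.2.2 X hTX hX).trans h4⟩
  have hS : S ≠ ⊤ := by
    intro htop
    have hnorm : E₀ ≤ normalizer (U₀ : Set H) := by
      intro e he
      have h := (htop ▸ mem_top e : e ∈ S) E₀ hE₀ U₀ hU₀
      rw [H50.map_conj_eq_iff.2 (Subgroup.le_normalizer he)] at h
      exact H50.map_conj_eq_iff.1 (h.unique hU₀)
    refine hU₀.1.not_ge (sup_le ?_ ((le_inf (H19.pCore_le_sylow T) le_sup_right).trans hU₀.2.1))
    haveI : (U₀.subgroupOf E₀).Normal := ⟨fun u hu g => (mem_normalizer_iff.1 (hnorm g.2) _).1 hu⟩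
    rw [← subgroupOf_eq_top, ← top_le_iff, ← (hmin E₀ hE₀ (d.sylowIn hE₀ T)).1]
    refine normalClosure_le_normal fun z hz => ?_
    rw [d.coe_sylowIn] at hz
    exact hU₀.2.1 ⟨(mem_inf.1 hz).1, mem_sup_left z.2⟩
  rintro M' ⟨hM', hTM'⟩
  have h1 : M' = S := ((hM'.le_iff.1 (hcoatom M' hM' hTM')).resolve_left hS).symm
  have h2 : M = S := ((hM.le_iff.1 (hcoatom M hM hTM)).resolve_left hS).symm
  rw [h1, h2]

end TransFamily

end Minimal

section Irreducible

/-- Central commutators of `p`-elements vanish modulo `O_p`. -/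
theorem commutator_mem_pCore_of_central {X : Subgroup H} {y : H}
    (hgen : X ≤ closure {e : H | e ∈ X ∧ ∃ k, e ^ (p ^ k) = 1})
    (hsub : (X ⊔ pCore p H).IsSubnormal)
    (hmem : ∀ e ∈ X, ⁅y, e⁆ ∈ X ⊔ pCore p H)
    (hcent : ∀ e ∈ X, ∀ f ∈ X, ⁅⁅y, e⁆, f⁆ ∈ pCore p H) : ∀ e ∈ X, ⁅y, e⁆ ∈ pCore p H := by
  haveI hO := H19.pCore_normal p H
  set O := pCore p H
  set π := QuotientGroup.mk' O with hπ
  have hπ1 : ∀ z, π z = 1 ↔ z ∈ O := fun z => QuotientGroup.eq_one_iff z
  have hbot : pCore p (H ⧸ O) = ⊥ := H19.pCore_quotient_pCore p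
  have hXπ : (X ⊔ O).map π = X.map π := by
    rw [Subgroup.map_sup, QuotientGroup.map_mk'_self, sup_bot_eq]
  intro e he
  have he' := hgen he
  rw [← hπ1]
  clear he
  induction he' using closure_induction with
  | one => simp
  | mul a b _ _ iha ihb =>
    rw [map_commutatorElement] at iha ihb ⊢
    rw [map_mul, commutatorElement_eq_one_iff_mul_comm] at *
    rw [← mul_assoc, iha, mul_assoc, ihb, mul_assoc]
  | inv a _ ih =>
    rw [map_commutatorElement, commutatorElement_eq_one_iff_mul_comm] at ih ⊢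
    rw [map_inv]
    exact ((show Commute (π y) (π a) from ih).inv_right).eq
  | mem a ha =>
    obtain ⟨haX, k, hk⟩ := ha
    set c := π ⁅y, a⁆ with hc
    have hcX : c ∈ X.map π := hXπ ▸ ⟨_, hmem a haX, rfl⟩
    have hccomm : ∀ z ∈ X.map π, Commute c z := by
      rintro _ ⟨f, hf, rfl⟩
      rw [Commute, SemiconjBy, ← commutatorElement_eq_one_iff_mul_comm, hc, ← map_commutatorElement, hπ1]
      exact hcent a haX f hf
    have hca : c * π a = π y * π a * (π y)⁻¹ := by
      rw [hc, commutatorElement_def, map_mul, map_mul, map_mul, map_inv, map_inv]; group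
    have hπa : π a ^ (p ^ k) = 1 := by rw [← map_pow, hk, map_one]
    have hcp : c ^ (p ^ k) = 1 := by
      have h1 : (c * π a) ^ (p ^ k) = 1 := by
        rw [hca, conj_pow, hπa]; group
      rw [(hccomm _ ⟨a, haX, rfl⟩).mul_pow, hπa, mul_one] at h1
      exact h1
    have hz : IsPGroup p (zpowers c) := by
      rintro ⟨z, hz⟩
      obtain ⟨n, rfl⟩ := mem_zpowers_iff.1 hz
      refine ⟨k, Subtype.ext ?_⟩
      show (c ^ n) ^ (p ^ k) = 1
      rw [← zpow_natCast, ← zpow_mul, mul_comm, zpow_mul, zpow_natCast, hcp, one_zpow]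
    have hsubc : (zpowers c).IsSubnormal := by
      refine IsSubnormal.step _ _ ((zpowers_le).2 hcX)
        (hXπ ▸ hsub.map (QuotientGroup.mk'_surjective O)) ((normal_subgroupOf_iff_le_normalizer ((zpowers_le).2 hcX)).2 ?_)
      intro z hz
      refine centralizer_le_normalizer _ (mem_centralizer_iff.2 fun w hw => ?_)
      obtain ⟨n, rfl⟩ := mem_zpowers_iff.1 hw
      exact ((hccomm z hz).zpow_left n).eq
    have := H72.le_pCore_of_isSubnormal hsubc hz (mem_zpowers c)
    rwa [hbot, mem_bot] at this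

omit [Fact p.Prime] in
/-- The closure of the `p`-elements of a subgroup is normalized by it. -/
theorem le_normalizer_closure_pElements (X : Subgroup H) :
    X ≤ normalizer ((closure {e : H | e ∈ X ∧ ∃ k, e ^ (p ^ k) = 1} : Subgroup H) : Set H) := by
  rw [Subgroup.le_normalizer_iff]
  intro x hx z hz
  induction hz using closure_induction with
  | mem a ha =>
    obtain ⟨haX, k, hk⟩ := ha
    refine subset_closure ⟨mul_mem (mul_mem hx haX) (inv_mem hx), k, ?_⟩
    rw [conj_pow, hk]; group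
  | one => simp
  | mul a b _ _ iha ihb => have := mul_mem iha ihb; simpa [mul_assoc] using this
  | inv a _ ih => have := inv_mem ih; simpa [mul_assoc] using this

/-- A strongly `p`-irreducible subgroup is generated by its `p`-elements. -/
theorem le_closure_pElements_of_strongly {E : Subgroup H} (hE : IsStronglyPIrreducible p ↥E) :
    E ≤ closure {e : H | e ∈ E ∧ ∃ k, e ^ (p ^ k) = 1} := by
  set F := (closure {e : H | e ∈ E ∧ ∃ k, e ^ (p ^ k) = 1}).subgroupOf E
  haveI : F.Normal := ⟨fun u hu g => (mem_normalizer_iff.1 (le_normalizer_closure_pElements E g.2) _).1 hu⟩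
  obtain ⟨P⟩ := (inferInstance : Nonempty (Sylow p E))
  have hPF : (P : Subgroup E) ≤ F := by
    intro x hx
    obtain ⟨k, hk⟩ := P.2 ⟨x, hx⟩
    exact subset_closure ⟨x.2, k, congrArg (fun z : (P : Subgroup E) => ((z : E) : H)) hk⟩
  rw [← subgroupOf_eq_top]
  refine eq_top_of_pResidual_sylow P ?_ hPF
  refine hE.2 F inferInstance fun hle => hE.1 fun Q => ?_
  obtain ⟨g, rfl⟩ := MulAction.exists_smul_eq E P Q
  have hn : (P : Subgroup E).Normal := by
    refine ⟨fun x hx g => ?_⟩
    have h1 : ⁅x, g⁆ ∈ (P : Subgroup E) :=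
      H19.pCore_le_sylow P (hle (commutator_mem_commutator (hPF hx) (mem_top g)))
    have h2 : g * x * g⁻¹ = ⁅x, g⁆⁻¹ * x := by rw [commutatorElement_def]; group
    rw [h2]
    exact mul_mem (inv_mem h1) hx
  have : g • P = P := Sylow.smul_eq_of_normal
  rw [this]; exact hn

namespace TransFamily

variable {𝒦 : Set (Subgroup H)} (d : TransFamily p 𝒦) (hs : ∀ E ∈ 𝒦, IsStronglyPIrreducible p ↥E)
include d hs

theorem dichotomy_of_normalized {E : Subgroup H} (hE : E ∈ 𝒦) {Z : Subgroup H} (hZE : Z ≤ E)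
    (hn : E ≤ normalizer (Z : Set H)) :
    (pResidual p ↥E).map E.subtype ≤ Z ∨ ⁅Z, E⁆ ≤ pCore p H := by
  haveI : (Z.subgroupOf E).Normal := (normal_subgroupOf_iff_le_normalizer hZE).2 hn
  by_cases h : ⁅Z.subgroupOf E, (⊤ : Subgroup E)⁆ ≤ pCore p ↥E
  · refine Or.inr (commutator_le.2 fun z hz e he => d.pCoreOf_le hE ?_)
    exact ⟨_, h (commutator_mem_commutator (g₁ := (⟨z, hZE hz⟩ : E)) hz (mem_top (⟨e, he⟩ : E))), rfl⟩
  · refine Or.inl ((Subgroup.map_mono ((hs E hE).2 _ inferInstance h)).trans ?_)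
    rw [map_subgroupOf_eq_of_le hZE]

theorem generated_sSup : sSup 𝒦 ≤ closure {e : H | e ∈ sSup 𝒦 ∧ ∃ k, e ^ (p ^ k) = 1} := by
  refine sSup_le fun E hE => (le_closure_pElements_of_strongly (hs E hE)).trans (closure_mono ?_)
  rintro e ⟨he, hk⟩
  exact ⟨le_sSup hE he, hk⟩

theorem pIrreducible : IsPIrreducible p H := by
  haveI := H19.pCore_normal p H
  haveI := d.sSup_normal
  set O := pCore p H
  set R := sSup 𝒦
  obtain ⟨T⟩ := (inferInstance : Nonempty (Sylow p H))
  refine ⟨fun h => ?_, fun N hN hc => ?_⟩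
  · obtain ⟨E, hE⟩ := d.nonempty
    exact (hs E hE).1 (pClosed_mono le_top (pClosed_top_iff.2 h))
  have hNR : ∀ y ∈ N, ∀ e ∈ R, ⁅y, e⁆ ∈ N ⊓ R := fun y hy e he =>
    mem_inf.2 ⟨commutator_le_left N ⊤ (commutator_mem_commutator hy (mem_top e)),
      commutator_le_right ⊤ R (commutator_mem_commutator (mem_top y) he)⟩
  -- `[N, R] ≤ O` is impossible
  have hno : ¬ ⁅N, R⁆ ≤ O := by
    intro hNRO
    refine hc ((pClosed_normal_iff N T).2 ?_)
    set Q := ((T : Subgroup H) ⊓ N) ⊔ (O ⊓ N) with hQ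
    have hQp : IsPGroup p Q := T.2.to_le (sup_le inf_le_left (inf_le_left.trans (H19.pCore_le_sylow T)))
    obtain ⟨P, hP⟩ := exists_sylow_map_eq_inf (T := T) (M := ⊤) (K := N) le_top le_top
      le_normalizer_of_normal
    have hNQ : N ≤ normalizer (Q : Set H) := by
      have htop := H22.pResidual_sup_sylow P
      have h1 : N = ((pResidual p N).map N.subtype) ⊔ ((T : Subgroup H) ⊓ N) := by
        rw [← hP, ← Subgroup.map_sup, htop, ← MonoidHom.range_eq_map, range_subtype]
      rw [h1, sup_le_iff]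
      constructor
      · refine resid_le_of_coprime fun x hx hxc => ?_
        have hxR : x ∈ R := d.res (H22.mem_pResidual_of_coprime hxc)
        have key : ∀ z ∈ R, ∀ u ∈ Q, z * u * z⁻¹ ∈ Q := by
          intro z hz u hu
          have hset : u ∈ N := (sup_le inf_le_right inf_le_right : Q ≤ N) hu
          have h2 : ⁅u, z⁆ ∈ O ⊓ N :=
            mem_inf.2 ⟨hNRO (commutator_mem_commutator hset hz), (hNR u hset z hz).1⟩
          rw [show z * u * z⁻¹ = ⁅u, z⁆⁻¹ * u by rw [commutatorElement_def]; group]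
          exact mul_mem (inv_mem (mem_sup_right h2)) hu
        refine mem_normalizer_iff.2 fun u => ⟨key x hxR u, fun h => ?_⟩
        simpa [mul_assoc] using key x⁻¹ (inv_mem hxR) _ h
      · exact le_sup_left.trans Subgroup.le_normalizer
    have hQle : Q ≤ pCoreOf p N := H74.le_pCoreOf (sup_le inf_le_right inf_le_right) hNQ hQp
    exact le_sup_left.trans (hQle.trans ((pCoreOf_normal (p := p) N).le.trans inf_le_right))
  set N0 := N ⊓ R with hN0
  obtain ⟨E, hE, hE0⟩ : ∃ E ∈ 𝒦, ¬ ⁅N0, E⁆ ≤ O := by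
    by_contra hcon
    push_neg at hcon
    refine hno (commutator_le.2 fun y hy e he => ?_)
    refine commutator_mem_pCore_of_central (X := R) (y := y) (d.generated_sSup hs)
      (Normal.isSubnormal inferInstance) (fun e he => mem_sup_left (hNR y hy e he).2)
      (fun e he f hf => ?_) e he
    have hle : R ≤ (centralizer ((N0.map (QuotientGroup.mk' O) : Subgroup (H ⧸ O)) : Set (H ⧸ O))).comap
        (QuotientGroup.mk' O) := sSup_le fun K hK k hk => by
      rw [mem_comap, mem_centralizer_iff]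
      rintro _ ⟨n, hn, rfl⟩
      rw [← commutatorElement_eq_one_iff_mul_comm, ← map_commutatorElement]
      exact (QuotientGroup.eq_one_iff _).2 (hcon K hK (commutator_mem_commutator hn hk))
    rw [← QuotientGroup.eq_one_iff, ← QuotientGroup.mk'_apply, map_commutatorElement,
      commutatorElement_eq_one_iff_mul_comm]
    exact mem_centralizer_iff.1 (hle hf) _ ⟨_, hNR y hy e he, rfl⟩
  set Z := E ⊓ (N ⊔ O) with hZ
  have hEZ : E ≤ normalizer (Z : Set H) :=
    normalizer_inf_le Subgroup.le_normalizer le_normalizer_of_normal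
  have hEres : (pResidual p ↥E).map E.subtype ≤ N ⊔ O := by
    rcases d.dichotomy_of_normalized hs hE inf_le_left hEZ with h | h
    · exact h.trans inf_le_right
    · refine absurd (commutator_le.2 fun y hy e he => ?_) hE0
      have hdec : ∀ e ∈ E, ∃ z ∈ Z, ∃ o ∈ O, z * o = ⁅y, e⁆ := by
        intro e he
        have hD : ⁅y, e⁆ ∈ E ⊔ O := by
          rw [commutatorElement_def]
          exact mul_mem ((mem_normalizer_iff.1 (d.normal E hE (mem_sup_left hy.2)) e).1 (mem_sup_left he))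
            (inv_mem (mem_sup_left he))
        obtain ⟨z, hz, o, ho, heq⟩ := mem_sup_of_normal_right.1 hD
        refine ⟨z, mem_inf.2 ⟨hz, ?_⟩, o, ho, heq⟩
        rw [show z = ⁅y, e⁆ * o⁻¹ by rw [← heq]; group]
        exact mul_mem (mem_sup_left (hNR y hy.1 e (le_sSup hE he)).1) (inv_mem (mem_sup_right ho))
      refine commutator_mem_pCore_of_central (X := E) (y := y) (le_closure_pElements_of_strongly (hs E hE))
        (d.subnormal hE) (fun e he => ?_) (fun e he f hf => ?_) e he
      · obtain ⟨z, hz, o, ho, heq⟩ := hdec e he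
        rw [← heq]
        exact mul_mem (mem_sup_left hz.1) (mem_sup_right ho)
      · obtain ⟨z, hz, o, ho, heq⟩ := hdec e he
        rw [← heq, show ⁅z * o, f⁆ = z * ⁅o, f⁆ * z⁻¹ * ⁅z, f⁆ by simp only [commutatorElement_def]; group]
        exact mul_mem ((H19.pCore_normal p H).conj_mem _
          (commutator_le_left O ⊤ (commutator_mem_commutator ho (mem_top f))) z)
          (h (commutator_mem_commutator hz hf))
  set π := QuotientGroup.mk' (N ⊔ O) with hπ
  have hKp : ∀ K ∈ 𝒦, IsPGroup p (K.map π) := by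
    intro K hK
    obtain ⟨g, rfl⟩ := d.trans E hE K hK
    rintro ⟨_, _, ⟨e, he, rfl⟩, rfl⟩
    obtain ⟨k, hk⟩ := H22.exists_pow_mem_pResidual (p := p) (G := E) ⟨e, he⟩
    refine ⟨k, Subtype.ext ?_⟩
    show (π ((MulAut.conj g).toMonoidHom e)) ^ (p ^ k) = 1
    rw [← map_pow, ← map_pow, hπ, QuotientGroup.mk'_apply, QuotientGroup.eq_one_iff]
    exact Subgroup.Normal.conj_mem inferInstance _ (hEres ⟨_, hk, rfl⟩) g
  have hRp : IsPGroup p (R.map π) := by
    refine (H74.pCoreOf_isPGroup (p := p) (R.map π)).to_le ?_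
    rw [map_le_iff_le_comap]
    refine sSup_le fun K hK => ?_
    rw [← map_le_iff_le_comap]
    refine H74.le_pCoreOf (Subgroup.map_mono (le_sSup hK)) ?_ (hKp K hK)
    have : (K ⊔ O).map π = K.map π := by
      rw [Subgroup.map_sup, (Subgroup.map_eq_bot_iff O).2
        ((le_sup_right (a := N)).trans (QuotientGroup.ker_mk' _).ge), sup_bot_eq]
    rw [← this]
    exact (Subgroup.map_mono (le_sup_left.trans (d.normal K hK))).trans (le_normalizer_map π)
  have hNO : pResidual p H ≤ N ⊔ O := by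
    refine H22.pResidual_le_of_isPGroup_quotient _ ?_
    have htop : (R ⊔ (T : Subgroup H)).map π = ⊤ := by
      rw [d.sup_sylow T, Subgroup.map_top_of_surjective _ (QuotientGroup.mk'_surjective _)]
    rw [Subgroup.map_sup] at htop
    haveI : (R.map π).Normal := Subgroup.Normal.map inferInstance π (QuotientGroup.mk'_surjective _)
    have := hRp.to_sup_of_normal_left (T.2.map π)
    rw [htop] at this
    exact this.of_equiv Subgroup.topEquiv
  refine pResidual_le_of_sup_pgroup T.2 ?_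
  exact top_le_iff.1 ((H22.pResidual_sup_sylow T).ge.trans
    (sup_le (hNO.trans (sup_le_sup_left (H19.pCore_le_sylow T) N)) le_sup_right))

theorem residual_dichotomy {E K : Subgroup H} (hE : E ∈ 𝒦) (hK : K ∈ 𝒦) :
    (pResidual p ↥(E ⊔ pCore p H)).map (E ⊔ pCore p H).subtype =
        (pResidual p ↥(K ⊔ pCore p H)).map (K ⊔ pCore p H).subtype ∨
      ⁅E, K⁆ ≤ pCore p H := by
  haveI := H19.pCore_normal p H
  set O := pCore p H
  set X := E ⊓ (K ⊔ O) with hX
  have hnX : E ≤ normalizer (X : Set H) :=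
    normalizer_inf_le Subgroup.le_normalizer ((le_sSup hE).trans (le_sup_left.trans (d.normal K hK)))
  rcases d.dichotomy_of_normalized hs hE inf_le_left hnX with h | h
  · refine Or.inl (eq_of_le_of_card_ge ?_ (le_of_eq ?_))
    · refine resid_le_of_coprime fun x hx hc => mem_resid ?_ hc
      obtain ⟨e, he, o, ho, rfl⟩ := mem_sup_of_normal_right.1 hx
      obtain ⟨k, hk⟩ := H22.exists_pow_mem_pResidual (p := p) (G := E) ⟨e, he⟩
      have hek : e ^ (p ^ k) ∈ K ⊔ O := (h ⟨_, hk, rfl⟩).2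
      have hpow : (e * o) ^ (p ^ k) ∈ K ⊔ O := by
        have h1 : (e ^ (p ^ k))⁻¹ * (e * o) ^ (p ^ k) ∈ O := by
          rw [← QuotientGroup.eq_one_iff, ← QuotientGroup.mk'_apply, map_mul, map_inv, map_pow, map_pow,
            map_mul, (QuotientGroup.mk'_apply O o).trans ((QuotientGroup.eq_one_iff o).2 ho), mul_one,
            inv_mul_cancel]
        have := mul_mem hek (mem_sup_right (S := K) h1)
        rwa [mul_inv_cancel_left] at this
      obtain ⟨j, hj⟩ := exists_pow_eq_self_of_coprime (x := e * o) (n := p ^ k) (hc.symm.pow_left k)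
      rw [← hj]
      exact pow_mem hpow j
    · -- the two residuals are conjugate
      obtain ⟨g, rfl⟩ := d.trans E hE K hK
      rw [← d.conj_sup g E, Subgroup.card_map_of_injective (subtype_injective _),
        Subgroup.card_map_of_injective (subtype_injective _)]
      refine Nat.card_congr (MulEquiv.subgroupMap ((E ⊔ O).equivMapOfInjective _ (MulAut.conj g).injective)
        (pResidual p ↥(E ⊔ O)) |>.trans (MulEquiv.subgroupCongr ?_)).toEquiv |>.symm
      exact H22.map_pResidual_of_surjective _ (MulEquiv.surjective _)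
  · right
    rw [commutator_comm]
    refine commutator_le.2 fun y hy e he => ?_
    have hdec : ∀ e ∈ E, ∃ z ∈ X, ∃ o ∈ O, z * o = ⁅y, e⁆ := by
      intro e he
      have hD : ⁅y, e⁆ ∈ E ⊔ O := by
        rw [commutatorElement_def]
        exact mul_mem ((mem_normalizer_iff.1 (d.normal E hE (mem_sup_left (le_sSup hK hy))) e).1
          (mem_sup_left he)) (inv_mem (mem_sup_left he))
      have hDK : ⁅y, e⁆ ∈ K ⊔ O := by
        rw [commutatorElement_def, mul_assoc, mul_assoc]
        refine mul_mem (mem_sup_left hy) ?_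
        rw [← mul_assoc]
        exact (mem_normalizer_iff.1 (d.normal K hK (mem_sup_left (le_sSup hE he))) _).1
          (inv_mem (mem_sup_left hy))
      obtain ⟨z, hz, o, ho, heq⟩ := mem_sup_of_normal_right.1 hD
      refine ⟨z, mem_inf.2 ⟨hz, ?_⟩, o, ho, heq⟩
      rw [show z = ⁅y, e⁆ * o⁻¹ by rw [← heq]; group]
      exact mul_mem hDK (inv_mem (mem_sup_right ho))
    refine commutator_mem_pCore_of_central (X := E) (y := y) (le_closure_pElements_of_strongly (hs E hE))
      (d.subnormal hE) (fun e he => ?_) (fun e he f hf => ?_) e he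
    · obtain ⟨z, hz, o, ho, heq⟩ := hdec e he
      rw [← heq]
      exact mul_mem (mem_sup_left hz.1) (mem_sup_right ho)
    · obtain ⟨z, hz, o, ho, heq⟩ := hdec e he
      rw [← heq, show ⁅z * o, f⁆ = z * ⁅o, f⁆ * z⁻¹ * ⁅z, f⁆ by simp only [commutatorElement_def]; group]
      exact mul_mem ((H19.pCore_normal p H).conj_mem _
        (commutator_le_left O ⊤ (commutator_mem_commutator ho (mem_top f))) z)
        (h (commutator_mem_commutator hz hf))

end TransFamily

end Irreducible

end Cfsg.Agent.H73
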