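import Cfsg.Agent.H73.YReduced
import Cfsg.Agent.H72.Kieler
import Cfsg.Agent.H74.PGroupAction

/-!
`Y_H` and subnormal subgroups.
-/

set_option autoImplicit false

namespace Cfsg.Agent.H73

open Subgroup
open scoped commutatorElement Pointwise

variable {H : Type*} [Group H] [Finite H] {p : ℕ} [Fact p.Prime]

/-- `A × B` lemma for an abelian `U`, with commutation modulo `C(U)`. -/
theorem mem_centralizer_of_fixed_inf {U B : Subgroup H} (hU : IsPGroup p U)
    (hUc : U ≤ centralizer (U : Set H)) (hB : IsPGroup p B) (hBU : B ≤ normalizer (U : Set H)) {c : H}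
    (hcU : c ∈ normalizer (U : Set H)) (hc : (orderOf c).Coprime p)
    (hcB : ∀ b ∈ B, b * c * b⁻¹ * c⁻¹ ∈ centralizer (U : Set H))
    (hfix : ∀ u ∈ U ⊓ centralizer (B : Set H), Commute c u) : c ∈ centralizer (U : Set H) := by
  have hcm : ∀ u ∈ U, ∀ v ∈ U, u * v = v * u := fun u hu v hv =>
    (mem_centralizer_iff.1 (hUc hv) u hu)
  have hcu : ∀ u ∈ U, c * u * c⁻¹ ∈ U := fun u hu => (mem_normalizer_iff.1 hcU u).1 hu
  let I : Subgroup H :=
    { carrier := {x | ∃ u ∈ U, x = c * u * c⁻¹ * u⁻¹}
      one_mem' := ⟨1, one_mem _, by group⟩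
      mul_mem' := by
        rintro _ _ ⟨u, hu, rfl⟩ ⟨v, hv, rfl⟩
        refine ⟨u * v, mul_mem hu hv, ?_⟩
        calc c * u * c⁻¹ * u⁻¹ * (c * v * c⁻¹ * v⁻¹)
            = c * u * c⁻¹ * (u⁻¹ * (c * v * c⁻¹)) * v⁻¹ := by group
          _ = c * u * c⁻¹ * ((c * v * c⁻¹) * u⁻¹) * v⁻¹ := by
              rw [hcm _ (inv_mem hu) _ (hcu v hv)]
          _ = c * (u * v) * c⁻¹ * (v * u)⁻¹ := by group
          _ = _ := by rw [hcm v hv u hu]
      inv_mem' := by
        rintro _ ⟨u, hu, rfl⟩
        refine ⟨u⁻¹, inv_mem hu, ?_⟩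
        rw [show (c * u * c⁻¹ * u⁻¹)⁻¹ = u * (c * u⁻¹ * c⁻¹) by group,
          hcm _ hu _ (hcu _ (inv_mem hu))]
        group }
  have hIU : I ≤ U := by
    rintro _ ⟨u, hu, rfl⟩
    exact mul_mem (hcu u hu) (inv_mem hu)
  have hBI : B ≤ normalizer (I : Set H) := by
    have key : ∀ b ∈ B, ∀ x ∈ I, b * x * b⁻¹ ∈ I := by
      rintro b hb _ ⟨u, hu, rfl⟩
      have hu' : b * u * b⁻¹ ∈ U := (mem_normalizer_iff.1 (hBU hb) u).1 hu
      refine ⟨b * u * b⁻¹, hu', ?_⟩
      have hz := mem_centralizer_iff.1 (hcB b hb) _ (hcu _ hu')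
      calc b * (c * u * c⁻¹ * u⁻¹) * b⁻¹
          = (b * c * b⁻¹ * c⁻¹) * (c * (b * u * b⁻¹) * c⁻¹) * (b * c * b⁻¹ * c⁻¹)⁻¹ * (b * u * b⁻¹)⁻¹ := by
            group
        _ = _ := by rw [← hz, mul_inv_cancel_right]
    exact le_normalizer_iff.2 key
  by_contra hcC
  have hne : I ≠ ⊥ := by
    intro h
    refine hcC (mem_centralizer_iff.2 fun u hu => ?_)
    have h1 : c * u * c⁻¹ * u⁻¹ = 1 := mem_bot.1 (h.le ⟨u, hu, rfl⟩)
    rw [mul_inv_eq_one, mul_inv_eq_iff_eq_mul] at h1
    exact h1.symm
  obtain ⟨w, ⟨u, hu, rfl⟩, hw1, hwB⟩ := H72.exists_fixed_ne_one (hU.to_le hIU) hB hBI hne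
  have hwU : c * u * c⁻¹ * u⁻¹ ∈ U := mul_mem (hcu u hu) (inv_mem hu)
  have := H74.commute_of_commutator_mem hU
    ((Nat.Prime.coprime_iff_not_dvd Fact.out).1 (Nat.Coprime.symm hc)) (q := u)
    (by rw [commutatorElement_def]; exact hwU)
    (by rw [commutatorElement_def]; exact hfix _ ⟨hwU, hwB⟩)
  exact hw1 (by rw [this.eq, mul_inv_cancel_right, mul_inv_cancel])

/-- The join of all `p`-reduced normal subgroups is `p`-reduced. -/
theorem largestPReduced_isPReducedNormal :
    IsPReducedNormal p (largestPReduced p H) := by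
  have hle : ∀ V : Subgroup H, IsPReducedNormal p V → V ≤ largestPReduced p H :=
    fun V hV => le_sSup (s := {V : Subgroup H | IsPReducedNormal p V}) hV
  have hcomm : largestPReduced p H ≤ centralizer (largestPReduced p H : Set H) := by
    refine sSup_le fun V hV => ?_
    rw [le_centralizer_iff]
    refine sSup_le fun W hW => ?_
    rw [le_centralizer_iff]
    exact (H72.le_pCore hV.1 (isPGroup_of_elementary hV.2.1)).trans (H72.pRed_pCore_le_centralizer hW)
  refine H72.isPReducedNormal_iff.2 ⟨?_, ⟨⟨⟨fun a b => Subtype.ext ?_⟩⟩, ?_⟩, ?_⟩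
  · constructor
    intro n hn g
    suffices h : (largestPReduced p H).map (MulAut.conj g).toMonoidHom ≤ largestPReduced p H from
      h ⟨n, hn, rfl⟩
    rw [Subgroup.map_le_iff_le_comap]
    exact sSup_le fun V hV x hx => hle V hV (hV.1.conj_mem x hx g)
  · exact mem_centralizer_iff.1 (hcomm b.2) a a.2
  · intro a ha
    have ha' : a ∈ closure (⋃ V ∈ {V : Subgroup H | IsPReducedNormal p V}, (V : Set H)) := by
      refine (sSup_le fun V hV x hx => subset_closure (Set.mem_biUnion hV hx) :
        largestPReduced p H ≤ _) ha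
    clear ha
    induction ha' using closure_induction with
    | mem a ha =>
      obtain ⟨V, hV, haV⟩ := Set.mem_iUnion₂.1 ha
      exact hV.2.1.2 a haV
    | one => exact one_pow p
    | inv a _ ih => rw [inv_pow, ih, inv_one]
    | mul a b ha' hb' iha ihb =>
      have hsub : closure (⋃ V ∈ {V : Subgroup H | IsPReducedNormal p V}, (V : Set H)) ≤
          largestPReduced p H := by
        rw [closure_le]
        exact Set.iUnion₂_subset fun V hV => hle V hV
      have hab : Commute a b := mem_centralizer_iff.1 (hcomm (hsub hb')) a (hsub ha')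
      rw [hab.mul_pow, iha, ihb, one_mul]
  · intro D hD hmod
    rw [le_centralizer_iff]
    refine sSup_le fun V hV => ?_
    rw [le_centralizer_iff]
    exact (H72.isPReducedNormal_iff.1 hV).2.2 D hD
      (hmod.mono le_rfl (centralizer_le (SetLike.coe_subset_coe.2 (hle V hV))))

theorem le_largestPReduced {V : Subgroup H} (hV : IsPReducedNormal p V) : V ≤ largestPReduced p H :=
  le_sSup (s := {V : Subgroup H | IsPReducedNormal p V}) hV

/-- For `L ◁ H`, `C_L(Y_H)` centralizes a normal elementary abelian `U` on which `L` is reduced. -/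
theorem inf_centralizer_le_of_normal {L : Subgroup H} [L.Normal] (T : Sylow p H) (n : ℕ) :
    ∀ U : Subgroup H, Nat.card U ≤ n → U.Normal → IsElementaryAbelian p U →
      (∀ D : Subgroup H, D.Normal → D ≤ L → H72.IsPMod p D (centralizer (U : Set H)) →
        D ≤ centralizer (U : Set H)) →
      L ⊓ centralizer (largestPReduced p H : Set H) ≤ centralizer (U : Set H) := by
  induction n with
  | zero => intro U hU; exact absurd hU (Nat.card_pos (α := U)).not_ge
  | succ n ih =>
    intro U hn hUn hUe hred
    haveI := hUn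
    haveI hCn := H72.centralizer_normal hUn
    set π := QuotientGroup.mk' (centralizer (U : Set H))
    set P := (pCore p (H ⧸ centralizer (U : Set H))).comap π with hP
    haveI hPn : P.Normal := Subgroup.Normal.comap (H72.pCore_normal p) π
    have hPmod : H72.IsPMod p P (centralizer (U : Set H)) := by
      rw [H72.isPMod_iff_map, hP,
        Subgroup.map_comap_eq_self_of_surjective (QuotientGroup.mk'_surjective _)]
      exact H72.pCore_isPGroup p
    have hK : (L ⊓ centralizer (largestPReduced p H : Set H)).Normal := by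
      haveI := H72.centralizer_normal (largestPReduced_isPReducedNormal (p := p) (H := H)).1
      infer_instance
    by_cases hPC : P ≤ centralizer (U : Set H)
    · have hUred : IsPReducedNormal p U := by
        refine H72.isPReducedNormal_iff.2 ⟨hUn, hUe, fun D hD hmod => ?_⟩
        refine le_trans ?_ hPC
        rw [hP, ← map_le_iff_le_comap]
        exact H72.le_pCore (Subgroup.Normal.map hD _ (QuotientGroup.mk'_surjective _))
          (H72.isPMod_iff_map.1 hmod)
      exact inf_le_right.trans (centralizer_le (SetLike.coe_subset_coe.2 (le_largestPReduced hUred)))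
    set U0 := U ⊓ centralizer (P : Set H) with hU0
    haveI : (centralizer (P : Set H)).Normal := H72.centralizer_normal hPn
    have hU0n : U0.Normal := inferInstance
    have hlt : Nat.card U0 < Nat.card U := by
      refine H74.card_lt_card_of_lt (lt_of_le_of_ne inf_le_left fun h => hPC ?_)
      rw [le_centralizer_iff, ← h]
      exact inf_le_right
    have hPsup : P ≤ (centralizer (U : Set H)) ⊔ ((T : Subgroup H) ⊓ P) := by
      have hCP : centralizer (U : Set H) ≤ P := fun x hx => by
        rw [hP, mem_comap]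
        rw [show π x = 1 from (QuotientGroup.eq_one_iff x).2 hx]
        exact one_mem _
      exact (H72.normal_le_sup_sylow T hPn hCn hCP hPmod).trans (le_of_eq rfl)
    have hPL : P ⊓ L ≤ centralizer (U : Set H) :=
      hred _ inferInstance inf_le_right (hPmod.mono inf_le_left le_rfl)
    have hUc := le_centralizer_of_elementary hUe
    have hlift : ∀ c ∈ L, (orderOf c).Coprime p → c ∈ centralizer (U0 : Set H) →
        c ∈ centralizer (U : Set H) := by
      intro c hcL hc hcU0
      refine mem_centralizer_of_fixed_inf (isPGroup_of_elementary hUe) hUc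
        (T.2.to_le inf_le_left : IsPGroup p ((T : Subgroup H) ⊓ P : Subgroup H)) le_normalizer_of_normal
        ((le_normalizer_of_normal : (⊤ : Subgroup H) ≤ _) (mem_top c)) hc (fun b hb => ?_) fun u hu => ?_
      · refine hPL (Subgroup.mem_inf.2 ⟨?_, ?_⟩)
        · have := mul_mem hb.2 (hPn.conj_mem _ (inv_mem hb.2) c)
          simpa [mul_assoc] using this
        · exact mul_mem (Subgroup.Normal.conj_mem inferInstance c hcL b) (inv_mem hcL)
      · refine (mem_centralizer_iff.1 hcU0 u (Subgroup.mem_inf.2 ⟨hu.1, ?_⟩)).symm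
        refine centralizer_le (SetLike.coe_subset_coe.2 hPsup) ?_
        rw [mem_centralizer_iff]
        intro x hx
        have hle : centralizer (U : Set H) ⊔ ((T : Subgroup H) ⊓ P) ≤ centralizer ({u} : Set H) := by
          refine sup_le (fun z hz => ?_) (fun z hz => ?_) <;> rw [mem_centralizer_singleton_iff]
          · exact (mem_centralizer_iff.1 hz u hu.1).symm
          · exact mem_centralizer_iff.1 hu.2 z hz
        exact mem_centralizer_singleton_iff.1 (hle hx)
    have hred0 : ∀ D : Subgroup H, D.Normal → D ≤ L → H72.IsPMod p D (centralizer (U0 : Set H)) →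
        D ≤ centralizer (U0 : Set H) := by
      intro D hD hDL hmod
      refine le_trans (hred D hD hDL fun x hx => ?_) (centralizer_le (SetLike.coe_subset_coe.2 inf_le_left))
      refine H72.exists_pow_mem_of_coprime_mem (fun y hy hyc => ?_) hx
      refine hlift y (hDL hy) hyc ?_
      obtain ⟨k, hk⟩ := hmod y hy
      obtain ⟨j, hj⟩ := exists_pow_eq_self_of_coprime (n := p ^ k) (x := y) (hyc.symm.pow_left k)
      rw [← hj]
      exact pow_mem hk j
    have hKU0 := ih U0 (by omega) hU0n (H72.isElementaryAbelian_mono hUe inf_le_left) hred0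
    refine hred _ hK inf_le_left fun x hx => ?_
    exact H72.exists_pow_mem_of_coprime_mem (K := L ⊓ centralizer (largestPReduced p H : Set H))
      (fun y hy hyc => hlift y hy.1 hyc (hKU0 hy)) hx

omit [Finite H] [Fact p.Prime] in
/-- Conjugation by elements normalizing `L` permutes its reduced subgroups. -/
theorem reducedIn_conj {L V : Subgroup H} (hV : ReducedIn p L V) {x : H}
    (hx : x ∈ normalizer (L : Set H)) :
    ReducedIn p L (V.map (MulAut.conj x).toMonoidHom) := by
  set f := (MulAut.conj x).toMonoidHom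
  have hmemL : ∀ z : H, z ∈ L → f z ∈ L := fun z hz => (mem_normalizer_iff.1 hx z).1 hz
  have hmemL' : ∀ z : H, z ∈ L → x⁻¹ * z * x ∈ L := fun z hz => by
    simpa using (mem_normalizer_iff.1 (inv_mem hx) z).1 hz
  refine ⟨?_, ?_, ?_, fun D hDL hLD hmod d hd => ?_⟩
  · rintro _ ⟨v, hv, rfl⟩; exact hmemL v (hV.1 hv)
  · intro l hl
    rw [mem_normalizer_conj_iff]
    exact hV.2.1 (hmemL' l hl)
  · obtain ⟨h1, h2⟩ := hV.2.2.1
    refine ⟨⟨⟨?_⟩⟩, ?_⟩
    · rintro ⟨_, a, ha, rfl⟩ ⟨_, b, hb, rfl⟩
      apply Subtype.ext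
      show f a * f b = f b * f a
      rw [← map_mul, ← map_mul]
      exact congrArg f (congrArg Subtype.val (h1.is_comm.comm ⟨a, ha⟩ ⟨b, hb⟩))
    · rintro _ ⟨a, ha, rfl⟩
      rw [← map_pow, h2 a ha, map_one]
  · have hcent : ∀ z : H, x⁻¹ * z * x ∈ centralizer (V : Set H) →
        z ∈ centralizer ((V.map f : Subgroup H) : Set H) := by
      intro z hz
      rw [mem_centralizer_iff]
      rintro _ ⟨v, hv, rfl⟩
      have := congrArg f (mem_centralizer_iff.1 hz v hv)
      simp only [map_mul, f, MulEquiv.coe_toMonoidHom, MulAut.conj_apply] at this ⊢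
      simpa [mul_assoc] using this
    have hcent' : ∀ z : H, z ∈ centralizer ((V.map f : Subgroup H) : Set H) →
        x⁻¹ * z * x ∈ centralizer (V : Set H) := by
      intro z hz
      rw [mem_centralizer_iff]
      intro v hv
      apply (MulAut.conj x).injective
      have := mem_centralizer_iff.1 hz _ ⟨v, hv, rfl⟩
      simp only [f, MulEquiv.coe_toMonoidHom, MulAut.conj_apply] at this
      simpa [mul_assoc] using this
    refine hcent d (hV.2.2.2 (D.map (MulAut.conj x⁻¹).toMonoidHom) ?_ ?_ ?_ ⟨d, hd, by simp⟩)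
    · rintro _ ⟨z, hz, rfl⟩
      simpa using hmemL' z (hDL hz)
    · intro l hl
      rw [mem_normalizer_conj_iff]
      refine hLD ?_
      simpa [f] using hmemL l hl
    · rintro _ ⟨z, hz, rfl⟩
      obtain ⟨k, hk⟩ := hmod z hz
      refine ⟨k, ?_⟩
      have h' := hcent' _ hk
      rw [← map_pow]
      simpa using h'

/-- `Y_L` is `p`-reduced in `L`. -/
theorem reducedIn_largestPReducedOf (L : Subgroup H) : ReducedIn p L (largestPReducedOf p L) :=
  reducedIn_map_iff.1 largestPReduced_isPReducedNormal

/-- `Y_L` is invariant under `N(L)`. -/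
theorem normalizer_le_normalizer_yl (L : Subgroup H) :
    normalizer (L : Set H) ≤ normalizer (largestPReducedOf p L : Set H) := fun x hx =>
  H50.map_conj_eq_iff.1 (eq_of_le_of_card_ge (le_yl (reducedIn_conj (reducedIn_largestPReducedOf L) hx))
    (Subgroup.card_map_of_injective (MulAut.conj x).injective).ge)

/-- `C_L(Y_H) ≤ C(Y_L)` for subnormal `L`. -/
theorem inf_centralizer_le_centralizer_yl {L : Subgroup H} (hL : L.IsSubnormal) :
    L ⊓ centralizer (largestPReduced p H : Set H) ≤ centralizer (largestPReducedOf p L : Set H) := by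
  induction hL with
  | top =>
    refine inf_le_right.trans (centralizer_le (SetLike.coe_subset_coe.2 ?_))
    obtain ⟨-, hn, he, hr⟩ := reducedIn_largestPReducedOf (p := p) (⊤ : Subgroup H)
    refine le_largestPReduced (H72.isPReducedNormal_iff.2
      ⟨normalizer_eq_top_iff.1 (top_le_iff.1 hn), he, fun D hD hmod => hr D le_top ?_ hmod⟩)
    haveI := hD
    exact le_normalizer_of_normal
  | step L K hLK _ hn ih =>
    intro x hx
    set U := (largestPReducedOf p L).subgroupOf K
    set L' := L.subgroupOf K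
    haveI : L'.Normal := hn
    have hYL := reducedIn_largestPReducedOf (p := p) L
    have hYK : largestPReducedOf p L ≤ K := hYL.1.trans hLK
    have hUn : U.Normal := (normal_subgroupOf_iff_le_normalizer hYK).2
      (((normal_subgroupOf_iff_le_normalizer hLK).1 hn).trans (normalizer_le_normalizer_yl L))
    have hUe : IsElementaryAbelian p U := by
      rw [← isElementaryAbelian_map_iff, map_subgroupOf_eq_of_le hYK]; exact hYL.2.2.1
    have hc : ∀ z : K, z ∈ centralizer (U : Set K) ↔ (z : H) ∈ centralizer (largestPReducedOf p L : Set H) := by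
      intro z
      conv_rhs => rw [← map_subgroupOf_eq_of_le hYK]
      exact mem_centralizer_map_subtype_iff.symm
    have hred : ∀ D : Subgroup K, D.Normal → D ≤ L' → H72.IsPMod p D (centralizer (U : Set K)) →
        D ≤ centralizer (U : Set K) := by
      intro D hD hDL hmod d hd
      rw [hc]
      refine hYL.2.2.2 (D.map K.subtype) ?_ ?_ ?_ ⟨d, hd, rfl⟩
      · rintro _ ⟨z, hz, rfl⟩; exact hDL hz
      · exact hLK.trans ((normal_subgroupOf_iff_le_normalizer (map_subtype_le D)).1 (by
          rwa [show (D.map K.subtype).subgroupOf K = D from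
            comap_map_eq_self_of_injective K.subtype_injective _]))
      · rintro _ ⟨z, hz, rfl⟩
        obtain ⟨k, hk⟩ := hmod z hz
        exact ⟨k, by simpa using (hc _).1 hk⟩
    obtain ⟨T⟩ := (inferInstance : Nonempty (Sylow p K))
    refine (hc ⟨x, hLK hx.1⟩).1 (inf_centralizer_le_of_normal T _ U le_rfl hUn hUe hred
      (x := (⟨x, hLK hx.1⟩ : K)) ⟨hx.1, mem_centralizer_map_subtype_iff.1 (ih ⟨hLK hx.1, hx.2⟩)⟩)

/-- `Y_H ∩ L` is `p`-reduced in a subnormal `L`, with centralizer `C_L(Y_H)`. -/
theorem inter_largestPReduced_spec {L : Subgroup H} (hL : L.IsSubnormal) :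
    L ⊓ centralizer ((largestPReduced p H ⊓ L : Subgroup H) : Set H) ≤
        centralizer (largestPReduced p H : Set H) ∧
      ReducedIn p L (largestPReduced p H ⊓ L) := by
  set Y := largestPReduced p H with hY
  have hYr : IsPReducedNormal p Y := largestPReduced_isPReducedNormal
  haveI := hYr.1
  set W := Y ⊓ L
  have hWn : L ≤ normalizer (W : Set H) :=
    normalizer_inf_le le_normalizer_of_normal Subgroup.le_normalizer
  set C := L ⊓ centralizer (W : Set H)
  have hCW : C ≤ centralizer (Y : Set H) := by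
    have hCn : L ≤ normalizer (C : Set H) := normalizer_inf_le Subgroup.le_normalizer
      (hWn.trans H74.normalizer_le_normalizer_centralizer)
    refine H72.pRed_le_centralizer_of_isSubnormal hYr (IsSubnormal.step C L inf_le_left hL
      ((normal_subgroupOf_iff_le_normalizer inf_le_left).2 hCn)) fun x hx => ?_
    refine H72.exists_pow_mem_of_coprime_mem (fun y hy hyc => ?_) hx
    refine H72.coprime_mem_centralizer_of_series (N := W) (isPGroup_of_elementary hYr.2.1)
      ((le_normalizer_of_normal : (⊤ : Subgroup H) ≤ _) (mem_top y)) hyc (fun u hu => ?_) hy.2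
    refine ⟨commutator_le_left Y ⊤ (commutator_mem_commutator hu (mem_top y)), ?_⟩
    exact (H72.isPReducedNormal_commutator_residual hYr hL).1
      (commutator_mem_commutator hu (H72.mem_pResidual_map hy.1 hyc))
  refine ⟨hCW, inf_le_right, hWn, H72.isElementaryAbelian_mono hYr.2.1 inf_le_left,
    fun D hDL hLD hmod => ?_⟩
  refine le_trans ?_ (centralizer_le (SetLike.coe_subset_coe.2 inf_le_left))
  refine H72.pRed_le_centralizer_of_isSubnormal hYr (IsSubnormal.step D L hDL hL
    ((normal_subgroupOf_iff_le_normalizer hDL).2 hLD)) fun x hx => ?_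
  obtain ⟨k, hk⟩ := hmod x hx
  exact ⟨k, hCW ⟨pow_mem (hDL hx) _, hk⟩⟩

end Cfsg.Agent.H73
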